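import Mathlib.GroupTheory.Perm.Sign
import Mathlib.Data.Fintype.Perm
import Mathlib.GroupTheory.SpecificGroups.Alternating
import Mathlib.GroupTheory.Perm.Cycle.Type

/-!
# Facts on permutations of six letters

Checked by evaluation.
-/

set_option autoImplicit false

open Equiv

namespace CfsgLib.ExtraNine

abbrev P6 := Equiv.Perm (Fin 6)

/-- the three-cycle (0 1 2) -/
def pA : P6 := swap 0 1 * swap 1 2
/-- the three-cycle (3 4 5) -/
def pB : P6 := swap 3 4 * swap 4 5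
/-- (0 3)(1 4 2 5) -/
def pY : P6 := swap 0 3 * (swap 1 4 * swap 4 2 * swap 2 5)
/-- (1 2)(4 5) -/
def pF : P6 := pY * pY
/-- (0 1 2 3 4) -/
def pX : P6 := swap 0 1 * swap 1 2 * swap 2 3 * swap 3 4

theorem sign_pA : Perm.sign pA = 1 := by decide +kernel
theorem sign_pB : Perm.sign pB = 1 := by decide +kernel
theorem sign_pY : Perm.sign pY = 1 := by decide +kernel
theorem sign_pX : Perm.sign pX = 1 := by decide +kernel
theorem pA_three : pA * pA * pA = 1 ∧ pA ≠ 1 := by decide +kernel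
theorem pB_three : pB * pB * pB = 1 ∧ pB ≠ 1 := by decide +kernel
theorem pAB_comm : pA * pB = pB * pA := by decide +kernel
theorem pY_conj : pY * pA * pY⁻¹ = pB ∧ pY * pB * pY⁻¹ = pA⁻¹ ∧ pY * pY * (pY * pY) = 1 := by decide +kernel
theorem pX_five : pX ^ 5 = 1 ∧ pX ≠ 1 := by decide +kernel
theorem pF_dt : pF * pF = 1 ∧ pF ≠ 1 ∧ Perm.sign pF = 1 := by decide +kernel

/-- A double transposition. -/
def IsDt (f : P6) : Prop := f * f = 1 ∧ f ≠ 1 ∧ Perm.sign f = 1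

instance (f : P6) : Decidable (IsDt f) := inferInstanceAs (Decidable (_ ∧ _))

theorem pA_two_dts : ∃ f g : P6, IsDt f ∧ IsDt g ∧ pA = f * g :=
  ⟨swap 0 1 * swap 3 4, swap 1 2 * swap 3 4, by decide +kernel⟩

theorem pB_conj : ∃ h : P6, Perm.sign h = 1 ∧ h * pA * h⁻¹ = pB := ⟨pY, sign_pY, pY_conj.1⟩

theorem isDt_pF : IsDt pF := pF_dt

theorem dt_cycleType {f : P6} (hf : IsDt f) : f.cycleType = Multiset.replicate 2 2 := by
  haveI : Fact (Nat.Prime 2) := ⟨Nat.prime_two⟩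
  have ho : orderOf f = 2 := orderOf_eq_prime (by rw [pow_two]; exact hf.1) hf.2.1
  obtain ⟨n, hn⟩ := Perm.cycleType_prime_order (σ := f) (by rw [ho]; exact Nat.prime_two)
  rw [ho] at hn
  have hs : f.cycleType.sum ≤ 6 := by
    rw [Perm.sum_cycleType]
    exact (Finset.card_le_univ _).trans (le_of_eq (Fintype.card_fin 6))
  have hsg := Perm.sign_of_cycleType f
  rw [hf.2.2, hn, Multiset.sum_replicate, Multiset.card_replicate] at hsg
  rw [hn, Multiset.sum_replicate] at hs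
  simp only [smul_eq_mul] at hs hsg
  have hn2 : n = 0 ∨ n = 1 ∨ n = 2 := by omega
  rcases hn2 with rfl | rfl | rfl
  · exact absurd hsg (by decide)
  · exact hn
  · exact absurd hsg (by decide)

theorem dt_conj : ∀ f : P6, IsDt f → ∃ h : P6, Perm.sign h = 1 ∧ h * pF * h⁻¹ = f := by
  intro f hf
  obtain ⟨h, hh⟩ := isConj_iff.1 (Perm.isConj_iff_cycleType_eq.2
    ((dt_cycleType isDt_pF).trans (dt_cycleType hf).symm))
  rcases Int.units_eq_one_or (Perm.sign h) with hs | hs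
  · exact ⟨h, hs, hh⟩
  · have e : swap 1 2 * pF * (swap 1 2 : P6)⁻¹ = pF := by decide +kernel
    refine ⟨h * swap 1 2, by rw [map_mul, hs, Perm.sign_swap (by decide)]; decide, ?_⟩
    rw [show h * swap 1 2 * pF * (h * swap 1 2)⁻¹ = h * (swap 1 2 * pF * (swap 1 2)⁻¹) * h⁻¹ by group,
      e, hh]

theorem pF_gen : ∃ h k : P6, Perm.sign h = 1 ∧ Perm.sign k = 1 ∧ pF = h * pA * h⁻¹ * (k * pA * k⁻¹) :=
  ⟨swap 0 1 * swap 1 2 * swap 2 4 * swap 4 3, swap 0 2 * swap 2 5 * swap 5 3 * swap 1 4,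
    by decide +kernel⟩

/-- The centralizer of `pF` in `A₆`. -/
def cent8 : Finset P6 :=
  {1, swap 1 2 * swap 4 5, swap 1 4 * swap 2 5, swap 1 5 * swap 2 4, swap 0 3 * swap 4 5,
    swap 0 3 * swap 1 2, swap 0 3 * swap 1 4 * swap 4 2 * swap 2 5,
    swap 0 3 * swap 1 5 * swap 5 2 * swap 2 4}

theorem cent8_eq :
    (Finset.univ.filter fun g : P6 => Perm.sign g = 1 ∧ pF * g = g * pF) = cent8 := by
  decide +kernel

theorem mem_cent8 {g : P6} : g ∈ cent8 ↔ Perm.sign g = 1 ∧ pF * g = g * pF := by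
  rw [← cent8_eq]; simp

theorem cent8_facts : cent8.card = 8 ∧ (cent8.filter fun g => g * g = 1).card = 6 ∧
    (∀ r ∈ cent8, r * r * r = 1 → r = 1) := by
  decide +kernel

theorem conj_mem_cent8 {h f g : P6} (e : h * pF * h⁻¹ = f) :
    h⁻¹ * g * h ∈ cent8 ↔ Perm.sign g = 1 ∧ f * g = g * f := by
  subst e
  rw [mem_cent8, map_mul, map_mul, map_inv, mul_comm _ (Perm.sign h), mul_inv_cancel_left]
  refine and_congr_right fun _ => ⟨fun c => ?_, fun c => ?_⟩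
  · calc h * pF * h⁻¹ * g = h * (pF * (h⁻¹ * g * h)) * h⁻¹ := by group
      _ = g * (h * pF * h⁻¹) := by rw [c]; group
  · calc pF * (h⁻¹ * g * h) = h⁻¹ * (h * pF * h⁻¹ * g) * h := by group
      _ = h⁻¹ * g * h * pF := by rw [c]; group

theorem dt_commute_count : ∀ f : P6, IsDt f →
    (Finset.univ.filter fun g : P6 => Perm.sign g = 1 ∧ g * g = 1 ∧ f * g = g * f).card = 6 := by
  intro f hf
  obtain ⟨h, -, e⟩ := dt_conj f hf
  refine (Finset.card_bij' (fun g _ => h⁻¹ * g * h) (fun g _ => h * g * h⁻¹) (fun g hg => ?_)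
    (fun g hg => ?_) (fun g _ => by group) (fun g _ => by group)).trans cent8_facts.2.1
  · obtain ⟨-, a, b, c⟩ := Finset.mem_filter.1 hg
    refine Finset.mem_filter.2 ⟨(conj_mem_cent8 e).2 ⟨a, c⟩, ?_⟩
    calc h⁻¹ * g * h * (h⁻¹ * g * h) = h⁻¹ * (g * g) * h := by group
      _ = 1 := by rw [b]; group
  · obtain ⟨a, b⟩ := Finset.mem_filter.1 hg
    rw [show g = h⁻¹ * (h * g * h⁻¹) * h by group] at a
    obtain ⟨a1, a2⟩ := (conj_mem_cent8 e).1 a
    refine Finset.mem_filter.2 ⟨Finset.mem_univ _, a1, ?_, a2⟩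
    calc h * g * h⁻¹ * (h * g * h⁻¹) = h * (g * g) * h⁻¹ := by group
      _ = 1 := by rw [b]; group

theorem dt_centralizer_count : ∀ f : P6, IsDt f →
    (Finset.univ.filter fun g : P6 => Perm.sign g = 1 ∧ f * g = g * f).card = 8 := by
  intro f hf
  obtain ⟨h, -, e⟩ := dt_conj f hf
  refine (Finset.card_bij' (fun g _ => h⁻¹ * g * h) (fun g _ => h * g * h⁻¹) (fun g hg => ?_)
    (fun g hg => ?_) (fun g _ => by group) (fun g _ => by group)).trans cent8_facts.1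
  · exact (conj_mem_cent8 e).2 (Finset.mem_filter.1 hg).2
  · rw [show g = h⁻¹ * (h * g * h⁻¹) * h by group] at hg
    exact Finset.mem_filter.2 ⟨Finset.mem_univ _, (conj_mem_cent8 e).1 hg⟩

theorem dt_three : ∀ f : P6, IsDt f → ∀ r : P6, f * r = r * f → r * r * r = 1 → r = 1 := by
  intro f hf r hc h3
  obtain ⟨h, -, e⟩ := dt_conj f hf
  have hs : Perm.sign r = 1 := by
    have := congrArg Perm.sign h3
    rwa [map_mul, map_mul, map_one, Int.units_mul_self, one_mul] at this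
  have := cent8_facts.2.2 _ ((conj_mem_cent8 e).2 ⟨hs, hc⟩)
    (by calc h⁻¹ * r * h * (h⁻¹ * r * h) * (h⁻¹ * r * h) = h⁻¹ * (r * r * r) * h := by group
          _ = 1 := by rw [h3]; group)
  calc r = h * (h⁻¹ * r * h) * h⁻¹ := by group
    _ = 1 := by rw [this]; group

theorem four_self_aux : ∀ x ∈ cent8, ∀ a ∈ cent8, x * x = 1 → x ≠ 1 → x ≠ pF → a * a = 1 →
    x * a = a * x → a = 1 ∨ a = pF ∨ a = x ∨ a = pF * x := by
  decide +kernel

theorem four_self {f f' a : P6} (hf : IsDt f) (hf' : IsDt f') (hne : f ≠ f')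
    (hc : f * f' = f' * f) (h1 : f * a = a * f) (h2 : f' * a = a * f') (h3 : a * a = 1)
    (h4 : Perm.sign a = 1) : a = 1 ∨ a = f ∨ a = f' ∨ a = f * f' := by
  obtain ⟨h, -, rfl⟩ := dt_conj f hf
  obtain ⟨x, rfl⟩ : ∃ x, f' = h * x * h⁻¹ := ⟨h⁻¹ * f' * h, by group⟩
  obtain ⟨b, rfl⟩ : ∃ b, a = h * b * h⁻¹ := ⟨h⁻¹ * a * h, by group⟩
  have mc : ∀ y, Perm.sign (h * y * h⁻¹) = 1 →
      h * pF * h⁻¹ * (h * y * h⁻¹) = h * y * h⁻¹ * (h * pF * h⁻¹) → y ∈ cent8 := fun y s c => by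
    have := (conj_mem_cent8 rfl).2 ⟨s, c⟩
    rwa [show h⁻¹ * (h * y * h⁻¹) * h = y by group] at this
  have cm : ∀ y w : P6, h * y * h⁻¹ * (h * w * h⁻¹) = h * (y * w) * h⁻¹ := fun y w => by group
  rw [cm, cm] at h2
  rw [cm] at h3
  rcases four_self_aux x (mc x hf'.2.2 hc) b (mc b h4 h1)
      (by have := hf'.1; rw [cm] at this; simpa using this)
      (fun r => hf'.2.1 (by rw [r]; group)) (fun r => hne (by rw [r]))
      (by simpa using h3) (by simpa using h2) with r | r | r | r <;> rw [r]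
  · left; group
  · right; left; rfl
  · right; right; left; rfl
  · right; right; right; rw [cm]

/-- An element of a four-group normalizes another conjugate of it, meeting it trivially. -/
theorem four_other_aux : ∀ x ∈ cent8, x * x = 1 → x ≠ 1 → x ≠ pF →
    ∃ h ∈ ({swap 0 1 * swap 2 3, swap 2 4 * swap 4 5} : Finset P6), Perm.sign h = 1 ∧
      (h * pF * h⁻¹ ∉ [pF, x, pF * x] ∧ h * x * h⁻¹ ∉ [pF, x, pF * x] ∧
        h * (pF * x) * h⁻¹ ∉ [pF, x, pF * x]) ∧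
      pF * (h * pF * h⁻¹) * pF⁻¹ ∈ [h * pF * h⁻¹, h * x * h⁻¹, h * (pF * x) * h⁻¹] ∧
      pF * (h * x * h⁻¹) * pF⁻¹ ∈ [h * pF * h⁻¹, h * x * h⁻¹, h * (pF * x) * h⁻¹] := by
  decide +kernel

theorem four_other {f f' : P6} (hf : IsDt f) (hf' : IsDt f') (hne : f ≠ f') (hc : f * f' = f' * f) :
    ∃ h : P6, Perm.sign h = 1 ∧
      (h * f * h⁻¹ ∉ [f, f', f * f'] ∧ h * f' * h⁻¹ ∉ [f, f', f * f'] ∧
        h * (f * f') * h⁻¹ ∉ [f, f', f * f']) ∧
      f * (h * f * h⁻¹) * f⁻¹ ∈ [h * f * h⁻¹, h * f' * h⁻¹, h * (f * f') * h⁻¹] ∧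
      f * (h * f' * h⁻¹) * f⁻¹ ∈ [h * f * h⁻¹, h * f' * h⁻¹, h * (f * f') * h⁻¹] := by
  obtain ⟨g, -, rfl⟩ := dt_conj f hf
  obtain ⟨x, rfl⟩ : ∃ x, f' = g * x * g⁻¹ := ⟨g⁻¹ * f' * g, by group⟩
  have hx : x ∈ cent8 := by
    have := (conj_mem_cent8 (h := g) rfl).2 ⟨hf'.2.2, hc⟩
    rwa [show g⁻¹ * (g * x * g⁻¹) * g = x by group] at this
  have cm : ∀ y w : P6, g * y * g⁻¹ * (g * w * g⁻¹) = g * (y * w) * g⁻¹ := fun y w => by group
  obtain ⟨k, -, hk, ⟨n1, n2, n3⟩, q1, q2⟩ := four_other_aux x hx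
    (by have := hf'.1; rw [cm] at this; simpa using this)
    (fun r => hf'.2.1 (by rw [r]; group)) (fun r => hne (by rw [r]))
  refine ⟨g * k * g⁻¹, by simp [hk], ?_⟩
  have cg : ∀ y : P6, g * k * g⁻¹ * (g * y * g⁻¹) * (g * k * g⁻¹)⁻¹ = g * (k * y * k⁻¹) * g⁻¹ :=
    fun y => by group
  have cf : ∀ y : P6, g * pF * g⁻¹ * (g * y * g⁻¹) * (g * pF * g⁻¹)⁻¹ = g * (pF * y * pF⁻¹) * g⁻¹ :=
    fun y => by group
  have inj : Function.Injective fun y : P6 => g * y * g⁻¹ := fun a b e =>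
    mul_left_cancel (mul_right_cancel e)
  have mem3 : ∀ y a b c : P6,
      g * y * g⁻¹ ∈ [g * a * g⁻¹, g * b * g⁻¹, g * c * g⁻¹] ↔ y ∈ [a, b, c] :=
    fun y a b c => List.mem_map_of_injective (l := [a, b, c]) inj
  rw [cm, cg, cg, cg, cf, cf]
  simp only [mem3]
  exact ⟨⟨n1, n2, n3⟩, q1, q2⟩

end CfsgLib.ExtraNine
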