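import Cfsg.Agent.Lib.Invol.ExtraTransfer
import Cfsg.Agent.Lib.ExtraNine.Perms
import Mathlib.GroupTheory.Abelianization.Defs
import Mathlib.GroupTheory.Perm.Cycle.Type

/-!
# An involution with a large extraspecial subgroup of order `2⁹` and factor inside `S₃ × S₆`

`bar` is the map to `Q/Z`; `RR Q x` and `KK Q x` are the preimages in `Q` of the image and of the
kernel of `[x, ·]` on `Q/Z`.
-/

set_option autoImplicit false
set_option linter.unusedSectionVars false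
set_option linter.style.haveILetI false

namespace CfsgLib.ExtraNine

open Subgroup
open scoped commutatorElement
open CfsgLib.Invol.ExtraTransfer (Data)

abbrev GS := Equiv.Perm (Fin 3) × P6

variable {G : Type*} [Group G]

/-- The hypotheses: `Q` is extraspecial and large at `z`, `π` is the map `C(z) → C(z)/Q ≤ S₃ × S₆`. -/
structure Nine (z : G) (Q : Subgroup G) (π : G → GS) : Prop extends Data z Q where
  card : Nat.card Q = 512
  map_mul : ∀ x y : G, Commute x z → Commute y z → π (x * y) = π x * π y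
  ker : ∀ x : G, Commute x z → (π x = 1 ↔ x ∈ Q)
  range : ∀ p : GS, Equiv.Perm.sign p.1 = 1 → Equiv.Perm.sign p.2 = 1 → ∃ x, Commute x z ∧ π x = p

open Classical in
/-- The map to `Q/Q'`. -/
noncomputable def bar (Q : Subgroup G) (g : G) : Abelianization Q :=
  if h : g ∈ Q then Abelianization.of ⟨g, h⟩ else 1

/-- `[x, Q]Z`. -/
def RR (Q : Subgroup G) (x : G) : Subgroup G :=
  closure {w | w ∈ Q ∧ ∃ q ∈ Q, bar Q w = bar Q (x * q * x⁻¹) * bar Q q}

/-- The fixed points of `x` on `Q/Z`. -/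
def KK (Q : Subgroup G) (x : G) : Subgroup G :=
  closure {q | q ∈ Q ∧ bar Q (x * q * x⁻¹) = bar Q q}

/-- The orthogonal of `H` in `Q`. -/
def perp (Q H : Subgroup G) : Subgroup G := Q ⊓ centralizer (H : Set G)

/-- All `[x, q]` are involutions. -/
def Flat (Q : Subgroup G) (x : G) : Prop := ∀ q ∈ Q, ⁅x, q⁆ * ⁅x, q⁆ = 1

theorem bar_def {Q : Subgroup G} {g : G} (h : g ∈ Q) : bar Q g = Abelianization.of ⟨g, h⟩ := by
  rw [bar, dif_pos h]

theorem bar_mul {Q : Subgroup G} {a b : G} (ha : a ∈ Q) (hb : b ∈ Q) :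
    bar Q (a * b) = bar Q a * bar Q b := by
  rw [bar_def ha, bar_def hb, bar_def (mul_mem ha hb), ← _root_.map_mul]
  rfl

theorem bar_inv {Q : Subgroup G} {a : G} (ha : a ∈ Q) : bar Q a⁻¹ = (bar Q a)⁻¹ := by
  rw [bar_def ha, bar_def (inv_mem ha), ← _root_.map_inv]
  rfl

theorem bar_one {Q : Subgroup G} : bar Q 1 = 1 := by
  rw [bar_def (one_mem Q)]
  exact _root_.map_one _

theorem mem_perp {Q H : Subgroup G} {q : G} :
    q ∈ perp Q H ↔ q ∈ Q ∧ ∀ w ∈ H, Commute q w :=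
  ⟨fun h => ⟨h.1, fun w hw => (mem_centralizer_iff.1 h.2 w hw).symm⟩,
    fun h => ⟨h.1, mem_centralizer_iff.2 fun w hw => (h.2 w hw).symm⟩⟩

theorem perp_le {Q H : Subgroup G} : perp Q H ≤ Q := inf_le_left

theorem perp_anti {Q H H' : Subgroup G} (h : H ≤ H') : perp Q H' ≤ perp Q H :=
  inf_le_inf_left _ (centralizer_le h)

namespace Nine

variable {z : G} {Q : Subgroup G} {π : G → GS} (h : Nine z Q π)
include h

theorem cz {q : G} (hq : q ∈ Q) : Commute q z := h.cmz q hq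

theorem zinv : z⁻¹ = z := inv_eq_of_mul_eq_one_right h.zz

theorem mem_Z {w : G} : w ∈ zpowers z ↔ w = 1 ∨ w = z := by
  refine ⟨fun hw => ?_, ?_⟩
  · obtain ⟨i, rfl⟩ := hw
    rcases Int.even_or_odd i with ⟨j, hj⟩ | ⟨j, hj⟩
    · refine Or.inl ?_
      show z ^ i = 1
      rw [hj, ← two_mul, zpow_mul, zpow_two, h.zz, one_zpow]
    · refine Or.inr ?_
      show z ^ i = z
      rw [hj, zpow_add, zpow_mul, zpow_two, h.zz, one_zpow, one_mul, zpow_one]
  · rintro (rfl | rfl)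
    · exact one_mem _
    · exact mem_zpowers _

theorem Z_le {H : Subgroup G} (hz : z ∈ H) : zpowers z ≤ H := zpowers_le.2 hz

theorem Z_card : Nat.card (zpowers z) = 2 := by rw [Nat.card_zpowers, h.ord]

/-! ### `π` -/

theorem pi_one : π 1 = 1 := (h.ker 1 (Commute.one_left z)).2 (one_mem Q)

theorem pi_inv {x : G} (hx : Commute x z) : π x⁻¹ = (π x)⁻¹ := by
  have := h.map_mul x⁻¹ x hx.inv_left hx
  rw [inv_mul_cancel, h.pi_one] at this
  exact eq_inv_of_mul_eq_one_left this.symm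

theorem pi_mem {q : G} (hq : q ∈ Q) : π q = 1 := (h.ker q (h.cz hq)).2 hq

theorem pi_conj {x y : G} (hx : Commute x z) (hy : Commute y z) :
    π (x * y * x⁻¹) = π x * π y * (π x)⁻¹ := by
  rw [h.map_mul _ _ (hx.mul_left hy) hx.inv_left, h.map_mul _ _ hx hy, h.pi_inv hx]

theorem conj_comm {x y : G} (hx : Commute x z) (hy : Commute y z) : Commute (x * y * x⁻¹) z :=
  (hx.mul_left hy).mul_left hx.inv_left

theorem mem_of_pi_eq {x y : G} (hx : Commute x z) (hy : Commute y z) (e : π x = π y) :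
    x⁻¹ * y ∈ Q := by
  refine (h.ker _ (hx.inv_left.mul_left hy)).1 ?_
  rw [h.map_mul _ _ hx.inv_left hy, h.pi_inv hx, e, inv_mul_cancel]

theorem pi_pow {x : G} (hx : Commute x z) : ∀ n : ℕ, π (x ^ n) = π x ^ n
  | 0 => by rw [pow_zero, pow_zero]; exact h.pi_one
  | n + 1 => by rw [pow_succ, pow_succ, h.map_mul _ _ (hx.pow_left n) hx, pi_pow hx n]

/-! ### Conjugation -/

theorem conjQ {x q : G} (hx : Commute x z) (hq : q ∈ Q) : x * q * x⁻¹ ∈ Q :=
  (mem_normalizer_iff.1 (h.norm x hx) q).1 hq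

theorem conjQ' {x q : G} (hx : Commute x z) (hq : q ∈ Q) : x⁻¹ * q * x ∈ Q := by
  simpa using h.conjQ hx.inv_left hq

theorem commQ {x q : G} (hx : Commute x z) (hq : q ∈ Q) : ⁅x, q⁆ ∈ Q := by
  rw [commutatorElement_def]
  exact mul_mem (h.conjQ hx hq) (inv_mem hq)

theorem comm_mem_Z {a b : G} (ha : a ∈ Q) (hb : b ∈ Q) : ⁅a, b⁆ ∈ zpowers z := by
  rw [commutatorElement_def]
  rcases h.comm a ha b hb with e | e <;> rw [e]
  · group; exact one_mem _
  · rw [show b * a * z * a⁻¹ * b⁻¹ = b * (a * z * a⁻¹) * b⁻¹ by group, (h.cz ha).eq,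
      mul_inv_cancel_right, (h.cz hb).eq, mul_inv_cancel_right]
    exact mem_zpowers z

theorem not_central : ∃ a ∈ Q, ∃ b ∈ Q, ¬ Commute a b := by
  by_contra hc
  push Not at hc
  have h1 : Q ≤ zpowers z := fun a ha => h.mem_Z.2 (h.ctr a ha (hc a ha))
  haveI : Finite (zpowers z) := Nat.finite_of_card_ne_zero (by rw [h.Z_card]; omega)
  have := card_le_of_le h1
  rw [h.card, h.Z_card] at this
  omega

/-! ### `bar` -/

theorem bar_eq_one {w : G} (hw : w ∈ Q) : bar Q w = 1 ↔ w ∈ zpowers z := by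
  have hker : ∀ v : Q, v ∈ commutator Q ↔ (v : G) ∈ zpowers z := by
    intro v
    have h1 : commutator Q ≤ (zpowers z).subgroupOf Q := by
      rw [commutator_def, commutator_le]
      intro a _ b _
      exact h.comm_mem_Z a.2 b.2
    refine ⟨fun hv => h1 hv, fun hv => ?_⟩
    rcases h.mem_Z.1 hv with e | e
    · rw [show v = 1 from Subtype.ext e]; exact one_mem _
    · obtain ⟨a, ha, b, hb, hab⟩ := h.not_central
      have h2 : ⁅(⟨a, ha⟩ : Q), ⟨b, hb⟩⁆ ∈ commutator Q :=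
        commutator_mem_commutator (mem_top _) (mem_top _)
      have h3 : ⁅a, b⁆ = z := by
        rcases h.mem_Z.1 (h.comm_mem_Z ha hb) with e' | e'
        · exact absurd (commutatorElement_eq_one_iff_commute.1 e') hab
        · exact e'
      rwa [show v = ⁅(⟨a, ha⟩ : Q), ⟨b, hb⟩⁆ from Subtype.ext (e.trans h3.symm)]
  rw [bar_def hw, ← MonoidHom.mem_ker, Abelianization.ker_of]
  exact hker ⟨w, hw⟩

theorem bar_z : bar Q z = 1 := (h.bar_eq_one h.memZ).2 (mem_zpowers z)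

theorem bar_mul_z {w : G} (hw : w ∈ Q) : bar Q (w * z) = bar Q w := by
  rw [bar_mul hw h.memZ, h.bar_z, mul_one]

theorem bar_sq {w : G} (hw : w ∈ Q) : bar Q w * bar Q w = 1 := by
  rw [← bar_mul hw hw, h.bar_eq_one (mul_mem hw hw)]
  exact h.sq_mem (mem_zpowers z) hw

theorem bar_inv' {w : G} (hw : w ∈ Q) : bar Q w⁻¹ = bar Q w := by
  rw [bar_inv hw]
  exact inv_eq_of_mul_eq_one_right (h.bar_sq hw)

theorem bar_eq {a b : G} (ha : a ∈ Q) (hb : b ∈ Q) : bar Q a = bar Q b ↔ a⁻¹ * b ∈ zpowers z := by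
  rw [← h.bar_eq_one (mul_mem (inv_mem ha) hb), bar_mul (inv_mem ha) hb, bar_inv ha,
    inv_mul_eq_one]

theorem bar_eq' {a b : G} (ha : a ∈ Q) (hb : b ∈ Q) (e : bar Q a = bar Q b) : b = a ∨ b = a * z := by
  rcases h.mem_Z.1 ((h.bar_eq ha hb).1 e) with e' | e'
  · left; rw [← mul_inv_cancel_left a b, e', mul_one]
  · right; rw [← mul_inv_cancel_left a b, e']

theorem mem_of_bar {H : Subgroup G} (hz : z ∈ H) {a b : G} (ha : a ∈ Q) (hb : b ∈ Q)
    (e : bar Q a = bar Q b) (hH : a ∈ H) : b ∈ H := by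
  rcases h.bar_eq' ha hb e with r | r <;> rw [r]
  · exact hH
  · exact mul_mem hH hz

theorem bar_conj_congr {x a b : G} (hx : Commute x z) (ha : a ∈ Q) (hb : b ∈ Q)
    (e : bar Q a = bar Q b) : bar Q (x * a * x⁻¹) = bar Q (x * b * x⁻¹) := by
  rw [h.bar_eq (h.conjQ hx ha) (h.conjQ hx hb),
    show (x * a * x⁻¹)⁻¹ * (x * b * x⁻¹) = x * (a⁻¹ * b) * x⁻¹ by group]
  rcases h.mem_Z.1 ((h.bar_eq ha hb).1 e) with e' | e' <;> rw [e']
  · group; exact one_mem _
  · rw [hx.eq, mul_inv_cancel_right]; exact mem_zpowers z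

theorem bar_conj_mem {q v : G} (hq : q ∈ Q) (hv : v ∈ Q) : bar Q (q * v * q⁻¹) = bar Q v := by
  rw [bar_mul (mul_mem hq hv) (inv_mem hq), bar_mul hq hv, bar_inv hq, mul_comm (bar Q q),
    mul_inv_cancel_right]

theorem bar_conj_pi {x y v : G} (hx : Commute x z) (hy : Commute y z) (e : π x = π y)
    (hv : v ∈ Q) : bar Q (x * v * x⁻¹) = bar Q (y * v * y⁻¹) := by
  have hq := h.mem_of_pi_eq hx hy e
  rw [show y * v * y⁻¹ = x * ((x⁻¹ * y) * v * (x⁻¹ * y)⁻¹) * x⁻¹ by group]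
  exact h.bar_conj_congr hx hv (h.conjQ (h.cz hq) hv) (h.bar_conj_mem hq hv).symm

theorem bar_comm {x q : G} (hx : Commute x z) (hq : q ∈ Q) :
    bar Q ⁅x, q⁆ = bar Q (x * q * x⁻¹) * bar Q q := by
  rw [commutatorElement_def, bar_mul (h.conjQ hx hq) (inv_mem hq), h.bar_inv' hq]

/-- The commutation form is biadditive. -/
theorem commute_mul {a b c : G} (ha : a ∈ Q) (hb : b ∈ Q) (hc : c ∈ Q) :
    Commute (a * b) c ↔ (Commute a c ↔ Commute b c) := by
  by_cases h1 : Commute a c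
  · refine ⟨fun h2 => ⟨fun _ => ?_, fun _ => h1⟩, fun h2 => h1.mul_left (h2.1 h1)⟩
    have := h1.inv_left.mul_left h2
    rwa [inv_mul_cancel_left] at this
  · refine ⟨fun h2 => ⟨fun h3 => absurd h3 h1, fun h3 => ?_⟩, fun h2 => ?_⟩
    · have := h2.mul_left h3.inv_left
      rw [mul_inv_cancel_right] at this
      exact absurd this h1
    have h3 : ¬ Commute b c := fun h3 => h1 (h2.2 h3)
    rcases h.comm a ha c hc with e | e
    · exact absurd e h1
    rcases h.comm b hb c hc with e' | e'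
    · exact absurd e' h3
    show a * b * c = c * (a * b)
    rw [mul_assoc, e', mul_assoc c b z, ← mul_assoc a c, e, (h.cz hb).eq]
    simp only [mul_assoc]
    rw [← mul_assoc z z, h.zz, one_mul]

theorem commute_congr {a b c : G} (ha : a ∈ Q) (hb : b ∈ Q) (hc : c ∈ Q)
    (e : bar Q a = bar Q b) : Commute a c ↔ Commute b c := by
  rcases h.bar_eq' ha hb e with r | r <;> rw [r]
  rw [h.commute_mul ha h.memZ hc]
  exact ⟨fun h1 => ⟨fun _ => (h.cz hc).symm, fun _ => h1⟩, fun h1 => h1.2 (h.cz hc).symm⟩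

theorem commute_conj {x a b : G} :
    Commute (x * a * x⁻¹) (x * b * x⁻¹) ↔ Commute a b :=
  Commute.conj_iff x

theorem comm_z {a b : G} (ha : a ∈ Q) (hb : b ∈ Q) (hab : ¬ Commute a b) : a * b = b * a * z :=
  (h.comm a ha b hb).resolve_left hab

theorem sq_one_mul {a b : G} (hab : Commute a b) (ha : a * a = 1) (hb : b * b = 1) :
    a * b * (a * b) = 1 := by
  rw [hab.symm.mul_mul_mul_comm, ha, hb, one_mul]

/-! ### Orthogonals -/

theorem z_mem_perp {H : Subgroup G} (hH : H ≤ Q) : z ∈ perp Q H :=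
  mem_perp.2 ⟨h.memZ, fun _ hw => (h.cz (hH hw)).symm⟩

theorem perp_top : perp Q Q ≤ zpowers z := fun a ha =>
  h.mem_Z.2 (h.ctr a ha.1 (mem_perp.1 ha).2)

theorem le_perp_perp {H : Subgroup G} (hH : H ≤ Q) : H ≤ perp Q (perp Q H) := fun a ha =>
  mem_perp.2 ⟨hH ha, fun b hb => ((mem_perp.1 hb).2 a ha).symm⟩

theorem card_pow {H : Subgroup G} (hH : H ≤ Q) : ∃ k ≤ 9, Nat.card H = 2 ^ k := by
  have := Subgroup.card_dvd_of_le hH
  rw [h.card, show 512 = 2 ^ 9 by norm_num] at this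
  exact (Nat.dvd_prime_pow Nat.prime_two).1 this

section finite

variable [Finite G]

theorem perp_card_le : ∀ (n : ℕ) (H : Subgroup G), Nat.card H + n = 512 → H ≤ Q → z ∈ H →
    Nat.card (perp Q H) * Nat.card H ≤ 1024 := by
  intro n
  induction n using Nat.strongRecOn with
  | ind n ih =>
  intro H hn hH hz
  by_cases hQ : Q ≤ H
  · rw [le_antisymm hH hQ, h.card]
    have := card_le_of_le h.perp_top
    rw [h.Z_card] at this
    omega
  obtain ⟨c, hc, hcH⟩ := SetLike.not_le_iff_exists.1 hQ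
  set H' := H ⊔ zpowers c with hH'
  have hH'Q : H' ≤ Q := sup_le hH (zpowers_le.2 hc)
  have hcH' : c ∈ H' := mem_sup_right (mem_zpowers c)
  have h2 : 2 * Nat.card H ≤ Nat.card H' := by
    have := Nat.card_le_card_of_injective (fun t : Bool × H => (⟨(if t.1 then c else 1) * t.2,
      mul_mem (by split <;> simp [hcH']) (mem_sup_left t.2.2)⟩ : H')) (by
        rintro ⟨b, w⟩ ⟨b', w'⟩ e
        have e' : (if b then c else 1) * (w : G) = (if b' then c else 1) * w' :=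
          congrArg Subtype.val e
        cases b <;> cases b' <;> simp at e'
        · subst e'; rfl
        · exact absurd (by rw [show c = (w : G) * (w' : G)⁻¹ by rw [e']; group]
                           exact mul_mem w.2 (inv_mem w'.2)) hcH
        · exact absurd (by rw [show c = (w' : G) * (w : G)⁻¹ by rw [← e']; group]
                           exact mul_mem w'.2 (inv_mem w.2)) hcH
        · subst e'; rfl)
    simpa [Nat.card_prod] using this
  have h3 : Nat.card H' ≤ 512 := h.card ▸ card_le_of_le hH'Q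
  have hpos : 0 < Nat.card H := Nat.card_pos
  have hIH := ih (512 - Nat.card H') (by omega) H' (by omega) hH'Q (mem_sup_left hz)
  have h4 : Nat.card (perp Q H) ≤ 2 * Nat.card (perp Q H') := by
    classical
    have hmem : ∀ x ∈ perp Q H, Commute x c → x ∈ perp Q H' := by
      intro x hx hxc
      refine ⟨hx.1, ?_⟩
      have hle : H' ≤ centralizer {x} :=
        sup_le (fun b hb => mem_centralizer_singleton_iff.2 ((mem_perp.1 hx).2 b hb).eq.symm)
          (zpowers_le.2 (mem_centralizer_singleton_iff.2 hxc.eq.symm))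
      exact mem_centralizer_iff.2 fun b hb => mem_centralizer_singleton_iff.1 (hle hb)
    by_cases hex : ∃ x₀ ∈ perp Q H, ¬ Commute x₀ c
    · obtain ⟨x₀, hx₀, hx₀c⟩ := hex
      have hkey : ∀ x : perp Q H,
          (if Commute (x : G) c then (x : G) else x₀ * x) ∈ perp Q H' := by
        intro x
        split
        · exact hmem x x.2 ‹_›
        · refine hmem _ (mul_mem hx₀ x.2) ?_
          rw [h.commute_mul hx₀.1 x.2.1 hc]
          exact ⟨fun e => absurd e hx₀c, fun e => absurd e ‹_›⟩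
      refine (Nat.card_le_card_of_injective (β := Bool × perp Q H')
        (fun x : perp Q H => (decide (Commute (x : G) c), ⟨_, hkey x⟩)) ?_).trans
        (le_of_eq (by rw [Nat.card_prod]; simp))
      intro x y e
      simp only [Prod.mk.injEq, decide_eq_decide, Subtype.mk.injEq] at e
      obtain ⟨e1, e2⟩ := e
      by_cases hx : Commute (x : G) c
      · rw [if_pos hx, if_pos (e1.1 hx)] at e2; exact Subtype.ext e2
      · rw [if_neg hx, if_neg (fun hy => hx (e1.2 hy))] at e2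
        exact Subtype.ext (mul_left_cancel e2)
    · push Not at hex
      exact (card_le_of_le fun x hx => hmem x hx (hex x hx)).trans
        (Nat.le_mul_of_pos_left _ two_pos)
  calc Nat.card (perp Q H) * Nat.card H ≤ 2 * Nat.card (perp Q H') * Nat.card H :=
        Nat.mul_le_mul_right _ h4
    _ = Nat.card (perp Q H') * (2 * Nat.card H) := by ring
    _ ≤ Nat.card (perp Q H') * Nat.card H' := Nat.mul_le_mul_left _ h2
    _ ≤ 1024 := hIH

theorem perp_card {H : Subgroup G} (hH : H ≤ Q) (hz : z ∈ H) :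
    Nat.card (perp Q H) * Nat.card H = 1024 := by
  have h1 := h.two_mul_card_le _ H rfl hH hz
  rw [h.card] at h1
  have h2 : Nat.card H ≤ 512 := h.card ▸ card_le_of_le hH
  exact le_antisymm (h.perp_card_le (512 - Nat.card H) H (by omega) hH hz) h1

theorem perp_perp {H : Subgroup G} (hH : H ≤ Q) (hz : z ∈ H) : perp Q (perp Q H) = H := by
  refine (eq_of_le_of_card_ge (h.le_perp_perp hH) ?_).symm
  have h1 := h.perp_card (H := perp Q H) perp_le (h.z_mem_perp hH)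
  have h2 := h.perp_card hH hz
  rw [mul_comm (Nat.card (perp Q H)) (Nat.card H), ← h1] at h2
  exact le_of_eq (Nat.eq_of_mul_eq_mul_right (Nat.card_pos (α := perp Q H)) h2).symm

/-- Lagrange for two subgroups between `Z` and `Q`. -/
theorem card_sup {A B : Subgroup G} (hA : A ≤ Q) (hB : B ≤ Q) (hzA : z ∈ A) (hzB : z ∈ B) :
    Nat.card ↥(A ⊔ B) * Nat.card ↥(A ⊓ B) = Nat.card A * Nat.card B := by
  have key : ∀ A B : Subgroup G,
      Nat.card A * Nat.card B ≤ Nat.card ↥(A ⊔ B) * Nat.card ↥(A ⊓ B) := by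
    intro A B
    classical
    let pick : ↥(A ⊔ B) → A := fun s =>
      if e : ∃ a : A, (a : G)⁻¹ * s ∈ B then e.choose else 1
    have hpick : ∀ (a : A) (b : B), ((pick ⟨a * b, mul_mem (mem_sup_left a.2) (mem_sup_right b.2)⟩ : A) : G)⁻¹ * a ∈ A ⊓ B := by
      intro a b
      refine mem_inf.2 ⟨mul_mem (inv_mem (pick _).2) a.2, ?_⟩
      have e : ∃ a' : A, (a' : G)⁻¹ * (a * b : G) ∈ B := ⟨a, by simp⟩
      simp only [pick, dif_pos e]
      have := mul_mem e.choose_spec (inv_mem b.2)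
      rwa [← mul_assoc, mul_inv_cancel_right] at this
    rw [← Nat.card_prod, ← Nat.card_prod]
    refine Nat.card_le_card_of_injective (fun t : A × B =>
      ((⟨t.1 * t.2, mul_mem (mem_sup_left t.1.2) (mem_sup_right t.2.2)⟩ : ↥(A ⊔ B)),
        (⟨_, hpick t.1 t.2⟩ : ↥(A ⊓ B)))) ?_
    rintro ⟨a, b⟩ ⟨a', b'⟩ e
    simp only [Prod.mk.injEq, Subtype.mk.injEq] at e
    obtain ⟨e1, e2⟩ := e
    have e3 : (a : G) = a' := by
      simp only [e1] at e2
      exact mul_left_cancel e2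
    rw [e3] at e1
    exact Prod.ext (Subtype.ext e3) (Subtype.ext (mul_left_cancel e1))
  refine le_antisymm ?_ (key A B)
  have h1 := h.perp_card (sup_le hA hB) (mem_sup_left hzA)
  have h2 := h.perp_card (inf_le_left.trans hA) (mem_inf.2 ⟨hzA, hzB⟩)
  have h3 := h.perp_card hA hzA
  have h4 := h.perp_card hB hzB
  have h5 : perp Q A ⊔ perp Q B ≤ perp Q (A ⊓ B) :=
    sup_le (perp_anti inf_le_left) (perp_anti inf_le_right)
  have h6 : perp Q A ⊓ perp Q B ≤ perp Q (A ⊔ B) := by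
    intro x hx
    refine ⟨hx.1.1, ?_⟩
    have hle : A ⊔ B ≤ centralizer {x} := sup_le
      (fun a ha => mem_centralizer_singleton_iff.2 ((mem_perp.1 hx.1).2 a ha).eq.symm)
      (fun a ha => mem_centralizer_singleton_iff.2 ((mem_perp.1 hx.2).2 a ha).eq.symm)
    exact mem_centralizer_iff.2 fun b hb => mem_centralizer_singleton_iff.1 (hle hb)
  have h7 := key (perp Q A) (perp Q B)
  have h8 := h7.trans (Nat.mul_le_mul (card_le_of_le h5) (card_le_of_le h6))
  set a := Nat.card A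
  set b := Nat.card B
  set s := Nat.card ↥(A ⊔ B)
  set i := Nat.card ↥(A ⊓ B)
  set pa := Nat.card (perp Q A)
  set pb := Nat.card (perp Q B)
  set ps := Nat.card (perp Q (A ⊔ B))
  set pi := Nat.card (perp Q (A ⊓ B))
  have hpp : 0 < pa * pb := Nat.mul_pos Nat.card_pos Nat.card_pos
  have : pa * pb * (s * i) ≤ pa * pb * (a * b) :=
    calc pa * pb * (s * i) ≤ pi * ps * (s * i) := Nat.mul_le_mul_right _ h8
      _ = (ps * s) * (pi * i) := by ring
      _ = (pa * a) * (pb * b) := by rw [h1, h2, h3, h4]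
      _ = pa * pb * (a * b) := by ring
  exact Nat.le_of_mul_le_mul_left this hpp

theorem abelian_card {A : Subgroup G} (hA : A ≤ Q) (hz : z ∈ A)
    (hab : ∀ a ∈ A, ∀ b ∈ A, Commute a b) : Nat.card A ≤ 32 := by
  have h1 := h.perp_card hA hz
  have h2 : A ≤ perp Q A := fun a ha => mem_perp.2 ⟨hA ha, hab a ha⟩
  have h3 := Nat.mul_le_mul_right (Nat.card A) (card_le_of_le h2)
  rw [h1] at h3
  nlinarith

/-! ### `RR` and `KK` -/

theorem mem_K {x : G} (hx : Commute x z) {q : G} :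
    q ∈ KK Q x ↔ q ∈ Q ∧ bar Q (x * q * x⁻¹) = bar Q q := by
  refine ⟨fun hq => ?_, fun hq => subset_closure hq⟩
  induction hq using closure_induction with
  | mem w hw => exact hw
  | one => exact ⟨one_mem Q, by rw [mul_one, mul_inv_cancel]⟩
  | mul a b _ _ ha hb =>
    refine ⟨mul_mem ha.1 hb.1, ?_⟩
    rw [show x * (a * b) * x⁻¹ = x * a * x⁻¹ * (x * b * x⁻¹) by group,
      bar_mul (h.conjQ hx ha.1) (h.conjQ hx hb.1), bar_mul ha.1 hb.1, ha.2, hb.2]
  | inv a _ ha =>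
    refine ⟨inv_mem ha.1, ?_⟩
    rw [show x * a⁻¹ * x⁻¹ = (x * a * x⁻¹)⁻¹ by group, bar_inv (h.conjQ hx ha.1), bar_inv ha.1,
      ha.2]

theorem mem_R {x : G} (hx : Commute x z) {w : G} :
    w ∈ RR Q x ↔ w ∈ Q ∧ ∃ q ∈ Q, bar Q w = bar Q (x * q * x⁻¹) * bar Q q := by
  refine ⟨fun hq => ?_, fun hq => subset_closure hq⟩
  induction hq using closure_induction with
  | mem w hw => exact hw
  | one =>
    exact ⟨one_mem Q, 1, one_mem Q, by rw [mul_one, mul_inv_cancel, bar_one, one_mul]⟩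
  | mul a b _ _ ha hb =>
    obtain ⟨ha, p, hp, ea⟩ := ha
    obtain ⟨hb, q, hq, eb⟩ := hb
    refine ⟨mul_mem ha hb, p * q, mul_mem hp hq, ?_⟩
    rw [show x * (p * q) * x⁻¹ = x * p * x⁻¹ * (x * q * x⁻¹) by group,
      bar_mul (h.conjQ hx hp) (h.conjQ hx hq), bar_mul hp hq, bar_mul ha hb, ea, eb,
      mul_mul_mul_comm]
  | inv a _ ha =>
    obtain ⟨ha, p, hp, ea⟩ := ha
    exact ⟨inv_mem ha, p, hp, by rw [h.bar_inv' ha, ea]⟩

theorem K_le (x : G) : KK Q x ≤ Q := (closure_le _).2 fun _ hw => hw.1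
theorem R_le (x : G) : RR Q x ≤ Q := (closure_le _).2 fun _ hw => hw.1

theorem z_mem_K {x : G} (hx : Commute x z) : z ∈ KK Q x :=
  (h.mem_K hx).2 ⟨h.memZ, by rw [hx.eq, mul_inv_cancel_right]⟩

theorem z_mem_R {x : G} (hx : Commute x z) : z ∈ RR Q x :=
  (h.mem_R hx).2 ⟨h.memZ, 1, one_mem Q, by rw [mul_one, mul_inv_cancel, bar_one, h.bar_z, one_mul]⟩

theorem comm_mem_R {x q : G} (hx : Commute x z) (hq : q ∈ Q) : ⁅x, q⁆ ∈ RR Q x :=
  (h.mem_R hx).2 ⟨h.commQ hx hq, q, hq, h.bar_comm hx hq⟩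

theorem exists_comm_of_R {x w : G} (hx : Commute x z) (hw : w ∈ RR Q x) :
    ∃ q ∈ Q, w = ⁅x, q⁆ ∨ w = ⁅x, q⁆ * z := by
  obtain ⟨hw, q, hq, e⟩ := (h.mem_R hx).1 hw
  exact ⟨q, hq, h.bar_eq' (h.commQ hx hq) hw (by rw [h.bar_comm hx hq, e])⟩

theorem comm_mem_Z_iff {x q : G} (hx : Commute x z) (hq : q ∈ Q) :
    ⁅x, q⁆ ∈ zpowers z ↔ q ∈ KK Q x := by
  rw [h.mem_K hx, and_iff_right hq, ← h.bar_eq_one (h.commQ hx hq), h.bar_comm hx hq]
  refine ⟨fun e => ?_, fun e => by rw [e, h.bar_sq hq]⟩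
  calc bar Q (x * q * x⁻¹) = bar Q (x * q * x⁻¹) * bar Q q * bar Q q := by
        rw [mul_assoc (bar Q (x * q * x⁻¹)), h.bar_sq hq, mul_one]
    _ = bar Q q := by rw [e, one_mul]

theorem commute_R_K {x r k : G} (hx : Commute x z) (hr : r ∈ RR Q x) (hk : k ∈ KK Q x) :
    Commute r k := by
  obtain ⟨hrQ, q, hq, e⟩ := (h.mem_R hx).1 hr
  obtain ⟨hkQ, e'⟩ := (h.mem_K hx).1 hk
  rw [← bar_mul (h.conjQ hx hq) hq] at e
  rw [h.commute_congr hrQ (mul_mem (h.conjQ hx hq) hq) hkQ e,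
    h.commute_mul (h.conjQ hx hq) hq hkQ]
  have h1 : Commute (x * q * x⁻¹) k ↔ Commute (x * q * x⁻¹) (x * k * x⁻¹) := by
    rw [Commute.symm_iff, h.commute_congr hkQ (h.conjQ hx hkQ) (h.conjQ hx hq) e'.symm,
      Commute.symm_iff]
  rw [h1, h.commute_conj]

/-- A section of `h ↦ [x, h]`. -/
theorem two_mul_le {x : G} (hx : Commute x z) {H L : Subgroup G} (hH : H ≤ Q) (hzH : z ∈ H)
    (hzL : z ∈ L) (hL : ∀ a ∈ H, ⁅x, a⁆ ∈ L) :
    2 * Nat.card H ≤ Nat.card L * Nat.card ↥(KK Q x ⊓ H) := by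
  classical
  let pick : L → G := fun l => if e : ∃ a ∈ H, bar Q ⁅x, a⁆ = bar Q l then e.choose else 1
  have hpick : ∀ (b : Bool) (a : H),
      (pick ⟨⁅x, (a : G)⁆ * (if b then z else 1),
        mul_mem (hL a a.2) (by split <;> simp [hzL])⟩)⁻¹ * a ∈ KK Q x ⊓ H := by
    intro b a
    have hb : bar Q (⁅x, (a : G)⁆ * (if b then z else 1)) = bar Q ⁅x, (a : G)⁆ := by
      split
      · exact h.bar_mul_z (h.commQ hx (hH a.2))
      · rw [mul_one]
    have e : ∃ a' ∈ H, bar Q ⁅x, a'⁆ = bar Q (⁅x, (a : G)⁆ * (if b then z else 1)) :=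
      ⟨a, a.2, hb.symm⟩
    simp only [pick, dif_pos e]
    obtain ⟨h1, h2⟩ := e.choose_spec
    refine mem_inf.2 ⟨(h.mem_K hx).2 ⟨mul_mem (inv_mem (hH h1)) (hH a.2), ?_⟩,
      mul_mem (inv_mem h1) a.2⟩
    replace h2 := h2.trans hb
    rw [h.bar_comm hx (hH h1), h.bar_comm hx (hH a.2)] at h2
    set c := e.choose
    rw [show x * (c⁻¹ * a) * x⁻¹ = (x * c * x⁻¹)⁻¹ * (x * a * x⁻¹) by group,
      bar_mul (inv_mem (h.conjQ hx (hH h1))) (h.conjQ hx (hH a.2)),
      h.bar_inv' (h.conjQ hx (hH h1)), bar_mul (inv_mem (hH h1)) (hH a.2), h.bar_inv' (hH h1)]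
    have k : bar Q (x * c * x⁻¹) * bar Q c * (bar Q (x * a * x⁻¹) * bar Q (a : G)) = 1 := by
      rw [h2, mul_mul_mul_comm, h.bar_sq (h.conjQ hx (hH a.2)), h.bar_sq (hH a.2), one_mul]
    rw [mul_mul_mul_comm] at k
    refine mul_right_cancel (k.trans ?_)
    rw [mul_mul_mul_comm, h.bar_sq (hH h1), h.bar_sq (hH a.2), one_mul]
  calc 2 * Nat.card H = Nat.card (Bool × H) := by simp [Nat.card_prod]
    _ ≤ Nat.card (L × ↥(KK Q x ⊓ H)) := Nat.card_le_card_of_injective (fun t : Bool × H =>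
        ((⟨⁅x, (t.2 : G)⁆ * (if t.1 then z else 1),
          mul_mem (hL t.2 t.2.2) (by split <;> simp [hzL])⟩ : L),
          (⟨_, hpick t.1 t.2⟩ : ↥(KK Q x ⊓ H)))) (by
          rintro ⟨b, a⟩ ⟨b', a'⟩ e
          simp only [Prod.mk.injEq, Subtype.mk.injEq] at e
          obtain ⟨e1, e2⟩ := e
          simp only [e1] at e2
          obtain rfl : a = a' := Subtype.ext (mul_left_cancel e2)
          cases b <;> cases b' <;> first | rfl | exact absurd (mul_left_cancel e1) (by simp [h.z_ne, Ne.symm h.z_ne]))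
    _ = _ := Nat.card_prod _ _

theorem RK_card {x : G} (hx : Commute x z) : Nat.card (RR Q x) * Nat.card (KK Q x) = 1024 := by
  refine le_antisymm ?_ ?_
  · rw [← h.perp_card (h.K_le x) (h.z_mem_K hx)]
    exact Nat.mul_le_mul_right _ (card_le_of_le fun r hr =>
      mem_perp.2 ⟨h.R_le x hr, fun k hk => h.commute_R_K hx hr hk⟩)
  · have := h.two_mul_le hx (le_refl Q) h.memZ (h.z_mem_R hx) fun a ha => h.comm_mem_R hx ha
    rw [h.card, inf_eq_left.2 (h.K_le x)] at this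
    exact this

theorem R_eq_perp {x : G} (hx : Commute x z) : RR Q x = perp Q (KK Q x) := by
  refine eq_of_le_of_card_ge (fun r hr =>
    mem_perp.2 ⟨h.R_le x hr, fun k hk => h.commute_R_K hx hr hk⟩) ?_
  have h1 := h.RK_card hx
  rw [← h.perp_card (h.K_le x) (h.z_mem_K hx)] at h1
  exact le_of_eq (Nat.eq_of_mul_eq_mul_right Nat.card_pos h1).symm

theorem K_eq_perp {x : G} (hx : Commute x z) : KK Q x = perp Q (RR Q x) := by
  rw [h.R_eq_perp hx, h.perp_perp (h.K_le x) (h.z_mem_K hx)]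

/-- `RR` and `KK` move with conjugation. -/
theorem R_move {m x y w : G} (hm : Commute m z) (hx : Commute x z) (hy : Commute y z)
    (e : π y = π m * π x * (π m)⁻¹) (hw : w ∈ RR Q x) : m * w * m⁻¹ ∈ RR Q y := by
  obtain ⟨hwQ, q, hq, ew⟩ := (h.mem_R hx).1 hw
  refine (h.mem_R hy).2 ⟨h.conjQ hm hwQ, m * q * m⁻¹, h.conjQ hm hq, ?_⟩
  rw [← bar_mul (h.conjQ hx hq) hq] at ew
  rw [h.bar_conj_congr hm hwQ (mul_mem (h.conjQ hx hq) hq) ew,
    show m * (x * q * x⁻¹ * q) * m⁻¹ = (m * x * m⁻¹) * (m * q * m⁻¹) * (m * x * m⁻¹)⁻¹ *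
      (m * q * m⁻¹) by group,
    bar_mul (h.conjQ (h.conj_comm hm hx) (h.conjQ hm hq)) (h.conjQ hm hq),
    h.bar_conj_pi (h.conj_comm hm hx) hy (by rw [h.pi_conj hm hx, e]) (h.conjQ hm hq)]

theorem K_move {m x y w : G} (hm : Commute m z) (hx : Commute x z) (hy : Commute y z)
    (e : π y = π m * π x * (π m)⁻¹) (hw : w ∈ KK Q x) : m * w * m⁻¹ ∈ KK Q y := by
  obtain ⟨hwQ, ew⟩ := (h.mem_K hx).1 hw
  refine (h.mem_K hy).2 ⟨h.conjQ hm hwQ, ?_⟩
  rw [← h.bar_conj_pi (h.conj_comm hm hx) hy (by rw [h.pi_conj hm hx, e]) (h.conjQ hm hwQ),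
    show (m * x * m⁻¹) * (m * w * m⁻¹) * (m * x * m⁻¹)⁻¹ = m * (x * w * x⁻¹) * m⁻¹ by group]
  exact h.bar_conj_congr hm (h.conjQ hx hwQ) hwQ ew

theorem R_congr {x y : G} (hx : Commute x z) (hy : Commute y z) (e : π x = π y) :
    RR Q x = RR Q y := by
  refine le_antisymm (fun w hw => ?_) (fun w hw => ?_)
  · have := h.R_move (Commute.one_left z) hx hy (by rw [h.pi_one, one_mul, inv_one, mul_one, e]) hw
    simpa using this
  · have := h.R_move (Commute.one_left z) hy hx (by rw [h.pi_one, one_mul, inv_one, mul_one, e]) hw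
    simpa using this

theorem K_congr {x y : G} (hx : Commute x z) (hy : Commute y z) (e : π x = π y) :
    KK Q x = KK Q y := by
  rw [h.K_eq_perp hx, h.K_eq_perp hy, h.R_congr hx hy e]

theorem K_inv {x : G} (hx : Commute x z) : KK Q x⁻¹ = KK Q x := by
  have key : ∀ x : G, Commute x z → KK Q x ≤ KK Q x⁻¹ := by
    intro x hx w hw
    obtain ⟨hwQ, e⟩ := (h.mem_K hx).1 hw
    refine (h.mem_K hx.inv_left).2 ⟨hwQ, ?_⟩
    have := h.bar_conj_congr hx.inv_left (h.conjQ hx hwQ) hwQ e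
    rw [← this, show x⁻¹ * (x * w * x⁻¹) * x⁻¹⁻¹ = w by group]
  refine le_antisymm ?_ (key x hx)
  have := key x⁻¹ hx.inv_left
  rwa [inv_inv] at this

theorem R_inv {x : G} (hx : Commute x z) : RR Q x⁻¹ = RR Q x := by
  rw [h.R_eq_perp hx, h.R_eq_perp hx.inv_left, h.K_inv hx]

theorem K_mul {x y q : G} (hx : Commute x z) (hy : Commute y z) (h1 : q ∈ KK Q x)
    (h2 : q ∈ KK Q y) : q ∈ KK Q (x * y) := by
  obtain ⟨hq, e1⟩ := (h.mem_K hx).1 h1
  obtain ⟨-, e2⟩ := (h.mem_K hy).1 h2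
  refine (h.mem_K (hx.mul_left hy)).2 ⟨hq, ?_⟩
  rw [show x * y * q * (x * y)⁻¹ = x * (y * q * y⁻¹) * x⁻¹ by group,
    h.bar_conj_congr hx (h.conjQ hy hq) hq e2, e1]

theorem R_mul {x y : G} (hx : Commute x z) (hy : Commute y z) :
    RR Q (x * y) ≤ RR Q x ⊔ RR Q y := by
  intro w hw
  obtain ⟨q, hq, e⟩ := h.exists_comm_of_R (hx.mul_left hy) hw
  have h1 : ⁅x * y, q⁆ ∈ RR Q x ⊔ RR Q y := by
    rw [show ⁅x * y, q⁆ = ⁅x, ⁅y, q⁆⁆ * ⁅y, q⁆ * ⁅x, q⁆ by
      simp only [commutatorElement_def]; group]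
    exact mul_mem (mul_mem (mem_sup_left (h.comm_mem_R hx (h.commQ hy hq)))
      (mem_sup_right (h.comm_mem_R hy hq))) (mem_sup_left (h.comm_mem_R hx hq))
  rcases e with r | r <;> rw [r]
  · exact h1
  · exact mul_mem h1 (mem_sup_left (h.z_mem_R hx))

theorem mem_of_K_eq {x : G} (hx : Commute x z) (hK : Q ≤ KK Q x) : x ∈ Q := by
  by_cases hc : ∀ q ∈ Q, Commute x q
  · exact h.large (mem_centralizer_iff.2 fun q hq => (hc q hq).eq.symm)
  push Not at hc
  obtain ⟨c, hc, hxc⟩ := hc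
  set W := perp Q (Q ⊓ centralizer {x}) with hW
  have hfix : ∀ q ∈ Q, x * q * x⁻¹ = q ∨ x * q * x⁻¹ = q * z := fun q hq =>
    h.bar_eq' hq (h.conjQ hx hq) ((h.mem_K hx).1 (hK hq)).2.symm
  have hxc' : x * c * x⁻¹ = c * z := (hfix c hc).resolve_left fun e => hxc
    (show x * c = c * x by rw [← mul_inv_eq_iff_eq_mul]; exact e)
  have hcov : ∀ q ∈ Q, Commute x q ∨ Commute x (c * q) := by
    intro q hq
    rcases hfix q hq with e | e
    · left; show x * q = q * x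
      rw [← mul_inv_eq_iff_eq_mul]; exact e
    · right; show x * (c * q) = c * q * x
      rw [← mul_inv_eq_iff_eq_mul, show x * (c * q) * x⁻¹ = x * c * x⁻¹ * (x * q * x⁻¹) by group,
        hxc', e, mul_assoc c z, ← mul_assoc z q z, ← (h.cz hq).eq, mul_assoc q z z, h.zz, mul_one]
  set D := Q ⊓ centralizer {x} with hD
  have hzD : z ∈ D := ⟨h.memZ, mem_centralizer_singleton_iff.2 hx.eq.symm⟩
  have hDlt : Nat.card D < 512 := by
    rw [← h.card]
    have hDQ : D ≤ Q := inf_le_left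
    refine lt_of_le_of_ne (card_le_of_le hDQ) fun e => hxc ?_
    have : c ∈ D := (eq_of_le_of_card_ge hDQ e.ge).symm ▸ hc
    exact (mem_centralizer_singleton_iff.1 this.2).symm
  obtain ⟨a, ha, haz⟩ : ∃ a ∈ perp Q D, a ∉ zpowers z := by
    by_contra hcon
    push Not at hcon
    have h1 := Nat.mul_le_mul_right (Nat.card D) (card_le_of_le (K := zpowers z) hcon)
    rw [h.perp_card inf_le_left hzD, h.Z_card] at h1
    omega
  have hcomm : ∀ q ∈ Q, Commute x q → Commute a q := fun q hq hxq =>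
    (mem_perp.1 ha).2 q ⟨hq, mem_centralizer_singleton_iff.2 hxq.eq.symm⟩
  have hac : ¬ Commute a c := fun hac => haz (h.mem_Z.2 (h.ctr a ha.1 fun q hq => by
    rcases hcov q hq with e | e
    · exact hcomm q hq e
    · have := hac.inv_right.mul_right (hcomm _ (mul_mem hc hq) e)
      rwa [inv_mul_cancel_left] at this))
  have hax : a⁻¹ * x ∈ Q := by
    refine h.large (mem_centralizer_iff.2 fun q hq => ?_)
    have key : x * q * x⁻¹ = a * q * a⁻¹ := by
      by_cases hxq : Commute x q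
      · rw [hxq.eq, (hcomm q hq hxq).eq, mul_inv_cancel_right, mul_inv_cancel_right]
      · have h1 := (hcov q hq).resolve_left hxq
        have h2 : ¬ Commute a q := fun e => hac (by
          have := (hcomm _ (mul_mem hc hq) h1).mul_right e.inv_right
          rwa [mul_inv_cancel_right] at this)
        rw [(hfix q hq).resolve_left (fun e => hxq
          (show x * q = q * x by rw [← mul_inv_eq_iff_eq_mul]; exact e)),
          h.comm_z ha.1 hq h2, mul_assoc (q * a) z a⁻¹, ← ((h.cz ha.1).inv_left).eq,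
          ← mul_assoc, mul_inv_cancel_right]
    show q * (a⁻¹ * x) = a⁻¹ * x * q
    calc q * (a⁻¹ * x) = a⁻¹ * (a * q * a⁻¹) * x := by group
      _ = a⁻¹ * x * q := by rw [← key]; group
  simpa using mul_mem ha.1 hax

theorem pi_eq_one_of_R {x : G} (hx : Commute x z) (hR : RR Q x ≤ zpowers z) : π x = 1 := by
  refine (h.ker x hx).2 (h.mem_of_K_eq hx fun q hq => ?_)
  exact (h.comm_mem_Z_iff hx hq).1 (hR (h.comm_mem_R hx hq))

theorem R_le_K {x : G} (hx : Commute x z) (h2 : π x * π x = 1) : RR Q x ≤ KK Q x := by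
  intro w hw
  obtain ⟨hwQ, q, hq, e⟩ := (h.mem_R hx).1 hw
  refine (h.mem_K hx).2 ⟨hwQ, ?_⟩
  rw [← bar_mul (h.conjQ hx hq) hq] at e
  rw [h.bar_conj_congr hx hwQ (mul_mem (h.conjQ hx hq) hq) e,
    show x * (x * q * x⁻¹ * q) * x⁻¹ = (x * x) * q * (x * x)⁻¹ * (x * q * x⁻¹) by group,
    bar_mul (h.conjQ (hx.mul_left hx) hq) (h.conjQ hx hq),
    h.bar_conj_mem ((h.ker _ (hx.mul_left hx)).1 (by rw [h.map_mul x x hx hx, h2])) hq,
    mul_comm, ← bar_mul (h.conjQ hx hq) hq, e]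

theorem R_card_le {x : G} (hx : Commute x z) (h2 : π x * π x = 1) : Nat.card (RR Q x) ≤ 32 :=
  h.abelian_card (h.R_le x) (h.z_mem_R hx) fun _ ha _ hb =>
    h.commute_R_K hx ha (h.R_le_K hx h2 hb)

theorem flat_R {x w : G} (hx : Commute x z) (hf : Flat Q x) (hw : w ∈ RR Q x) : w * w = 1 := by
  obtain ⟨q, hq, e⟩ := h.exists_comm_of_R hx hw
  rcases e with r | r <;> rw [r]
  · exact hf q hq
  · exact h.sq_one_mul (h.cz (h.commQ hx hq)) (hf q hq) h.zz

theorem flat_of_R {x : G} (hx : Commute x z) (hR : ∀ w ∈ RR Q x, w * w = 1) : Flat Q x :=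
  fun q hq => hR _ (h.comm_mem_R hx hq)

/-! ### Fixed points on `Q/Z` -/

theorem ncard_two {W : Set G} (hW : W ⊆ Q) (hWz : ∀ w ∈ W, w * z ∈ W) :
    W.ncard = 2 * (bar Q '' W).ncard := by
  classical
  have hrep : ∀ t : ↥(bar Q '' W), ∃ w ∈ W, bar Q w = t := fun t => t.2
  choose rep hrepW hrepbar using hrep
  have : Function.Bijective (fun p : Bool × ↥(bar Q '' W) =>
      (⟨if p.1 then rep p.2 * z else rep p.2, by
        split
        · exact hWz _ (hrepW _)
        · exact hrepW _⟩ : W)) := by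
    constructor
    · rintro ⟨b, t⟩ ⟨b', t'⟩ e
      have e' : (if b then rep t * z else rep t) = (if b' then rep t' * z else rep t') :=
        congrArg Subtype.val e
      have hb : ∀ (b : Bool) (t : ↥(bar Q '' W)),
          bar Q (if b then rep t * z else rep t) = t := by
        intro b t
        split
        · rw [h.bar_mul_z (hW (hrepW t)), hrepbar]
        · exact hrepbar t
      obtain rfl : t = t' := Subtype.ext (by rw [← hb b t, ← hb b' t', e'])
      cases b <;> cases b' <;> first | rfl | simp [h.z_ne, Ne.symm h.z_ne] at e'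
    · rintro ⟨w, hw⟩
      rcases h.bar_eq' (hW (hrepW ⟨bar Q w, w, hw, rfl⟩)) (hW hw) (hrepbar _) with e | e
      · exact ⟨(false, ⟨bar Q w, w, hw, rfl⟩), Subtype.ext e.symm⟩
      · exact ⟨(true, ⟨bar Q w, w, hw, rfl⟩), Subtype.ext e.symm⟩
  rw [← Nat.card_coe_set_eq W, ← Nat.card_congr (Equiv.ofBijective _ this), Nat.card_prod,
    Nat.card_coe_set_eq]
  simp

/-- The number of fixed points, for an element of prime order modulo `Q`. -/
theorem card_mod {p n : ℕ} [Fact p.Prime] {x : G} (hx : Commute x z) (hp : π x ^ p ^ n = 1) {W : Set G}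
    (hW : W ⊆ Q) (hWz : ∀ w ∈ W, w * z ∈ W) (hWx : ∀ w ∈ W, x * w * x⁻¹ ∈ W) :
    W.ncard % (2 * p) = {w | w ∈ W ∧ bar Q (x * w * x⁻¹) = bar Q w}.ncard % (2 * p) := by
  classical
  set T := bar Q '' W with hT
  have hrep : ∀ t : ↥T, ∃ w ∈ W, bar Q w = t := fun t => t.2
  choose rep hrepW hrepbar using hrep
  let f : Function.End ↥T := fun t => ⟨bar Q (x * rep t * x⁻¹), _, hWx _ (hrepW t), rfl⟩
  have hiter : ∀ (n : ℕ) (t : ↥T),
      (((f ^ n) t : ↥T) : Abelianization Q) = bar Q (x ^ n * rep t * (x ^ n)⁻¹) := by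
    intro n
    induction n with
    | zero => intro t; rw [pow_zero, pow_zero, one_mul, inv_one, mul_one]; exact (hrepbar t).symm
    | succ n ih =>
      intro t
      rw [pow_succ']
      show bar Q (x * rep ((f ^ n) t) * x⁻¹) = _
      rw [h.bar_conj_congr hx (hW (hrepW _)) (h.conjQ (hx.pow_left n) (hW (hrepW t)))
        ((hrepbar _).trans (ih t))]
      congr 1
      group
  have hfp : f ^ p ^ n = 1 := by
    funext t
    refine Subtype.ext ?_
    rw [hiter]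
    show _ = (t : Abelianization Q)
    rw [h.bar_conj_mem ((h.ker _ (hx.pow_left (p ^ n))).1 (by rw [h.pi_pow hx, hp])) (hW (hrepW t)),
      hrepbar]
  haveI : Fintype ↥T := Fintype.ofFinite _
  have hmod := Equiv.Perm.card_fixedPoints_modEq hfp
  set W' := {w | w ∈ W ∧ bar Q (x * w * x⁻¹) = bar Q w} with hW'
  have hsub : W' ⊆ W := fun w hw => hw.1
  have h2 := h.ncard_two hW hWz
  have h3 := h.ncard_two (hsub.trans hW) (by
    rintro w ⟨hw, e⟩
    refine ⟨hWz w hw, ?_⟩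
    rw [h.bar_mul_z (hW hw), ← e,
      show x * (w * z) * x⁻¹ = x * w * x⁻¹ * (x * z * x⁻¹) by group, hx.eq,
      mul_inv_cancel_right, h.bar_mul_z (h.conjQ hx (hW hw))])
  have h4 : Nat.card (Function.fixedPoints f) = (bar Q '' W').ncard := by
    rw [← Nat.card_coe_set_eq]
    refine Nat.card_congr
      { toFun := fun t => ⟨(t.1 : Abelianization Q), rep t.1, ⟨hrepW _, ?_⟩, hrepbar _⟩
        invFun := fun t => ⟨⟨t.1, Set.image_mono hsub t.2⟩, ?_⟩
        left_inv := fun _ => rfl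
        right_inv := fun _ => rfl }
    · exact (congrArg Subtype.val t.2).trans (hrepbar _).symm
    · obtain ⟨w, ⟨hw, e⟩, ht⟩ := t.2
      refine Subtype.ext ?_
      show bar Q (x * rep _ * x⁻¹) = t.1
      rw [h.bar_conj_congr hx (hW (hrepW _)) (hW hw) ((hrepbar _).trans ht.symm), e, ht]
  rw [← Nat.card_eq_fintype_card,
    ← Nat.card_eq_fintype_card, h4, Nat.card_coe_set_eq] at hmod
  rw [h2, h3]
  exact Nat.ModEq.mul_left' 2 hmod

theorem card_mod_subgroup {p : ℕ} [Fact p.Prime] {x : G} (hx : Commute x z) (hp : π x ^ p = 1)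
    {H : Subgroup G} (hH : H ≤ Q) (hz : z ∈ H) (hHx : ∀ w ∈ H, x * w * x⁻¹ ∈ H) :
    Nat.card H % (2 * p) = Nat.card ↥(KK Q x ⊓ H) % (2 * p) := by
  have := h.card_mod (n := 1) hx (by rw [pow_one]; exact hp) (W := (H : Set G)) hH (fun w hw => mul_mem hw hz) hHx
  rw [← Nat.card_coe_set_eq, ← Nat.card_coe_set_eq] at this
  refine this.trans (congrArg (fun n => n % (2 * p)) (Nat.card_congr (Equiv.setCongr ?_)))
  ext w
  simp only [Set.mem_setOf_eq, SetLike.mem_coe, mem_inf, h.mem_K hx]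
  exact ⟨fun e => ⟨⟨hH e.1, e.2⟩, e.1⟩, fun e => ⟨e.2, e.1.2⟩⟩

theorem fpf_card {x : G} (hx : Commute x z) (h3 : π x ^ 3 = 1) {H : Subgroup G} (hH : H ≤ Q)
    (hz : z ∈ H) (hHx : ∀ w ∈ H, x * w * x⁻¹ ∈ H) (hK : KK Q x ⊓ H ≤ zpowers z) :
    Nat.card H = 2 ∨ Nat.card H = 8 ∨ Nat.card H = 32 ∨ Nat.card H = 128 ∨ Nat.card H = 512 := by
  haveI : Fact (Nat.Prime 3) := ⟨Nat.prime_three⟩
  have h1 := h.card_mod_subgroup hx h3 hH hz hHx
  rw [le_antisymm hK (h.Z_le (mem_inf.2 ⟨h.z_mem_K hx, hz⟩)), h.Z_card] at h1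
  obtain ⟨k, hk, e⟩ := h.card_pow hH
  rw [e] at h1 ⊢
  interval_cases k <;> simp_all

theorem fpf_le_R {x : G} (hx : Commute x z) {H : Subgroup G} (hH : H ≤ Q) (hz : z ∈ H)
    (hHx : ∀ w ∈ H, x * w * x⁻¹ ∈ H) (hK : KK Q x ⊓ H ≤ zpowers z) : H ≤ RR Q x := by
  have hL : ∀ a ∈ H, ⁅x, a⁆ ∈ RR Q x ⊓ H := fun a ha =>
    mem_inf.2 ⟨h.comm_mem_R hx (hH ha), by
      rw [commutatorElement_def]; exact mul_mem (hHx a ha) (inv_mem ha)⟩
  have h1 := h.two_mul_le hx hH hz (mem_inf.2 ⟨h.z_mem_R hx, hz⟩) hL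
  rw [le_antisymm hK (h.Z_le (mem_inf.2 ⟨h.z_mem_K hx, hz⟩)), h.Z_card] at h1
  rw [← inf_eq_right]
  exact eq_of_le_of_card_ge inf_le_right (by omega)

theorem RK_meet {x : G} (hx : Commute x z) (h3 : π x ^ 3 = 1) :
    KK Q x ⊓ RR Q x ≤ zpowers z := by
  rintro w ⟨hwK, hwR⟩
  obtain ⟨hwQ, ew⟩ := (h.mem_K hx).1 hwK
  obtain ⟨-, q, hq, e⟩ := (h.mem_R hx).1 hwR
  rw [← h.bar_eq_one hwQ]
  have e3 : x * x * x ∈ Q := by
    rw [← pow_three']; exact (h.ker _ (hx.pow_left 3)).1 (by rw [h.pi_pow hx, h3])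
  set q1 := x * q * x⁻¹ with hq1
  set q2 := x * q1 * x⁻¹ with hq2
  have m1 : q1 ∈ Q := h.conjQ hx hq
  have m2 : q2 ∈ Q := h.conjQ hx m1
  have h3' : bar Q (x * q2 * x⁻¹) = bar Q q := by
    rw [hq2, hq1, show x * (x * (x * q * x⁻¹) * x⁻¹) * x⁻¹ = (x * x * x) * q * (x * x * x)⁻¹ by group,
      h.bar_conj_mem e3 hq]
  -- `w ≡ q1 q` is fixed
  rw [← bar_mul m1 hq] at e
  have f1 : bar Q (x * w * x⁻¹) = bar Q q2 * bar Q q1 := by
    rw [h.bar_conj_congr hx hwQ (mul_mem m1 hq) e,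
      show x * (q1 * q) * x⁻¹ = q2 * q1 by rw [hq2, hq1]; group, bar_mul m2 m1]
  rw [ew, e, bar_mul m1 hq, mul_comm (bar Q q2)] at f1
  have f2 : bar Q q2 = bar Q q := (mul_left_cancel f1).symm
  have f3 : bar Q q1 = bar Q q := by
    rw [← h3', ← h.bar_conj_congr hx hq m2 f2.symm]
  rw [e, bar_mul m1 hq, f3, h.bar_sq hq]

end finite

end Nine

end CfsgLib.ExtraNine
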