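import Cfsg.Agent.Lib.ExtraNine.Perms3

/-!
# Four-groups of double transpositions, and counts
-/

set_option autoImplicit false

open Equiv

namespace CfsgLib.ExtraNine

theorem p3_even_odd_comm : ∀ e t : Equiv.Perm (Fin 3), Perm.sign e = 1 → Perm.sign t = -1 →
    e * t * e⁻¹ * t = 1 → e = 1 := by
  decide +kernel

theorem p6_even_count :
    (Finset.univ.filter fun g : P6 => Perm.sign g = 1).card = 360 := by
  decide +kernel

end CfsgLib.ExtraNine
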