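import Cfsg.Agent.Lib.ExtraNine.NotInQ
import Cfsg.Agent.Lib.ExtraNine.Perms4

/-!
# A conjugate `u ≠ z` of `z` in `Q`: first consequences, and the shape `S` is impossible
-/

set_option autoImplicit false
set_option linter.unusedSectionVars false
set_option linter.style.haveILetI false

namespace CfsgLib.ExtraNine

open Subgroup
open scoped commutatorElement

variable {G : Type*} [Group G]

/-- `Q ∩ U`. -/
def DD (Q : Subgroup G) (g : G) : Subgroup G := Q ⊓ UU Q g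

/-- `π(C_U(z))`. -/
def EE (π : G → GS) (Q : Subgroup G) (z g : G) : Subgroup GS :=
  img π 1 (UU Q g ⊓ centralizer {z})

namespace Nine

variable [Finite G] {z : G} {Q : Subgroup G} {π : G → GS} (h : Nine z Q π)
include h

theorem card_join_z {A : Subgroup G} (hA : A ≤ Q) :
    Nat.card ↥(A ⊔ zpowers z) ≤ Nat.card A * 2 := by
  rw [← h.Z_card, ← Nat.card_prod]
  refine Nat.card_le_card_of_surjective (fun t : A × zpowers z =>
    (⟨t.1 * t.2, mul_mem (mem_sup_left t.1.2) (mem_sup_right t.2.2)⟩ : ↥(A ⊔ zpowers z))) ?_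
  rintro ⟨w, hw⟩
  obtain ⟨a, ha, b, hb, rfl⟩ := h.mem_sup_prod hA (h.Z_le h.memZ) (mem_zpowers z) hw
  exact ⟨(⟨a, ha⟩, ⟨b, hb⟩), rfl⟩

variable {u g : G} (P : Pair z u g) (hu : u ∈ Q)
include P

theorem u_notin_Z : u ∉ zpowers z := fun e => by
  rcases h.mem_Z.1 e with r | r
  · exact h.u_ne_one P.eq r
  · exact P.ne r

theorem u_mem_U : u ∈ UU Q g := by
  rw [mem_UU, show g⁻¹ * u * g = z by rw [← P.eq]; group]
  exact h.memZ

include hu

theorem CQ_perp : perp Q (zpowers u ⊔ zpowers z) = CQ Q u := by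
  refine le_antisymm (fun q hq => mem_CQ.2 ⟨hq.1, (mem_perp.1 hq).2 u
    (mem_sup_left (mem_zpowers u))⟩) fun q hq => ?_
  obtain ⟨hqQ, hqu⟩ := mem_CQ.1 hq
  refine mem_perp.2 ⟨hqQ, fun w hw => ?_⟩
  obtain ⟨a, ha, b, hb, rfl⟩ :=
    h.mem_sup_prod (zpowers_le.2 hu) (h.Z_le h.memZ) (mem_zpowers z) hw
  obtain ⟨i, rfl⟩ := ha
  obtain ⟨j, rfl⟩ := hb
  exact (hqu.zpow_right i).mul_right ((h.cz hqQ).zpow_right j)

theorem CQ_card : Nat.card (CQ Q u) = 256 := by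
  set H := zpowers u ⊔ zpowers z with hH
  have hHQ : H ≤ Q := sup_le (zpowers_le.2 hu) (h.Z_le h.memZ)
  have hzH : z ∈ H := mem_sup_right (mem_zpowers z)
  have h1 : Nat.card H ≤ 4 := by
    have := h.card_join_z (A := zpowers u) (zpowers_le.2 hu)
    rw [Nat.card_zpowers, orderOf_eq_prime (by rw [pow_two]; exact h.u_sq P.eq)
      (h.u_ne_one P.eq)] at this
    exact this
  obtain ⟨k, hk, ek⟩ := h.card_pow hHQ
  have h3 : 2 < Nat.card H := by
    by_contra hle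
    exact h.u_notin_Z P ((eq_of_le_of_card_ge (h.Z_le hzH) (by rw [h.Z_card]; omega)).ge
      (mem_sup_left (mem_zpowers u)))
  have h4 : Nat.card H = 4 := by
    rw [ek] at h1 h3 ⊢
    have hk' : k = 2 := by interval_cases k <;> omega
    rw [hk']
    norm_num
  have := h.perp_card hHQ hzH
  rw [h4, h.CQ_perp P hu] at this
  omega

theorem z_mem_U : z ∈ UU Q g := by
  by_contra hz
  have hNle : CQ Q u ⊓ UU Q g ≤ zpowers u := by
    intro n hn
    obtain ⟨hnQ, hnu⟩ := mem_CQ.1 hn.1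
    have hcent : n ∈ perp Q (CQ Q u) := by
      refine mem_perp.2 ⟨hnQ, fun c hc => ?_⟩
      obtain ⟨hcQ, hcu⟩ := mem_CQ.1 hc
      rcases h.mem_Z.1 (h.comm_mem_Z hcQ hnQ) with r | r
      · exact (commutatorElement_eq_one_iff_commute.1 r).symm
      · refine absurd ?_ hz
        rw [← r, commutatorElement_def]
        exact mul_mem (h.UU_stab P.eq hcu hn.2) (inv_mem hn.2)
    rw [← h.CQ_perp P hu, h.perp_perp (sup_le (zpowers_le.2 hu) (h.Z_le h.memZ))
      (mem_sup_right (mem_zpowers z))] at hcent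
    obtain ⟨a, ha, b, hb, rfl⟩ :=
      h.mem_sup_prod (zpowers_le.2 hu) (h.Z_le h.memZ) (mem_zpowers z) hcent
    have hbU : b ∈ UU Q g := by
      have := mul_mem (inv_mem (zpowers_le.2 (h.u_mem_U P) ha)) hn.2
      rwa [inv_mul_cancel_left] at this
    rcases h.mem_Z.1 hb with r | r
    · rw [r, mul_one]; exact ha
    · exact absurd (r ▸ hbU) hz
  have h1 := h.img_card (π := π) P.eq (A := CQ Q u) fun a ha => (mem_CQ.1 ha).2
  rw [h.CQ_card P hu] at h1
  have h2 := card_le_of_le hNle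
  rw [Nat.card_zpowers, orderOf_eq_prime (by rw [pow_two]; exact h.u_sq P.eq)
    (h.u_ne_one P.eq)] at h2
  have h3 := (img π g (CQ Q u)).card_subgroup_dvd_card
  rw [card_GS] at h3
  have h4 : 0 < Nat.card ↥(CQ Q u ⊓ UU Q g) := Nat.card_pos
  interval_cases hN : Nat.card ↥(CQ Q u ⊓ UU Q g)
  · rw [mul_one] at h1
    rw [← h1] at h3
    norm_num at h3
  · have : Nat.card (img π g (CQ Q u)) = 128 := by omega
    rw [this] at h3
    norm_num at h3

theorem dual : ∃ w, Pair z w g⁻¹ ∧ w ∈ Q ∧ g * w * g⁻¹ = z := by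
  refine ⟨g⁻¹ * z * g, ⟨by group, h.to_z P.eq P.comm.symm, fun e => P.ne ?_⟩,
    mem_UU.1 (h.z_mem_U P hu), by group⟩
  rw [← P.eq]
  calc g * z * g⁻¹ = g * (g⁻¹ * z * g) * g⁻¹ := by rw [e]
    _ = z := by group

theorem A_card' : Nat.card ↥(UU Q g ⊓ centralizer {z}) = 256 := by
  obtain ⟨w, hw, hwQ, ew⟩ := h.dual P hu
  have ew' : g⁻¹ * z * g = w := by rw [← hw.eq, inv_inv]
  rw [← h.CQ_card hw hwQ]
  refine le_antisymm ?_ ?_
  · refine Nat.card_le_card_of_injective (fun x => ⟨g⁻¹ * x.1 * g,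
      mem_CQ.2 ⟨mem_UU.1 x.2.1, ?_⟩⟩) ?_
    · rw [← Commute.conj_iff g, ew, show g * (g⁻¹ * x.1 * g) * g⁻¹ = x.1 by group]
      exact mem_centralizer_singleton_iff.1 x.2.2
    · intro x y e
      exact Subtype.ext (mul_left_cancel (mul_right_cancel (congrArg Subtype.val e)))
  · refine Nat.card_le_card_of_injective (fun y => ⟨g * y.1 * g⁻¹, mem_inf.2 ⟨?_, ?_⟩⟩) ?_
    · rw [mem_UU, show g⁻¹ * (g * y.1 * g⁻¹) * g = y.1 by group]
      exact (mem_CQ.1 y.2).1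
    · refine mem_centralizer_singleton_iff.2 ?_
      have := (Commute.conj_iff g).2 (mem_CQ.1 y.2).2
      rw [ew] at this
      exact this.eq
    · intro x y e
      exact Subtype.ext (mul_left_cancel (mul_right_cancel (congrArg Subtype.val e)))

theorem z_mem_D : z ∈ DD Q g := mem_inf.2 ⟨h.memZ, h.z_mem_U P hu⟩

theorem u_mem_D : u ∈ DD Q g := mem_inf.2 ⟨hu, h.u_mem_U P⟩

theorem D_sq : ∀ d ∈ DD Q g, d * d = 1 := by
  intro d hd
  refine (h.sq d hd.1).resolve_right fun e => ?_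
  rcases h.UU_sq P.eq hd.2 with r | r
  · exact h.z_ne (e.symm.trans r)
  · exact P.ne (r.symm.trans e)

theorem D_comm : ∀ a ∈ DD Q g, ∀ b ∈ DD Q g, Commute a b := h.abelian_of_sq (h.D_sq P hu)

theorem D_le : Nat.card (DD Q g) ≤ 32 :=
  h.abelian_card inf_le_left (h.z_mem_D P hu) (h.D_comm P hu)

theorem A_comm {x : G} (hx : x ∈ UU Q g ⊓ centralizer {z}) : Commute x z ∧ Commute x u :=
  ⟨mem_centralizer_singleton_iff.1 hx.2, h.UU_comm P.eq hx.1⟩

theorem mem_EE {p : GS} :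
    p ∈ EE π Q z g ↔ ∃ x ∈ UU Q g ⊓ centralizer {z}, π x = p := by
  rw [EE, h.mem_img (u := z) (g := 1) (by group) fun a ha => (h.A_comm P hu ha).1]
  simp only [h.pu_self]

theorem EE_sq : ∀ p ∈ EE π Q z g, p * p = 1 := by
  intro p hp
  obtain ⟨x, hx, rfl⟩ := (h.mem_EE P hu).1 hp
  have hxz := (h.A_comm P hu hx).1
  rw [← h.map_mul _ _ hxz hxz]
  rcases h.UU_sq P.eq hx.1 with r | r <;> rw [r]
  · exact h.pi_one
  · exact h.pi_mem hu

theorem EE_card : Nat.card (EE π Q z g) * Nat.card (DD Q g) = 256 := by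
  have h1 := h.img_card (π := π) (u := z) (g := 1) (A := UU Q g ⊓ centralizer {z}) (by group)
    fun a ha => (h.A_comm P hu ha).1
  rw [h.A_card' P hu] at h1
  have e : (UU Q g ⊓ centralizer {z}) ⊓ UU Q 1 = DD Q g := by
    rw [h.UU_one]
    refine le_antisymm (fun w hw => mem_inf.2 ⟨hw.2, hw.1.1⟩) fun w hw =>
      mem_inf.2 ⟨mem_inf.2 ⟨hw.2, mem_centralizer_singleton_iff.2 (h.cz hw.1).eq⟩, hw.1⟩
  rw [e] at h1
  exact h1.symm

theorem comm_in_D {x q : G} (hx : x ∈ UU Q g ⊓ centralizer {z}) (hq : q ∈ CQ Q u) :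
    ⁅x, q⁆ ∈ DD Q g := by
  obtain ⟨hqQ, hqu⟩ := mem_CQ.1 hq
  refine mem_inf.2 ⟨h.commQ (h.A_comm P hu hx).1 hqQ, ?_⟩
  rw [commutatorElement_def, show x * q * x⁻¹ * q⁻¹ = x * (q * x⁻¹ * q⁻¹) by group]
  exact mul_mem hx.1 (h.UU_stab P.eq hqu (inv_mem hx.1))

theorem A_stab {m x : G} (hm : Commute m z) (hmu : Commute m u)
    (hx : x ∈ UU Q g ⊓ centralizer {z}) : m * x * m⁻¹ ∈ UU Q g ⊓ centralizer {z} :=
  mem_inf.2 ⟨h.UU_stab P.eq hmu hx.1,
    mem_centralizer_singleton_iff.2 (h.conj_comm hm (h.A_comm P hu hx).1).eq⟩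

theorem EE_stab {m : G} {p : GS} (hm : Commute m z) (hmu : Commute m u) (hp : p ∈ EE π Q z g) :
    π m * p * (π m)⁻¹ ∈ EE π Q z g := by
  obtain ⟨x, hx, rfl⟩ := (h.mem_EE P hu).1 hp
  exact (h.mem_EE P hu).2
    ⟨_, h.A_stab P hu hm hmu hx, h.pi_conj hm (h.A_comm P hu hx).1⟩

/-- An element fixing `uZ` may be corrected to fix `u`. -/
theorem adjust {m : G} (hm : Commute m z) (e : bar Q (m * u * m⁻¹) = bar Q u) :
    ∃ m', Commute m' z ∧ Commute m' u ∧ π m' = π m := by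
  rcases h.bar_eq' hu (h.conjQ hm hu) e.symm with r | r
  · exact ⟨m, hm, mul_inv_eq_iff_eq_mul.1 r, rfl⟩
  obtain ⟨q, hq, hqu⟩ : ∃ q ∈ Q, ¬ Commute u q := by
    by_contra hcon
    push Not at hcon
    exact h.u_notin_Z P (h.mem_Z.2 (h.ctr u hu hcon))
  refine ⟨q * m, (h.cz hq).mul_left hm, ?_,
    by rw [h.map_mul _ _ (h.cz hq) hm, h.pi_mem hq, one_mul]⟩
  show q * m * u = u * (q * m)
  calc q * m * u = q * (m * u * m⁻¹) * m := by group
    _ = q * u * z * m := by rw [r, mul_assoc q u z]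
    _ = u * q * z * z * m := by rw [h.comm_z hq hu fun c => hqu c.symm]
    _ = u * (q * m) := by rw [mul_assoc (u * q) z z, h.zz, mul_one, mul_assoc]

/-- The shape `S` is impossible. -/
theorem inside_S (S : ShapeS z Q π) : False := by
  have hE8 : 8 ≤ Nat.card (EE π Q z g) := by
    have h1 := h.EE_card P hu
    have h2 := h.D_le P hu
    nlinarith
  obtain ⟨f, hf, hmem⟩ := exists_dt (h.EE_sq P hu) hE8
  obtain ⟨x, hx, ex⟩ := (h.mem_EE P hu).1 hmem
  obtain ⟨hxz, hxu⟩ := h.A_comm P hu hx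
  obtain ⟨-, -, hnf⟩ := S.dt x f hxz ex hf
  have h2 : π x * π x = 1 := by rw [ex, Prod.mk_mul_mk, one_mul, hf.1]; rfl
  have hker : ∀ q ∈ CQ Q u, ⁅x, q⁆ * ⁅x, q⁆ = 1 := fun q hq =>
    h.D_sq P hu _ (h.comm_in_D P hu hx hq)
  have hinv : ∀ y : G, Commute y z → Commute (π y) (π x) → ∀ q ∈ CQ Q u,
      y * q * y⁻¹ ∈ CQ Q u := by
    intro y hy hyx q hq
    obtain ⟨hqQ, -⟩ := mem_CQ.1 hq
    have hcQ := h.conjQ hy hqQ
    refine mem_CQ.2 ⟨hcQ, ?_⟩
    by_contra hcu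
    refine hnf fun w hw => ?_
    by_cases hwu : Commute w u
    · exact hker w (mem_CQ.2 ⟨hw, hwu⟩)
    · have hin : (y * q * y⁻¹)⁻¹ * w ∈ CQ Q u := by
        refine mem_CQ.2 ⟨mul_mem (inv_mem hcQ) hw, (h.commute_mul (inv_mem hcQ) hw hu).2 ?_⟩
        exact ⟨fun c => absurd (Commute.inv_left_iff.1 c) hcu, fun c => absurd c hwu⟩
      rw [← mul_inv_cancel_left (y * q * y⁻¹) w,
        h.psi_mul hxz h2 hcQ (mem_CQ.1 hin).1, h.psi_conj hxz hy hyx hqQ, hker q hq,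
        hker _ hin, one_mul]
  obtain ⟨s, hs, es⟩ := h.range (c3, 1) c3_three.2.2 (map_one _)
  have hsx : Commute (π s) (π x) := by rw [es, ex]; exact Prod.ext (by simp) (by simp)
  have hsu : s * u * s⁻¹ ∈ perp Q (CQ Q u) := by
    refine mem_perp.2 ⟨h.conjQ hs hu, fun w hw => ?_⟩
    have hw' := hinv s⁻¹ hs.inv_left (by rw [h.pi_inv hs]; exact hsx.inv_left) w hw
    have := (Commute.conj_iff s).2 (mem_CQ.1 hw').2.symm
    rwa [show s * (s⁻¹ * w * s⁻¹⁻¹) * s⁻¹ = w by group] at this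
  rw [← h.CQ_perp P hu, h.perp_perp (sup_le (zpowers_le.2 hu) (h.Z_le h.memZ))
    (mem_sup_right (mem_zpowers z))] at hsu
  have hbar : bar Q (s * u * s⁻¹) = bar Q u := by
    obtain ⟨a, ha, b, hb, e⟩ :=
      h.mem_sup_prod (zpowers_le.2 hu) (h.Z_le h.memZ) (mem_zpowers z) hsu
    obtain ⟨i, rfl⟩ := ha
    simp only at e
    rw [e, bar_mul (zpow_mem hu i) (h.Z_le h.memZ hb), (h.bar_eq_one (h.Z_le h.memZ hb)).2 hb,
      mul_one]
    rcases Int.even_or_odd i with ⟨j, hj⟩ | ⟨j, hj⟩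
    · exfalso
      refine h.u_notin_Z P ?_
      have hi : u ^ i = 1 := by rw [hj, ← two_mul, zpow_mul, zpow_two, h.u_sq P.eq, one_zpow]
      have hsu1 : s * u * s⁻¹ ∈ zpowers z := by
        rw [e, show (u ^ i : G) = 1 from hi, one_mul]; exact hb
      rcases h.mem_Z.1 hsu1 with r | r
      · rw [show u = 1 by simpa using r]; exact one_mem _
      · rw [show u = z by
          calc u = s⁻¹ * (s * u * s⁻¹) * s := by group
            _ = z := by rw [r, mul_assoc, ← hs.eq, inv_mul_cancel_left]]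
        exact mem_zpowers z
    · show bar Q (u ^ i) = bar Q u
      rw [show u ^ i = u by
        rw [hj, zpow_add, zpow_mul, zpow_two, h.u_sq P.eq, one_zpow, one_mul, zpow_one]]
  obtain ⟨s', hs', hs'u, es'⟩ := h.adjust P hu hs hbar
  rw [es] at es'
  have hfirst : ∀ p ∈ EE π Q z g, p.1 = 1 := by
    intro p hp
    have h1 := h.EE_stab P hu hs' hs'u hp
    rw [es'] at h1
    have h2 := mul_mem h1 (inv_mem hp)
    have h3 := h.EE_sq P hu _ h2
    have h4 : c3 * p.1 * c3⁻¹ * p.1⁻¹ = 1 := p3_even_inv _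
      (by rw [_root_.map_mul, _root_.map_mul, _root_.map_mul, _root_.map_inv, _root_.map_inv, c3_three.2.2, inv_one, mul_one,
        one_mul, mul_inv_cancel]) (congrArg Prod.fst h3)
    refine p3_comm_inv _ ?_ (congrArg Prod.fst (h.EE_sq P hu p hp))
    exact (mul_inv_eq_iff_eq_mul.1 (mul_inv_eq_one.1 h4)).symm
  have hE := one_card_le (h.EE_sq P hu) hfirst
  have hD : Nat.card (DD Q g) = 32 := by
    have h1 := h.EE_card P hu
    have h2 := h.D_le P hu
    nlinarith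
  have hDK : DD Q g ≤ KK Q s' := by
    intro d hd
    refine (h.comm_mem_Z_iff hs' hd.1).1 ?_
    by_contra hne
    have hin : ⁅s', d⁆ ∈ DD Q g := by
      rw [commutatorElement_def]
      exact mul_mem (mem_inf.2 ⟨h.conjQ hs' hd.1, h.UU_stab P.eq hs'u hd.2⟩) (inv_mem hd)
    have := S.anis s' hs' es' _ (h.comm_mem_R hs' hd.1) hne
    rw [h.D_sq P hu _ hin] at this
    exact h.z_ne this.symm
  have hperpD : perp Q (DD Q g) = DD Q g := by
    refine (eq_of_le_of_card_ge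
      (fun d (hd : d ∈ DD Q g) => mem_perp.2 ⟨hd.1, fun w hw => h.D_comm P hu d hd w hw⟩) ?_).symm
    have := h.perp_card (H := DD Q g) inf_le_left (h.z_mem_D P hu)
    rw [hD] at this
    omega
  have hRD : RR Q s' ≤ DD Q g := by
    rw [h.R_eq_perp hs']
    exact (perp_anti hDK).trans hperpD.le
  have h1 : RR Q s' ≤ zpowers z := fun r hr => h.RK_meet hs'
    (by rw [es', pow_three', Prod.mk_mul_mk, Prod.mk_mul_mk, c3_three.1, one_mul, one_mul]; rfl)
    (mem_inf.2 ⟨hDK (hRD hr), hr⟩)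
  have := card_le_of_le h1
  rw [S.Rs s' hs' es', h.Z_card] at this
  omega

/-- In shape `T`, the part of `Q ∩ U` in `[x, Q]Z` has index at most two in that group. -/
theorem H_ge {x : G} (hx : x ∈ UU Q g ⊓ centralizer {z}) (hKR : KK Q x = RR Q x)
    (h32 : Nat.card (RR Q x) = 32) :
    16 ≤ Nat.card ↥(RR Q x ⊓ DD Q g) ∧ u ∈ RR Q x := by
  obtain ⟨hxz, hxu⟩ := h.A_comm P hu hx
  have huR : u ∈ RR Q x := hKR.le ((h.mem_K hxz).2
    ⟨hu, by rw [hxu.eq, mul_inv_cancel_right]⟩)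
  refine ⟨?_, huR⟩
  have h1 := h.two_mul_le hxz (H := CQ Q u) inf_le_left
    (mem_CQ.2 ⟨h.memZ, P.comm.symm⟩) (mem_inf.2 ⟨h.z_mem_R hxz, h.z_mem_D P hu⟩)
    fun q hq => mem_inf.2 ⟨h.comm_mem_R hxz (mem_CQ.1 hq).1, h.comm_in_D P hu hx hq⟩
  have h2 : Nat.card ↥(KK Q x ⊓ CQ Q u) ≤ 32 :=
    h32 ▸ card_le_of_le (inf_le_left.trans hKR.le)
  rw [h.CQ_card P hu] at h1
  nlinarith

/-- In shape `T`, `|Q ∩ U| = 32`. -/
theorem T_D_card (T : ShapeT z Q π) : Nat.card (DD Q g) = 32 := by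
  have hD := h.D_le P hu
  have hEc := h.EE_card P hu
  have hE8 : 8 ≤ Nat.card (EE π Q z g) := by nlinarith
  obtain ⟨k, hk, ek⟩ := h.card_pow (H := DD Q g) inf_le_left
  have hk5 : k ≤ 5 := by
    by_contra hk5
    have := Nat.pow_le_pow_right two_pos (show 6 ≤ k by omega)
    omega
  obtain ⟨f, hf, hmem⟩ := exists_dt (h.EE_sq P hu) hE8
  obtain ⟨x, hx, ex⟩ := (h.mem_EE P hu).1 hmem
  obtain ⟨hxz, hxu⟩ := h.A_comm P hu hx
  obtain ⟨-, h32, hKR⟩ := T.dt x f hxz ex hf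
  obtain ⟨hH, -⟩ := h.H_ge P hu hx hKR h32
  have hH' := hH.trans (card_le_of_le inf_le_right)
  by_contra hne
  have h16 : Nat.card (DD Q g) = 16 := by
    rw [ek] at hne hH' ⊢
    interval_cases k <;> simp_all
  have hDR : DD Q g ≤ RR Q x := fun d hd => by
    have := eq_of_le_of_card_ge (inf_le_right : RR Q x ⊓ DD Q g ≤ DD Q g) (by omega)
    exact (this.ge hd).1
  rw [h16] at hEc
  -- the parities
  have hsp := sgn_split (EE π Q z g)
  have hF4 : Nat.card ↥(EE π Q z g ⊓ sgn.ker) ≤ 4 :=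
    even_card_le (fun p hp => h.EE_sq P hu p hp.1) fun p hp => hp.2
  have hM4 := sgn_le_four (EE π Q z g)
  have hFeq : Nat.card ↥(EE π Q z g ⊓ sgn.ker) = 4 := by nlinarith
  have hMeq : Nat.card ((EE π Q z g).map sgn) = 4 := by nlinarith
  have hmap : (EE π Q z g).map sgn = ⊤ := by
    refine Subgroup.eq_top_of_card_eq _ ?_
    rw [hMeq, Nat.card_prod, Nat.card_eq_fintype_card, Fintype.card_units_int]
  obtain ⟨e, he, esgn⟩ : ((-1, 1) : ℤˣ × ℤˣ) ∈ (EE π Q z g).map sgn := hmap ▸ mem_top _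
  obtain ⟨f', hf', hf'ne, hf'mem⟩ : ∃ f' : P6, IsDt f' ∧ f' ≠ f ∧ (1, f') ∈ EE π Q z g := by
    obtain ⟨p, hp, hp1, hpf⟩ : ∃ p ∈ EE π Q z g ⊓ sgn.ker, p ≠ 1 ∧ p ≠ (1, f) := by
      by_contra hcon
      push Not at hcon
      have : Nat.card ↥(EE π Q z g ⊓ sgn.ker) ≤ 2 := by
        refine le_trans (Nat.card_le_card_of_injective
          (fun p : ↥(EE π Q z g ⊓ sgn.ker) => decide ((p : GS) = 1)) ?_) (by simp)
        intro p q r
        simp only [decide_eq_decide] at r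
        by_cases hp : (p : GS) = 1
        · exact Subtype.ext (hp.trans (r.1 hp).symm)
        · exact Subtype.ext ((hcon p p.2 hp).trans (hcon q q.2 fun w => hp (r.2 w)).symm)
      omega
    obtain ⟨e1, e2⟩ := even_even (h.EE_sq P hu p hp.1) hp1 hp.2
    exact ⟨p.2, e2, fun r => hpf (Prod.ext e1 r), by rw [← e1]; exact hp.1⟩
  have hcomm := exp_two_comm (h.EE_sq P hu)
  have ha : e.2 = 1 ∨ e.2 = f ∨ e.2 = f' ∨ e.2 = f * f' :=
    four_self hf hf' (Ne.symm hf'ne) (congrArg Prod.snd (hcomm _ hmem _ hf'mem))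
      (congrArg Prod.snd (hcomm _ hmem _ he)) (congrArg Prod.snd (hcomm _ hf'mem _ he))
      (congrArg Prod.snd (h.EE_sq P hu e he)) (congrArg Prod.snd esgn)
  have hamem : ((1, e.2) : GS) ∈ EE π Q z g := by
    rcases ha with r | r | r | r <;> rw [r]
    · exact one_mem _
    · exact hmem
    · exact hf'mem
    · have := mul_mem hmem hf'mem
      rwa [Prod.mk_mul_mk, one_mul] at this
  have hτ : ((e.1, 1) : GS) ∈ EE π Q z g := by
    have := mul_mem he hamem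
    rwa [show e * (1, e.2) = (e.1, 1) from Prod.ext (mul_one _)
      (show e.2 * e.2 = 1 from congrArg Prod.snd (h.EE_sq P hu e he))] at this
  obtain ⟨y, hy, ey⟩ := (h.mem_EE P hu).1 hτ
  obtain ⟨hyz, -⟩ := h.A_comm P hu hy
  have hodd : Equiv.Perm.sign e.1 = -1 := congrArg Prod.fst esgn
  obtain ⟨-, h32', hKR'⟩ := T.tau y e.1 hyz ey hodd
  obtain ⟨hH2, -⟩ := h.H_ge P hu hy hKR' h32'
  have hDRy : DD Q g ≤ KK Q y := fun d hd => by
    have := eq_of_le_of_card_ge (inf_le_right : RR Q y ⊓ DD Q g ≤ DD Q g) (by omega)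
    exact hKR'.ge (this.ge hd).1
  obtain ⟨s, hs, es⟩ := h.range (c3, 1) c3_three.2.2 (map_one _)
  have hsx : Commute (π s) (π x) := by rw [es, ex]; exact Prod.ext (by simp) (by simp)
  set M := (DD Q g).map (MulAut.conj s).toMonoidHom with hM
  have hMR : M ≤ RR Q x := by
    rintro _ ⟨d, hd, rfl⟩
    exact h.R_stab hs hxz hsx (hDR hd)
  have hzM : z ∈ M :=
    ⟨z, h.z_mem_D P hu, by show s * z * s⁻¹ = z; rw [hs.eq, mul_inv_cancel_right]⟩
  have hmeet : DD Q g ⊓ M ≤ zpowers z := by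
    rintro _ ⟨hv1, v, hv, rfl⟩
    have := h.odd_pair hyz hs es (by rw [ey]; exact hodd) (T.Ks s hs es) (hDRy hv) (hDRy hv1)
    show s * v * s⁻¹ ∈ zpowers z
    rcases h.mem_Z.1 this with r | r <;> rw [r]
    · simp
    · rw [hs.eq, mul_inv_cancel_right]; exact mem_zpowers z
  have h1 := h.card_sup (A := DD Q g) inf_le_left (hMR.trans (h.R_le x)) (h.z_mem_D P hu) hzM
  rw [le_antisymm hmeet (h.Z_le (mem_inf.2 ⟨h.z_mem_D P hu, hzM⟩)), h.Z_card,
    show Nat.card M = Nat.card (DD Q g) from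
      Subgroup.card_map_of_injective (MulAut.conj s).injective, h16] at h1
  have h2 := card_le_of_le (sup_le hDR hMR)
  omega

end Nine

end CfsgLib.ExtraNine
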