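import Cfsg.Agent.Lib.ExtraNine.InQ

/-!
# Shape `T`: `π(C_U(z))` contains no four-group of `1 × A₆`
-/

set_option autoImplicit false
set_option linter.unusedSectionVars false
set_option linter.style.haveILetI false

namespace CfsgLib.ExtraNine

open Subgroup
open scoped commutatorElement

variable {G : Type*} [Group G]

namespace Nine

variable [Finite G] {z : G} {Q : Subgroup G} {π : G → GS} (h : Nine z Q π)
include h

variable {u g : G} (P : Pair z u g) (hu : u ∈ Q) (T : ShapeT z Q π)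
include P hu T

theorem T_EE_card : Nat.card (EE π Q z g) = 8 := by
  have h1 := h.EE_card P hu
  rw [h.T_D_card P hu T] at h1
  omega

theorem perp_D : perp Q (DD Q g) = DD Q g := by
  refine (eq_of_le_of_card_ge
    (fun d (hd : d ∈ DD Q g) => mem_perp.2 ⟨hd.1, fun w hw => h.D_comm P hu d hd w hw⟩) ?_).symm
  have := h.perp_card (H := DD Q g) inf_le_left (h.z_mem_D P hu)
  rw [h.T_D_card P hu T] at this ⊢
  omega

theorem T_faithful {x : G} (hx : x ∈ UU Q g ⊓ centralizer {z}) (hD : DD Q g ≤ KK Q x) :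
    π x = 1 := by
  obtain ⟨hxz, -⟩ := h.A_comm P hu hx
  have hcomm : ∀ d ∈ DD Q g, Commute x d := by
    intro d hd
    refine commutatorElement_eq_one_iff_commute.1 ?_
    rcases h.UU_commutator P.eq hx.1 hd.2 with r | r
    · exact r
    · exfalso
      refine h.u_notin_Z P ?_
      rw [← r]
      exact (h.comm_mem_Z_iff hxz hd.1).2 (hD hd)
  set D' := (DD Q g).map (MulAut.conj g⁻¹).toMonoidHom with hD'
  have hmem : ∀ w, w ∈ D' ↔ g * w * g⁻¹ ∈ DD Q g := by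
    intro w
    refine ⟨?_, fun hw => ⟨_, hw, show g⁻¹ * (g * w * g⁻¹) * g⁻¹⁻¹ = w by group⟩⟩
    rintro ⟨d, hd, rfl⟩
    show g * (g⁻¹ * d * g⁻¹⁻¹) * g⁻¹ ∈ DD Q g
    rwa [show g * (g⁻¹ * d * g⁻¹⁻¹) * g⁻¹ = d by group]
  have hD'Q : D' ≤ Q := by
    intro w hw
    have := mem_UU.1 ((hmem w).1 hw).2
    rwa [show g⁻¹ * (g * w * g⁻¹) * g = w by group] at this
  have hzD' : z ∈ D' := (hmem z).2 (by rw [P.eq]; exact h.u_mem_D P hu)
  have hperp : perp Q D' = D' := by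
    refine (eq_of_le_of_card_ge (fun w (hw : w ∈ D') => mem_perp.2 ⟨hD'Q hw, fun v hv =>
      (Commute.conj_iff g).1 (h.D_comm P hu _ ((hmem w).1 hw) _ ((hmem v).1 hv))⟩) ?_).symm
    have h1 := h.perp_card hD'Q hzD'
    rw [show Nat.card D' = 32 from
      (Subgroup.card_map_of_injective (MulAut.conj g⁻¹).injective).trans (h.T_D_card P hu T)] at h1 ⊢
    omega
  have hx' : g⁻¹ * x * g ∈ perp Q D' := by
    refine mem_perp.2 ⟨mem_UU.1 hx.1, fun w hw => ?_⟩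
    rw [← Commute.conj_iff g, show g * (g⁻¹ * x * g) * g⁻¹ = x by group]
    exact hcomm _ ((hmem w).1 hw)
  rw [hperp, hmem, show g * (g⁻¹ * x * g) * g⁻¹ = x by group] at hx'
  exact h.pi_mem hx'.1

/-- For two of the double transpositions in `π(C_U(z))` the groups `[x, Q]Z` meet in order eight. -/
theorem T_pairL {p q : P6} (hp : IsDt p) (hq : IsDt q) (hpq : p ≠ q) {x y : G}
    (hx : x ∈ UU Q g ⊓ centralizer {z}) (hy : y ∈ UU Q g ⊓ centralizer {z})
    (ex : π x = (1, p)) (ey : π y = (1, q)) :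
    Nat.card ↥(RR Q x ⊓ RR Q y) = 8 ∧ RR Q x ⊓ RR Q y ≤ DD Q g := by
  obtain ⟨hxz, hxu⟩ := h.A_comm P hu hx
  obtain ⟨hyz, hyu⟩ := h.A_comm P hu hy
  obtain ⟨-, h32x, hKRx⟩ := T.dt x p hxz ex hp
  obtain ⟨-, h32y, hKRy⟩ := T.dt y q hyz ey hq
  obtain ⟨hHx, huRx⟩ := h.H_ge P hu hx hKRx h32x
  obtain ⟨hHy, huRy⟩ := h.H_ge P hu hy hKRy h32y
  have hD32 := h.T_D_card P hu T
  have hcomm : π x * π y = π y * π x :=
    exp_two_comm (h.EE_sq P hu) _ ((h.mem_EE P hu).2 ⟨x, hx, rfl⟩)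
      _ ((h.mem_EE P hu).2 ⟨y, hy, rfl⟩)
  have hne : RR Q x ≠ RR Q y := by
    intro e
    have hxy : π (x * y) = (1, p * q) := by
      rw [h.map_mul _ _ hxz hyz, ex, ey, Prod.mk_mul_mk, one_mul]
    have hdt : IsDt (p * q) := by
      have hc : p * q = q * p := by
        rw [ex, ey] at hcomm
        exact congrArg Prod.snd hcomm
      refine ⟨?_, fun r => hpq ?_, ?_⟩
      · calc p * q * (p * q) = p * q * (q * p) := by rw [← hc]
          _ = 1 := by rw [mul_assoc, ← mul_assoc q, hq.1, one_mul, hp.1]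
      · calc p = p * (q * q) := by rw [hq.1, mul_one]
          _ = q := by rw [← mul_assoc, r, one_mul]
      · rw [_root_.map_mul, hp.2.2, hq.2.2, one_mul]
    obtain ⟨-, h32, hKR⟩ := T.dt _ _ (hxz.mul_left hyz) hxy hdt
    have heq : RR Q (x * y) = RR Q x := eq_of_le_of_card_ge
      ((h.R_mul hxz hyz).trans (by rw [e, sup_idem])) (by rw [h32x, h32])
    have hDnot : ¬ DD Q g ≤ RR Q x := fun hle => by
      have := h.T_faithful P hu T hx (hle.trans hKRx.ge)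
      rw [ex] at this
      exact hp.2.1 (congrArg Prod.snd this)
    obtain ⟨v, hv, hvR⟩ := SetLike.not_le_iff_exists.1 hDnot
    have key : ∀ w ∈ UU Q g ⊓ centralizer {z}, KK Q w = RR Q x → ⁅w, v⁆ = u := by
      intro w hw hK
      refine (h.UU_commutator P.eq hw.1 hv.2).resolve_left fun r => hvR (hK.le ?_)
      exact (h.comm_mem_Z_iff (h.A_comm P hu hw).1 hv.1).1 (by rw [r]; exact one_mem _)
    have e1 := key x hx hKRx
    have e2 := key y hy (hKRy.trans e.symm)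
    have e3 := key (x * y) (mul_mem hx hy) (hKR.trans heq)
    have hexp : ⁅x * y, v⁆ = x * ⁅y, v⁆ * x⁻¹ * ⁅x, v⁆ := by
      simp only [commutatorElement_def]; group
    rw [hexp, e2, e1, hxu.eq, mul_inv_cancel_right, h.u_sq P.eq] at e3
    exact h.u_ne_one P.eq e3.symm
  obtain ⟨s, hs, es⟩ := h.range (c3, 1) c3_three.2.2 (map_one _)
  have csx : Commute (π s) (π x) := by rw [es, ex]; exact Prod.ext (by simp) (by simp)
  have csy : Commute (π s) (π y) := by rw [es, ey]; exact Prod.ext (by simp) (by simp)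
  have h8 : Nat.card ↥(RR Q x ⊓ RR Q y) = 8 := by
    have hle := card_le_of_le (inf_le_left : RR Q x ⊓ RR Q y ≤ RR Q x)
    rw [h32x] at hle
    have hs3 : π s ^ 3 = 1 := by
      rw [es, pow_three', Prod.mk_mul_mk, Prod.mk_mul_mk, c3_three.1, one_mul, one_mul]
      rfl
    rcases h.fpf_card hs hs3 (inf_le_left.trans (h.R_le x) : RR Q x ⊓ RR Q y ≤ Q)
      (mem_inf.2 ⟨h.z_mem_R hxz, h.z_mem_R hyz⟩)
      (fun w hw => mem_inf.2 ⟨h.R_stab hs hxz csx hw.1, h.R_stab hs hyz csy hw.2⟩)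
      (inf_le_left.trans (T.Ks s hs es)) with r | r | r | r | r
    · exfalso
      refine h.u_notin_Z P ?_
      rw [show zpowers z = RR Q x ⊓ RR Q y from
        eq_of_le_of_card_ge (h.Z_le (mem_inf.2 ⟨h.z_mem_R hxz, h.z_mem_R hyz⟩))
          (by rw [r, h.Z_card])]
      exact mem_inf.2 ⟨huRx, huRy⟩
    · exact r
    · exfalso
      have e1 := eq_of_le_of_card_ge (inf_le_left : RR Q x ⊓ RR Q y ≤ RR Q x) (by rw [r, h32x])
      exact hne (eq_of_le_of_card_ge (inf_eq_left.1 e1) (by rw [h32x, h32y]))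
    all_goals omega
  refine ⟨h8, ?_⟩
  set Hx := RR Q x ⊓ DD Q g with hHxdef
  set Hy := RR Q y ⊓ DD Q g with hHydef
  have h1 := h.card_sup (inf_le_left.trans (h.R_le x) : Hx ≤ Q)
    (inf_le_left.trans (h.R_le y) : Hy ≤ Q)
    (mem_inf.2 ⟨h.z_mem_R hxz, h.z_mem_D P hu⟩) (mem_inf.2 ⟨h.z_mem_R hyz, h.z_mem_D P hu⟩)
  have h2 : Nat.card ↥(Hx ⊔ Hy) ≤ 32 :=
    hD32 ▸ card_le_of_le (sup_le inf_le_right inf_le_right)
  have hsub : Hx ⊓ Hy ≤ RR Q x ⊓ RR Q y := fun w hw => mem_inf.2 ⟨hw.1.1, hw.2.1⟩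
  have h3 := Nat.mul_le_mul hHx hHy
  have h4 : 8 ≤ Nat.card ↥(Hx ⊓ Hy) := by
    have h5 := Nat.mul_le_mul_right (Nat.card ↥(Hx ⊓ Hy)) h2
    nlinarith
  rw [← eq_of_le_of_card_ge hsub (by omega)]
  exact fun w hw => hw.1.2

/-- `π(C_U(z))` contains at most one double transposition. -/
theorem T_four {f f' : P6} (hf : IsDt f) (hf' : IsDt f') (hne : f ≠ f')
    (hmem : ((1, f) : GS) ∈ EE π Q z g) (hmem' : ((1, f') : GS) ∈ EE π Q z g) : False := by
  have hff : f * f' = f' * f :=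
    congrArg Prod.snd (exp_two_comm (h.EE_sq P hu) _ hmem _ hmem')
  have hdt3 : IsDt (f * f') := by
    refine ⟨?_, fun r => hne ?_, ?_⟩
    · calc f * f' * (f * f') = f * f' * (f' * f) := by rw [← hff]
        _ = 1 := by rw [mul_assoc, ← mul_assoc f', hf'.1, one_mul, hf.1]
    · calc f = f * (f' * f') := by rw [hf'.1, mul_one]
        _ = f' := by rw [← mul_assoc, r, one_mul]
    · rw [_root_.map_mul, hf.2.2, hf'.2.2, one_mul]
  have hF : ∀ r : P6, ((1, r) : GS) ∈ EE π Q z g → Equiv.Perm.sign r = 1 →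
      r = 1 ∨ r = f ∨ r = f' ∨ r = f * f' := fun r hr hs =>
    four_self hf hf' hne hff (congrArg Prod.snd (exp_two_comm (h.EE_sq P hu) _ hmem _ hr))
      (congrArg Prod.snd (exp_two_comm (h.EE_sq P hu) _ hmem' _ hr))
      (congrArg Prod.snd (h.EE_sq P hu _ hr)) hs
  obtain ⟨x1, hx1, e1⟩ := (h.mem_EE P hu).1 hmem
  obtain ⟨x2, hx2, e2⟩ := (h.mem_EE P hu).1 hmem'
  obtain ⟨hx1z, hx1u⟩ := h.A_comm P hu hx1
  obtain ⟨hx2z, -⟩ := h.A_comm P hu hx2
  have e3 : π (x1 * x2) = (1, f * f') := by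
    rw [h.map_mul _ _ hx1z hx2z, e1, e2, Prod.mk_mul_mk, one_mul]
  have hx3z : Commute (x1 * x2) z := hx1z.mul_left hx2z
  set L := RR Q x1 ⊓ RR Q x2 with hL
  obtain ⟨hL8, hLD⟩ := h.T_pairL P hu T hf hf' hne hx1 hx2 e1 e2
  obtain ⟨-, h32, hKR⟩ := T.dt x1 f hx1z e1 hf
  obtain ⟨hH16, huR1⟩ := h.H_ge P hu hx1 hKR h32
  obtain ⟨-, h32', hKR'⟩ := T.dt x2 f' hx2z e2 hf'
  obtain ⟨-, huR2⟩ := h.H_ge P hu hx2 hKR' h32'
  obtain ⟨-, h32'', hKR''⟩ := T.dt _ _ hx3z e3 hdt3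
  obtain ⟨-, huR3⟩ := h.H_ge P hu (mul_mem hx1 hx2) hKR'' h32''
  have huL : u ∈ L := mem_inf.2 ⟨huR1, huR2⟩
  have hzL : z ∈ L := mem_inf.2 ⟨h.z_mem_R hx1z, h.z_mem_R hx2z⟩
  have hLQ : L ≤ Q := inf_le_left.trans (h.R_le x1)
  obtain ⟨s, hs, es⟩ := h.range (c3, 1) c3_three.2.2 (map_one _)
  have hKs := T.Ks s hs es
  have hs3 : π s * π s * π s = 1 := by
    rw [es, Prod.mk_mul_mk, Prod.mk_mul_mk, c3_three.1, one_mul, one_mul]; rfl
  have hsc : ∀ {y : G} {r : P6}, π y = (1, r) → Commute (π s) (π y) := by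
    intro y r e; rw [es, e]; exact Prod.ext (by simp) (by simp)
  have hsL : ∀ w ∈ L, s * w * s⁻¹ ∈ L := fun w hw =>
    mem_inf.2 ⟨h.R_stab hs hx1z (hsc e1) hw.1, h.R_stab hs hx2z (hsc e2) hw.2⟩
  -- the three groups `[x, Q]Z` pairwise meet in `L`
  have hL3 : L ≤ RR Q (x1 * x2) := by
    have hne13 : f ≠ f * f' := fun r => hf'.2.1 (mul_left_cancel (a := f) (by rw [mul_one]; exact r.symm))
    obtain ⟨h13, -⟩ := h.T_pairL P hu T hf hdt3 hne13 hx1 (mul_mem hx1 hx2) e1 e3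
    set M := L ⊓ RR Q (x1 * x2) with hM
    have hle := card_le_of_le (inf_le_left : M ≤ L)
    rw [hL8] at hle
    rcases h.fpf_card hs (by rw [pow_three', hs3]) (inf_le_left.trans hLQ : M ≤ Q)
      (mem_inf.2 ⟨hzL, h.z_mem_R hx3z⟩)
      (fun w hw => mem_inf.2 ⟨hsL w hw.1, h.R_stab hs hx3z (hsc e3) hw.2⟩)
      (inf_le_left.trans hKs) with r | r | r | r | r
    · exfalso
      refine h.u_notin_Z P ?_
      rw [show zpowers z = M from eq_of_le_of_card_ge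
        (h.Z_le (mem_inf.2 ⟨hzL, h.z_mem_R hx3z⟩)) (by rw [r, h.Z_card])]
      exact mem_inf.2 ⟨huL, huR3⟩
    · exact inf_eq_left.1 (eq_of_le_of_card_ge inf_le_left (by rw [r, hL8]))
    all_goals omega
  obtain ⟨η, hη, ⟨n1, n2, n3⟩, q1, q2⟩ := four_other hf hf' hne hff
  simp only [List.mem_cons, List.not_mem_nil, or_false, not_or] at n1 n2 n3 q1 q2
  obtain ⟨a, ha, ea⟩ := h.range (1, η) (map_one _) hη
  have eai : π a⁻¹ = (1, η⁻¹) := by rw [h.pi_inv ha, ea, Prod.inv_mk, inv_one]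
  set L' := L.map (MulAut.conj a).toMonoidHom with hL'
  have hL'8 : Nat.card L' = 8 := (Subgroup.card_map_of_injective (MulAut.conj a).injective).trans hL8
  have memL' : ∀ w, w ∈ L' ↔ a⁻¹ * w * a ∈ L := by
    intro w
    refine ⟨?_, fun hw => ⟨_, hw, show a * (a⁻¹ * w * a) * a⁻¹ = w by group⟩⟩
    rintro ⟨v, hv, rfl⟩
    show a⁻¹ * (a * v * a⁻¹) * a ∈ L
    rwa [show a⁻¹ * (a * v * a⁻¹) * a = v by group]
  have hzL' : z ∈ L' := (memL' z).2 (by rw [mul_assoc, ← ha.eq, inv_mul_cancel_left]; exact hzL)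
  have hL'Q : L' ≤ Q := by
    intro w hw
    have := h.conjQ ha (hLQ ((memL' w).1 hw))
    rwa [show a * (a⁻¹ * w * a) * a⁻¹ = w by group] at this
  have hasa : Commute (π a⁻¹) (π s) := by
    rw [eai, es]; exact Prod.ext (by simp) (by simp)
  have hsL' : ∀ w ∈ L', s * w * s⁻¹ ∈ L' := by
    intro w hw
    rw [memL']
    have hs' : Commute (a⁻¹ * s * a) z := (ha.inv_left.mul_left hs).mul_left ha
    have hes' : π (a⁻¹ * s * a) = π s := by
      rw [h.map_mul _ _ (ha.inv_left.mul_left hs) ha, h.map_mul _ _ ha.inv_left hs, hasa.eq,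
        h.pi_inv ha, inv_mul_cancel_right]
    have hin := (memL' w).1 hw
    rw [show a⁻¹ * (s * w * s⁻¹) * a = (a⁻¹ * s * a) * (a⁻¹ * w * a) * (a⁻¹ * s * a)⁻¹ by group]
    exact mem_inf.2 ⟨h.R_stab hs' hx1z (by rw [hes']; exact hsc e1) hin.1,
      h.R_stab hs' hx2z (by rw [hes']; exact hsc e2) hin.2⟩
  -- `x1` normalizes `L'`
  have hLall : ∀ r : P6, (r = f ∨ r = f' ∨ r = f * f') → ∃ y, Commute y z ∧ π y = (1, r) ∧
      L ≤ RR Q y := by
    rintro r (rfl | rfl | rfl)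
    · exact ⟨x1, hx1z, e1, inf_le_left⟩
    · exact ⟨x2, hx2z, e2, inf_le_right⟩
    · exact ⟨x1 * x2, hx3z, e3, hL3⟩
  have htarget : ∀ r r' : P6, (r = f ∨ r = f' ∨ r = f * f') → (r' = f ∨ r' = f' ∨ r' = f * f') →
      r ≠ r' → ∀ w, (∀ y, Commute y z → π y = (1, r) → w ∈ RR Q y) →
      (∀ y, Commute y z → π y = (1, r') → w ∈ RR Q y) → w ∈ L := by
    intro r r' hr hr' hrr w hw hw'
    obtain ⟨y, hy, ey, hyL⟩ := hLall r hr
    obtain ⟨y', hy', ey', hy'L⟩ := hLall r' hr'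
    -- both `[y, Q]Z` contain `L` and meet in order eight
    have h8' : Nat.card ↥(RR Q y ⊓ RR Q y') ≤ 8 := by
      have hr6 : IsDt r := by rcases hr with rfl | rfl | rfl <;> assumption
      have hr6' : IsDt r' := by rcases hr' with rfl | rfl | rfl <;> assumption
      have hin : ∀ r : P6, (r = f ∨ r = f' ∨ r = f * f') → ∃ x ∈ UU Q g ⊓ centralizer {z},
          π x = (1, r) := by
        rintro r (rfl | rfl | rfl)
        · exact ⟨x1, hx1, e1⟩
        · exact ⟨x2, hx2, e2⟩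
        · exact ⟨x1 * x2, mul_mem hx1 hx2, e3⟩
      obtain ⟨x, hx, ex⟩ := hin r hr
      obtain ⟨x', hx', ex'⟩ := hin r' hr'
      obtain ⟨h8, -⟩ := h.T_pairL P hu T hr6 hr6' hrr hx hx' ex ex'
      rw [h.R_congr hy (h.A_comm P hu hx).1 (ey.trans ex.symm),
        h.R_congr hy' (h.A_comm P hu hx').1 (ey'.trans ex'.symm), h8]
    rw [eq_of_le_of_card_ge (le_inf hyL hy'L) (hL8 ▸ h8')]
    exact mem_inf.2 ⟨hw y hy ey, hw' y' hy' ey'⟩
  have hxL' : ∀ w ∈ L', x1 * w * x1⁻¹ ∈ L' := by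
    intro w hw
    rw [memL']
    have hw0 := (memL' w).1 hw
    have hm : Commute (a⁻¹ * x1 * a) z := (ha.inv_left.mul_left hx1z).mul_left ha
    have em : π (a⁻¹ * x1 * a) = (1, η⁻¹ * f * η) := by
      rw [h.map_mul _ _ (ha.inv_left.mul_left hx1z) ha, h.map_mul _ _ ha.inv_left hx1z, eai, e1,
        ea]
      simp
    rw [show a⁻¹ * (x1 * w * x1⁻¹) * a =
      (a⁻¹ * x1 * a) * (a⁻¹ * w * a) * (a⁻¹ * x1 * a)⁻¹ by group]
    set m := a⁻¹ * x1 * a
    have key : ∀ (r : P6) (y : G), Commute y z → π y = (1, r) → L ≤ RR Q y →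
        ∀ y', Commute y' z → π y' = (1, η⁻¹ * (f * (η * r * η⁻¹) * f⁻¹) * η) →
          m * (a⁻¹ * w * a) * m⁻¹ ∈ RR Q y' := by
      intro r y hy ey hLy y' hy' ey'
      refine h.R_move hm hy hy' ?_ (hLy hw0)
      rw [ey', em, ey, Prod.inv_mk, Prod.mk_mul_mk, Prod.mk_mul_mk]
      refine Prod.ext (by simp) ?_
      show η⁻¹ * (f * (η * r * η⁻¹) * f⁻¹) * η = η⁻¹ * f * η * r * (η⁻¹ * f * η)⁻¹
      group
    have back : ∀ r : P6, (f * (η * r * η⁻¹) * f⁻¹ = η * f * η⁻¹ ∨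
        f * (η * r * η⁻¹) * f⁻¹ = η * f' * η⁻¹ ∨
        f * (η * r * η⁻¹) * f⁻¹ = η * (f * f') * η⁻¹) →
        η⁻¹ * (f * (η * r * η⁻¹) * f⁻¹) * η = f ∨ η⁻¹ * (f * (η * r * η⁻¹) * f⁻¹) * η = f' ∨
          η⁻¹ * (f * (η * r * η⁻¹) * f⁻¹) * η = f * f' := by
      intro r hr
      rcases hr with e | e | e <;> rw [e]
      · left; group
      · right; left; group
      · right; right; group
    exact htarget _ _ (back f q1) (back f' q2)
      (fun e => hne (by simpa using mul_left_cancel (mul_right_cancel e)))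
      _ (key f x1 hx1z e1 inf_le_left) (key f' x2 hx2z e2 inf_le_right)
  have hL'R : L' ≤ RR Q x1 := by
    intro v hv
    by_cases hvz : v ∈ zpowers z
    · exact h.Z_le (h.z_mem_R hx1z) hvz
    refine hKR.le ((h.mem_K hx1z).2 ⟨hL'Q hv, ?_⟩)
    have hvQ := hL'Q hv
    have hx11 : x1 * x1 ∈ Q := (h.ker _ (hx1z.mul_left hx1z)).1
      (by rw [h.map_mul _ _ hx1z hx1z, e1, Prod.mk_mul_mk, one_mul, hf.1]; rfl)
    have hss : Commute (s * s) z := hs.mul_left hs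
    have hKs2 : KK Q (s * s) ≤ zpowers z := by
      rw [h.K_congr hss hs.inv_left (by
        rw [h.map_mul _ _ hs hs, h.pi_inv hs]; exact eq_inv_of_mul_eq_one_left hs3), h.K_inv hs]
      exact hKs
    have hxs : bar Q (x1 * (s * v * s⁻¹) * x1⁻¹) = bar Q (s * (x1 * v * x1⁻¹) * s⁻¹) := by
      rw [show x1 * (s * v * s⁻¹) * x1⁻¹ = (x1 * s) * v * (x1 * s)⁻¹ by group,
        h.bar_conj_pi (hx1z.mul_left hs) (hs.mul_left hx1z)
          (by rw [h.map_mul _ _ hx1z hs, h.map_mul _ _ hs hx1z, (hsc e1).eq]) hvQ]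
      congr 1; group
    have hxx : bar Q (x1 * (x1 * v * x1⁻¹) * x1⁻¹) = bar Q v := by
      rw [show x1 * (x1 * v * x1⁻¹) * x1⁻¹ = (x1 * x1) * v * (x1 * x1)⁻¹ by group]
      exact h.bar_conj_mem hx11 hvQ
    rcases h.eight hL'Q hzL' hL'8 hs hs3 hsL' (inf_le_left.trans hKs) hv hvz (hxL' v hv) with
      r | r | r | r
    · exfalso
      rw [← bar_one] at r
      have := h.bar_conj_congr hx1z (h.conjQ hx1z hvQ) (one_mem Q) r
      rw [hxx, mul_one, mul_inv_cancel, bar_one] at this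
      exact hvz ((h.bar_eq_one hvQ).1 this)
    · exact r
    · exfalso
      have := h.bar_conj_congr hx1z (h.conjQ hx1z hvQ) (h.conjQ hs hvQ) r
      rw [hxx, hxs, h.bar_conj_congr hs (h.conjQ hx1z hvQ) (h.conjQ hs hvQ) r,
        show s * (s * v * s⁻¹) * s⁻¹ = s * s * v * (s * s)⁻¹ by group] at this
      exact hvz (hKs2 ((h.mem_K hss).2 ⟨hvQ, this.symm⟩))
    · exfalso
      have := h.bar_conj_congr hx1z (h.conjQ hx1z hvQ) (h.conjQ hss hvQ) r
      rw [hxx, show x1 * (s * s * v * (s * s)⁻¹) * x1⁻¹ = x1 * (s * (s * v * s⁻¹) * s⁻¹) * x1⁻¹ by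
        group] at this
      have hxs' : bar Q (x1 * (s * (s * v * s⁻¹) * s⁻¹) * x1⁻¹) =
          bar Q (s * (x1 * (s * v * s⁻¹) * x1⁻¹) * s⁻¹) := by
        rw [show x1 * (s * (s * v * s⁻¹) * s⁻¹) * x1⁻¹ =
            (x1 * s) * (s * v * s⁻¹) * (x1 * s)⁻¹ by group,
          h.bar_conj_pi (hx1z.mul_left hs) (hs.mul_left hx1z)
            (by rw [h.map_mul _ _ hx1z hs, h.map_mul _ _ hs hx1z, (hsc e1).eq]) (h.conjQ hs hvQ)]
        congr 1; group
      rw [hxs', h.bar_conj_congr hs (h.conjQ hx1z (h.conjQ hs hvQ))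
        (h.conjQ hs (h.conjQ hx1z hvQ)) hxs,
        show s * (s * (x1 * v * x1⁻¹) * s⁻¹) * s⁻¹ = s * s * (x1 * v * x1⁻¹) * (s * s)⁻¹ by group,
        h.bar_conj_congr hss (h.conjQ hx1z hvQ) (h.conjQ hss hvQ) r,
        show s * s * (s * s * v * (s * s)⁻¹) * (s * s)⁻¹ =
          (s * s * s) * (s * v * s⁻¹) * (s * s * s)⁻¹ by group,
        h.bar_conj_mem ((h.ker _ (hss.mul_left hs)).1
          (by rw [h.map_mul _ _ hss hs, h.map_mul _ _ hs hs]; exact hs3)) (h.conjQ hs hvQ)] at this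
      exact hvz (hKs ((h.mem_K hs).2 ⟨hvQ, this.symm⟩))
  -- `L'` differs from `L`
  have hauL : a * u * a⁻¹ ∉ L := by
    intro hin
    have huz : u ∉ zpowers z := h.u_notin_Z P
    have key : ∀ (m : G) (i : Equiv.Perm (Fin 3)), Commute m z → π m = (i, η) →
        bar Q (m * u * m⁻¹) = bar Q u → False := by
      intro m i hm em ebar
      obtain ⟨m', hm', hm'u, em'⟩ := h.adjust P hu hm ebar
      have h1 := h.EE_stab P hu hm' hm'u hmem
      rw [em', em, Prod.inv_mk, Prod.mk_mul_mk, Prod.mk_mul_mk, mul_one, mul_inv_cancel] at h1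
      rcases hF _ h1 (by rw [_root_.map_mul, _root_.map_mul, _root_.map_inv, hf.2.2, mul_one, mul_inv_cancel])
        with r | r | r | r
      · exact hf.2.1 (by simpa using r)
      · exact n1.1 r
      · exact n1.2.1 r
      · exact n1.2.2 r
    rcases h.eight hLQ hzL hL8 hs hs3 hsL (inf_le_left.trans hKs) huL huz hin with r | r | r | r
    · refine huz ?_
      rcases h.mem_Z.1 ((h.bar_eq_one (h.conjQ ha hu)).1 r) with e | e
      · rw [show u = 1 by simpa using e]; exact one_mem _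
      · rw [show u = z by
          calc u = a⁻¹ * (a * u * a⁻¹) * a := by group
            _ = z := by rw [e, mul_assoc, ← ha.eq, inv_mul_cancel_left]]
        exact mem_zpowers z
    · exact key a 1 ha ea r
    · refine key (s⁻¹ * a) c3⁻¹ (hs.inv_left.mul_left ha)
        (by rw [h.map_mul _ _ hs.inv_left ha, h.pi_inv hs, es, ea]; simp) ?_
      have := h.bar_conj_congr hs.inv_left (h.conjQ ha hu) (h.conjQ hs hu) r
      rwa [show s⁻¹ * (s * u * s⁻¹) * s⁻¹⁻¹ = u by group,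
        show s⁻¹ * (a * u * a⁻¹) * s⁻¹⁻¹ = s⁻¹ * a * u * (s⁻¹ * a)⁻¹ by group] at this
    · refine key ((s * s)⁻¹ * a) (c3 * c3)⁻¹ ((hs.mul_left hs).inv_left.mul_left ha)
        (by rw [h.map_mul _ _ (hs.mul_left hs).inv_left ha, h.pi_inv (hs.mul_left hs),
          h.map_mul _ _ hs hs, es, ea]; simp) ?_
      have := h.bar_conj_congr (hs.mul_left hs).inv_left (h.conjQ ha hu)
        (h.conjQ (hs.mul_left hs) hu) r
      rwa [show (s * s)⁻¹ * (s * s * u * (s * s)⁻¹) * (s * s)⁻¹⁻¹ = u by group,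
        show (s * s)⁻¹ * (a * u * a⁻¹) * (s * s)⁻¹⁻¹ =
          (s * s)⁻¹ * a * u * ((s * s)⁻¹ * a)⁻¹ by group] at this
  have hauL' : a * u * a⁻¹ ∈ L' := ⟨u, huL, rfl⟩
  have hLL' : L ⊓ L' ≤ zpowers z := by
    have hle := card_le_of_le (inf_le_left : L ⊓ L' ≤ L)
    rw [hL8] at hle
    rcases h.fpf_card hs (by rw [pow_three', hs3]) (inf_le_left.trans hLQ : L ⊓ L' ≤ Q)
      (mem_inf.2 ⟨hzL, hzL'⟩) (fun w hw => mem_inf.2 ⟨hsL w hw.1, hsL' w hw.2⟩)
      (inf_le_left.trans hKs) with r | r | r | r | r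
    · exact (eq_of_le_of_card_ge (h.Z_le (mem_inf.2 ⟨hzL, hzL'⟩)) (by rw [r, h.Z_card])).ge
    · exfalso
      refine hauL ?_
      have e1 := eq_of_le_of_card_ge (inf_le_right : L ⊓ L' ≤ L') (by rw [r, hL'8])
      exact (e1.ge hauL').1
    all_goals omega
  have hLsup : L ⊔ L' = RR Q x1 := by
    refine eq_of_le_of_card_ge (sup_le inf_le_left hL'R) ?_
    have h1 := h.card_sup hLQ hL'Q hzL hzL'
    rw [le_antisymm hLL' (h.Z_le (mem_inf.2 ⟨hzL, hzL'⟩)), h.Z_card, hL8, hL'8] at h1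
    omega
  set H := RR Q x1 ⊓ DD Q g with hH
  have hLH : L ≤ H := le_inf inf_le_left hLD
  have hD32 := h.T_D_card P hu T
  have hHnot : ¬ (∀ w ∈ H, s * w * s⁻¹ ∈ H) ∨ Nat.card H = 32 := by
    by_cases h32H : Nat.card H = 32
    · exact Or.inr h32H
    refine Or.inl fun hinv => ?_
    have hle : Nat.card H ≤ 32 := (card_le_of_le inf_le_left).trans h32.le
    have hH16h : 16 ≤ Nat.card H := hH16
    rcases h.fpf_card (H := H) hs (by rw [pow_three', hs3]) (inf_le_left.trans (h.R_le x1))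
      (mem_inf.2 ⟨h.z_mem_R hx1z, h.z_mem_D P hu⟩) hinv (inf_le_left.trans hKs) with
      r | r | r | r | r <;> omega
  have hDne : ¬ DD Q g ≤ RR Q x1 := fun hle => by
    have := h.T_faithful P hu T hx1 (hle.trans hKR.ge)
    rw [e1] at this
    exact hf.2.1 (congrArg Prod.snd this)
  have hH32 : Nat.card H ≠ 32 := fun e => hDne fun d hd =>
    ((eq_of_le_of_card_ge (inf_le_right : H ≤ DD Q g) (by rw [e, hD32])).ge hd).1
  have hH16' : Nat.card H ≤ 16 := by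
    obtain ⟨k, hk, ek⟩ := h.card_pow (inf_le_left.trans (h.R_le x1) : H ≤ Q)
    have hle := card_le_of_le (inf_le_left : H ≤ RR Q x1)
    rw [h32, ek] at hle
    rw [ek] at hH32 ⊢
    have hk4 : k ≤ 4 := by
      by_contra hk4
      have h5 := Nat.pow_le_pow_right two_pos (show 5 ≤ k by omega)
      omega
    exact (Nat.pow_le_pow_right two_pos hk4).trans (by norm_num)
  obtain ⟨u'', hu''H, hu''L', hu''z⟩ : ∃ w, w ∈ H ∧ w ∈ L' ∧ w ∉ zpowers z := by
    by_contra hcon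
    push Not at hcon
    have hH16h : 16 ≤ Nat.card H := hH16
    have h1 := h.card_sup (A := H) (inf_le_left.trans (h.R_le x1)) hL'Q
      (mem_inf.2 ⟨h.z_mem_R hx1z, h.z_mem_D P hu⟩) hzL'
    have h2 : Nat.card ↥(H ⊔ L') ≤ 32 := h32 ▸ card_le_of_le (sup_le inf_le_left hL'R)
    have h3 : Nat.card ↥(H ⊓ L') ≤ 2 :=
      h.Z_card ▸ card_le_of_le fun w hw => hcon w hw.1 hw.2
    have h4 := Nat.mul_le_mul h2 h3
    rw [h1, hL'8] at h4
    omega
  have hauz : a * u * a⁻¹ ∉ zpowers z := fun e => hauL (h.Z_le hzL e)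
  obtain ⟨m, i, hi, hm, em, hu'⟩ : ∃ (m : G) (i : Equiv.Perm (Fin 3)),
      Equiv.Perm.sign i = 1 ∧ Commute m z ∧ π m = (i, η) ∧ bar Q u'' = bar Q (m * u * m⁻¹) := by
    rcases h.eight hL'Q hzL' hL'8 hs hs3 hsL' (inf_le_left.trans hKs) hauL' hauz hu''L' with
      r | r | r | r
    · exact absurd ((h.bar_eq_one (hL'Q hu''L')).1 r) hu''z
    · exact ⟨a, 1, _root_.map_one _, ha, ea, r⟩
    · refine ⟨s * a, c3, c3_three.2.2, hs.mul_left ha, by rw [h.map_mul _ _ hs ha, es, ea]; simp, ?_⟩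
      rw [r]; congr 1; group
    · refine ⟨s * s * a, c3 * c3, by rw [_root_.map_mul, c3_three.2.2, one_mul],
        (hs.mul_left hs).mul_left ha, by
        rw [h.map_mul _ _ (hs.mul_left hs) ha, h.map_mul _ _ hs hs, es, ea]; simp, ?_⟩
      rw [r]; congr 1; group
  set u' := m * u * m⁻¹ with hu'def
  have hu'Q : u' ∈ Q := h.conjQ hm hu
  have hu'H : u' ∈ H := h.mem_of_bar (mem_inf.2 ⟨h.z_mem_R hx1z, h.z_mem_D P hu⟩)
    (hL'Q hu''L') hu'Q hu' hu''H
  have hu'L' : u' ∈ L' := h.mem_of_bar hzL' (hL'Q hu''L') hu'Q hu' hu''L'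
  have hu'z : u' ∉ zpowers z := fun e => hu''z ((h.bar_eq_one (hL'Q hu''L')).1
    (hu'.trans ((h.bar_eq_one hu'Q).2 e)))
  have hu'u : u' ≠ u := fun e => hu'z (hLL' (mem_inf.2 ⟨e ▸ huL, hu'L'⟩))
  set D' := (DD Q g).map (MulAut.conj m).toMonoidHom with hD'
  have memD' : ∀ w, w ∈ D' ↔ m⁻¹ * w * m ∈ DD Q g := by
    intro w
    refine ⟨?_, fun hw => ⟨_, hw, show m * (m⁻¹ * w * m) * m⁻¹ = w by group⟩⟩
    rintro ⟨d, hd, rfl⟩
    show m⁻¹ * (m * d * m⁻¹) * m ∈ DD Q g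
    rwa [show m⁻¹ * (m * d * m⁻¹) * m = d by group]
  have hD'comm : ∀ v ∈ D', ∀ w ∈ D', Commute v w := fun v hv w hw => by
    have := (Commute.conj_iff m).2 (h.D_comm P hu _ ((memD' v).1 hv) _ ((memD' w).1 hw))
    rwa [show m * (m⁻¹ * v * m) * m⁻¹ = v by group,
      show m * (m⁻¹ * w * m) * m⁻¹ = w by group] at this
  have hL'D' : L' ≤ D' := by
    intro v hv
    have hv0 := (memL' v).1 hv
    have hma : Commute (m⁻¹ * a) z := hm.inv_left.mul_left ha
    have ema : π (m⁻¹ * a) = (i⁻¹, 1) := by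
      rw [h.map_mul _ _ hm.inv_left ha, h.pi_inv hm, em, ea]; simp
    rw [memD', show m⁻¹ * v * m = (m⁻¹ * a) * (a⁻¹ * v * a) * (m⁻¹ * a)⁻¹ by group]
    exact hLD (mem_inf.2
      ⟨h.R_stab hma hx1z (by rw [ema, e1]; exact Prod.ext (by simp) (by simp)) hv0.1,
      h.R_stab hma hx2z (by rw [ema, e2]; exact Prod.ext (by simp) (by simp)) hv0.2⟩)
  set T0 := DD Q g ⊓ D' with hT0
  have hT0R : T0 ≤ RR Q x1 := by
    intro w hw
    refine hKR.le ?_
    rw [h.K_eq_perp hx1z, ← hLsup]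
    refine mem_perp.2 ⟨hw.1.1, fun v hv => ?_⟩
    have hle : L ⊔ L' ≤ centralizer {w} := sup_le
      (fun l hl => mem_centralizer_singleton_iff.2 (h.D_comm P hu l (hLD hl) w hw.1).eq)
      (fun l hl => mem_centralizer_singleton_iff.2 (hD'comm l (hL'D' hl) w hw.2).eq)
    exact (mem_centralizer_singleton_iff.1 (hle hv)).symm
  have hT0H : T0 ≤ H := le_inf hT0R inf_le_left
  have hT08 : Nat.card T0 ≤ 8 := by
    by_contra hlt
    have hH_eq : T0 = H := by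
      refine eq_of_le_of_card_ge hT0H ?_
      obtain ⟨k, hk, ek⟩ := h.card_pow (inf_le_left.trans inf_le_left : T0 ≤ Q)
      have hk4 : 4 ≤ k := by
        by_contra hk4
        exact hlt (ek ▸ (Nat.pow_le_pow_right two_pos (show k ≤ 3 by omega)).trans (by norm_num))
      rw [ek]
      exact hH16'.trans ((show 16 ≤ 2 ^ 4 by norm_num).trans (Nat.pow_le_pow_right two_pos hk4))
    have hHD' : H ≤ D' := hH_eq ▸ inf_le_right
    have hD'eq : RR Q x1 = D' := by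
      refine eq_of_le_of_card_ge (hLsup ▸ sup_le (hLH.trans hHD') hL'D') ?_
      rw [h32, show Nat.card D' = 32 from
        (Subgroup.card_map_of_injective (MulAut.conj m).injective).trans hD32]
    have hDs : ∀ d ∈ DD Q g, s * d * s⁻¹ ∈ DD Q g := by
      intro d hd
      have h1 : m * d * m⁻¹ ∈ RR Q x1 := hD'eq.ge ⟨d, hd, rfl⟩
      have hs' := h.conj_comm hm hs
      have h2 := h.R_stab hs' hx1z (by
        rw [h.pi_conj hm hs, em, es, e1, Prod.inv_mk, Prod.mk_mul_mk, Prod.mk_mul_mk, mul_one,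
          mul_inv_cancel]
        exact Prod.ext (by simp) (by simp)) h1
      have h3 := (memD' _).1 (hD'eq.le h2)
      rwa [show m⁻¹ * (m * s * m⁻¹ * (m * d * m⁻¹) * (m * s * m⁻¹)⁻¹) * m = s * d * s⁻¹ by
        group] at h3
    refine (hHnot.resolve_right hH32) fun w hw => mem_inf.2 ⟨h.R_stab hs hx1z (hsc e1) hw.1, hDs w hw.2⟩
  -- the group at `u'`
  have hu'D : u' ∈ DD Q g := hu'H.2
  have P' : Pair z u' (m * g) := ⟨by rw [hu'def, ← P.eq]; group, h.cz hu'Q, fun e => hu'z (e ▸ mem_zpowers z)⟩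
  have hw0Q : g⁻¹ * u' * g ∈ Q := mem_UU.1 hu'D.2
  have P0 : Pair z (g⁻¹ * u' * g) (g⁻¹ * m * g) := by
    refine ⟨?_, h.to_z P.eq (h.D_comm P hu u' hu'D u (h.u_mem_D P hu)), fun e => hu'u ?_⟩
    · rw [hu'def, ← P.eq]; group
    · rw [← P.eq]
      calc u' = g * (g⁻¹ * u' * g) * g⁻¹ := by group
        _ = g * z * g⁻¹ := by rw [e]
  set W := UU Q g ⊓ UU Q (m * g) with hW
  have hW0 : ∀ w, w ∈ W ↔ g⁻¹ * w * g ∈ DD Q (g⁻¹ * m * g) := by
    intro w
    rw [hW, mem_inf, DD, mem_inf, mem_UU, mem_UU, mem_UU,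
      show (g⁻¹ * m * g)⁻¹ * (g⁻¹ * w * g) * (g⁻¹ * m * g) = (m * g)⁻¹ * w * (m * g) by group]
  have hW32 : Nat.card W = 32 := by
    rw [← h.T_D_card P0 hw0Q T]
    refine Nat.card_congr
      { toFun := fun w => ⟨g⁻¹ * w.1 * g, (hW0 _).1 w.2⟩
        invFun := fun d => ⟨g * d.1 * g⁻¹, (hW0 _).2
          (by rw [show g⁻¹ * (g * d.1 * g⁻¹) * g = d.1 by group]; exact d.2)⟩
        left_inv := fun w => Subtype.ext (by group)
        right_inv := fun d => Subtype.ext (by group) }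
  have hWsq : ∀ w ∈ W, w * w = 1 := by
    intro w hw
    have := h.D_sq P0 hw0Q _ ((hW0 w).1 hw)
    calc w * w = g * ((g⁻¹ * w * g) * (g⁻¹ * w * g)) * g⁻¹ := by group
      _ = 1 := by rw [this]; group
  have hzW : z ∈ W := mem_inf.2 ⟨h.z_mem_U P hu, h.z_mem_U P' hu'Q⟩
  have hWz : ∀ w ∈ W, Commute w z := fun w hw => h.abelian_of_sq hWsq w hw z hzW
  have hWA : ∀ w ∈ W, w ∈ UU Q g ⊓ centralizer {z} := fun w hw =>
    mem_inf.2 ⟨hw.1, mem_centralizer_singleton_iff.2 (hWz w hw).eq⟩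
  have hWcard := h.img_card (π := π) (u := z) (g := 1) (by group) hWz
  rw [hW32] at hWcard
  have hWQ : Nat.card ↥(W ⊓ UU Q 1) ≤ 8 := by
    refine le_trans (card_le_of_le fun w hw => ?_) hT08
    have hwQ : w ∈ Q := h.UU_one.le hw.2
    refine mem_inf.2 ⟨mem_inf.2 ⟨hwQ, hw.1.1⟩, (memD' w).2 (mem_inf.2 ⟨h.conjQ' hm hwQ, ?_⟩)⟩
    have := mem_UU.1 hw.1.2
    rw [mem_UU]
    rwa [show g⁻¹ * (m⁻¹ * w * m) * g = (m * g)⁻¹ * w * (m * g) by group]
  have hJE : img π 1 W ≤ EE π Q z g := by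
    intro p hp
    obtain ⟨w, hw, rfl⟩ := (h.mem_img (u := z) (g := 1) (by group) hWz).1 hp
    exact (h.mem_EE P hu).2 ⟨w, hWA w hw, h.pu_self.symm⟩
  have hker : img π 1 W ⊓ sgn.ker = ⊥ := by
    refine (Subgroup.eq_bot_iff_forall _).2 fun p hp => ?_
    by_contra hp1
    obtain ⟨q0, hq0⟩ := even_even (h.EE_sq P hu p (hJE hp.1)) hp1 hp.2
    obtain ⟨w, hw, ew⟩ := (h.mem_img (u := z) (g := 1) (by group) hWz).1 hp.1
    rw [h.pu_self] at ew
    have hwz := hWz w hw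
    have hconjA : m⁻¹ * w * m ∈ UU Q g ⊓ centralizer {z} := by
      refine mem_inf.2 ⟨?_, mem_centralizer_singleton_iff.2
        ((hm.inv_left.mul_left hwz).mul_left hm).eq⟩
      have := mem_UU.1 hw.2
      rw [mem_UU]
      rwa [show g⁻¹ * (m⁻¹ * w * m) * g = (m * g)⁻¹ * w * (m * g) by group]
    have hp' : ((1, η⁻¹ * p.2 * η) : GS) ∈ EE π Q z g := by
      refine (h.mem_EE P hu).2 ⟨_, hconjA, ?_⟩
      rw [h.map_mul _ _ (hm.inv_left.mul_left hwz) hm, h.map_mul _ _ hm.inv_left hwz, h.pi_inv hm,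
        em, ew]
      exact Prod.ext (show i⁻¹ * p.1 * i = 1 by rw [q0, mul_one, inv_mul_cancel]) rfl
    have hr1 := hF _ (by
      have := hJE hp.1
      rwa [show p = (1, p.2) from Prod.ext q0 rfl] at this) hq0.2.2
    have hr2 := hF _ hp' (by rw [_root_.map_mul, _root_.map_mul, _root_.map_inv, hη, hq0.2.2]; simp)
    have hback : p.2 = η * (η⁻¹ * p.2 * η) * η⁻¹ := by group
    rcases hr2 with r | r | r | r
    · exact hq0.2.1 (by rw [hback, r]; group)
    all_goals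
      rw [r] at hback
      rcases hr1 with t | t | t | t
      · exact hq0.2.1 t
      all_goals rw [t] at hback
    · exact n1.1 hback.symm
    · exact n1.2.1 hback.symm
    · exact n1.2.2 hback.symm
    · exact n2.1 hback.symm
    · exact n2.2.1 hback.symm
    · exact n2.2.2 hback.symm
    · exact n3.1 hback.symm
    · exact n3.2.1 hback.symm
    · exact n3.2.2 hback.symm
  have hsJ := sgn_split (img π 1 W)
  rw [hker, Subgroup.card_bot, mul_one] at hsJ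
  have hmapJ := card_le_of_le (Subgroup.map_mono hJE (f := sgn))
  have hsE := sgn_split (EE π Q z g)
  rw [h.T_EE_card P hu T] at hsE
  have hF4 : 4 ≤ Nat.card ↥(EE π Q z g ⊓ sgn.ker) := by
    classical
    let S4 : Finset GS := {1, (1, f), (1, f'), (1, f * f')}
    have hcard : S4.card = 4 := by
      have r1 : f ≠ f * f' := fun r => hf'.2.1 (mul_left_cancel (a := f) (by rw [mul_one]; exact r.symm))
      have r2 : f' ≠ f * f' := fun r => hf.2.1 (mul_right_cancel (b := f') (by rw [one_mul]; exact r.symm))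
      simp [S4, Prod.ext_iff, hf.2.1.symm, hf'.2.1.symm, hdt3.2.1.symm, hne, r1, r2]
    have hS4 : ∀ t ∈ S4, t ∈ EE π Q z g ⊓ sgn.ker := by
      intro t ht
      simp only [S4, Finset.mem_insert, Finset.mem_singleton] at ht
      rcases ht with rfl | rfl | rfl | rfl
      · exact one_mem _
      · exact mem_inf.2 ⟨hmem, Prod.ext (show Equiv.Perm.sign (1 : Equiv.Perm (Fin 3)) = 1 from _root_.map_one _) hf.2.2⟩
      · exact mem_inf.2 ⟨hmem', Prod.ext (show Equiv.Perm.sign (1 : Equiv.Perm (Fin 3)) = 1 from _root_.map_one _) hf'.2.2⟩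
      · refine mem_inf.2 ⟨?_, Prod.ext (show Equiv.Perm.sign (1 : Equiv.Perm (Fin 3)) = 1 from _root_.map_one _) hdt3.2.2⟩
        have := mul_mem hmem hmem'
        rwa [Prod.mk_mul_mk, one_mul] at this
    have := Nat.card_le_card_of_injective (fun t : S4 => (⟨t, hS4 t t.2⟩ : ↥(EE π Q z g ⊓ sgn.ker)))
      (fun a b e => Subtype.ext (congrArg Subtype.val e :))
    rwa [Nat.card_eq_fintype_card, Fintype.card_coe, hcard] at this
  have hmap2 : Nat.card ((EE π Q z g).map sgn) ≤ 2 := by nlinarith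
  have hJ2 : Nat.card (img π 1 W) ≤ 2 := hsJ ▸ hmapJ.trans hmap2
  have := Nat.mul_le_mul hJ2 hWQ
  rw [← hWcard] at this
  omega

end Nine

end CfsgLib.ExtraNine
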