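import Cfsg.Agent.Lib.ExtraNine.InQFour

/-!
# No conjugate of `z` other than `z` lies in `Q`; conclusion
-/

set_option autoImplicit false
set_option linter.unusedSectionVars false
set_option linter.style.haveILetI false

namespace CfsgLib.ExtraNine

open Subgroup
open scoped commutatorElement

variable {G : Type*} [Group G]

namespace Nine

variable [Finite G] {z : G} {Q : Subgroup G} {π : G → GS} (h : Nine z Q π)
include h

theorem T_two {u g : G} (P : Pair z u g) (hu : u ∈ Q) (T : ShapeT z Q π) : False := by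
  classical
  have hsq := h.EE_sq P hu
  have hE8 := h.T_EE_card P hu T
  obtain ⟨f, hf, hmem⟩ := exists_dt hsq hE8.ge
  have hker : ∀ p ∈ EE π Q z g, sgn p = 1 → p = 1 ∨ p = (1, f) := by
    intro p hp hs
    by_cases hp1 : p = 1
    · exact Or.inl hp1
    obtain ⟨e1, e2⟩ := even_even (hsq p hp) hp1 hs
    by_cases e : p.2 = f
    · exact Or.inr (Prod.ext e1 e)
    · exfalso
      exact h.T_four P hu T hf e2 (Ne.symm e) hmem
        (by rwa [show p = (1, p.2) from Prod.ext e1 rfl] at hp)
  have hmap : (EE π Q z g).map sgn = ⊤ := by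
    refine Subgroup.eq_top_of_card_eq _ (le_antisymm ((sgn_le_four _).trans ?_) ?_)
    · rw [Nat.card_prod, Nat.card_eq_fintype_card, Fintype.card_units_int]
    · have h1 := sgn_split (EE π Q z g)
      have h2 : Nat.card ↥(EE π Q z g ⊓ sgn.ker) ≤ 2 := by
        refine le_trans (Nat.card_le_card_of_injective
          (fun p : ↥(EE π Q z g ⊓ sgn.ker) => decide ((p : GS) = 1)) ?_) (by simp)
        intro p q r
        simp only [decide_eq_decide] at r
        by_cases hp : (p : GS) = 1
        · exact Subtype.ext (hp.trans (r.1 hp).symm)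
        · exact Subtype.ext (((hker p p.2.1 p.2.2).resolve_left hp).trans
            ((hker q q.2.1 q.2.2).resolve_left fun w => hp (r.2 w)).symm)
      have h3 := Nat.mul_le_mul_left (Nat.card ((EE π Q z g).map sgn)) h2
      rw [← h1, hE8] at h3
      rw [Nat.card_prod, Nat.card_eq_fintype_card, Fintype.card_units_int]
      omega
  obtain ⟨e, he, esgn⟩ : ((-1, 1) : ℤˣ × ℤˣ) ∈ (EE π Q z g).map sgn := hmap ▸ mem_top _
  have hodd : Equiv.Perm.sign e.1 = -1 := congrArg Prod.fst esgn
  have hev : Equiv.Perm.sign e.2 = 1 := congrArg Prod.snd esgn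
  have hcomm : f * e.2 = e.2 * f := congrArg Prod.snd (exp_two_comm hsq _ hmem _ he)
  have he2 : e.2 * e.2 = 1 := congrArg Prod.snd (hsq e he)
  -- the stabilizer of `uZ`
  have stab : ∀ (m : G) (p : GS), Commute m z → π m = p → sgn p = 1 →
      bar Q (m * u * m⁻¹) = bar Q u → p.1 = 1 ∧ f * p.2 = p.2 * f := by
    intro m p hm em hp ebar
    obtain ⟨m', hm', hm'u, em'⟩ := h.adjust P hu hm ebar
    rw [em] at em'
    have h1 := h.EE_stab P hu hm' hm'u hmem
    have h2 := h.EE_stab P hu hm' hm'u he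
    rw [em'] at h1 h2
    have hf1 : sgn ((1, f) : GS) = 1 :=
      Prod.ext (show Equiv.Perm.sign (1 : Equiv.Perm (Fin 3)) = 1 from _root_.map_one _) hf.2.2
    have h3 := hker _ h1 (by
      rw [_root_.map_mul, _root_.map_mul, _root_.map_inv, hp, hf1, inv_one, mul_one, mul_one])
    have h4 : p * (1, f) * p⁻¹ = (1, f) := by
      refine h3.resolve_left fun r => hf.2.1 ?_
      have r' : ((1, f) : GS) = 1 := by
        calc ((1, f) : GS) = p⁻¹ * (p * (1, f) * p⁻¹) * p := by group
          _ = 1 := by rw [r]; group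
      exact congrArg Prod.snd r'
    refine ⟨?_, (mul_inv_eq_iff_eq_mul.1 (congrArg Prod.snd h4)).symm⟩
    have h5 := mul_mem h2 he
    have hee : sgn e * sgn e = 1 := by rw [← _root_.map_mul, hsq e he, _root_.map_one]
    have h6 := hker _ h5 (by
      rw [_root_.map_mul, _root_.map_mul, _root_.map_mul, _root_.map_inv, hp, inv_one, one_mul,
        mul_one, hee])
    refine p3_even_odd_comm p.1 e.1 (congrArg Prod.fst hp) hodd ?_
    rcases h6 with r | r <;> exact congrArg Prod.fst r
  have hlift : ∀ p : GS, ∃ x, Commute x z ∧ (sgn p = 1 → π x = p) := by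
    intro p
    by_cases hp : sgn p = 1
    · obtain ⟨x, hx, ex⟩ := h.range p (congrArg Prod.fst hp) (congrArg Prod.snd hp)
      exact ⟨x, hx, fun _ => ex⟩
    · exact ⟨1, Commute.one_left z, fun e => absurd e hp⟩
  choose lift hliftz hliftπ using hlift
  -- equal images give a stabilizing quotient
  have hfib : ∀ p q : GS, sgn p = 1 → sgn q = 1 →
      bar Q (lift p * u * (lift p)⁻¹) = bar Q (lift q * u * (lift q)⁻¹) →
      bar Q ((lift q)⁻¹ * lift p * u * ((lift q)⁻¹ * lift p)⁻¹) = bar Q u ∧
        π ((lift q)⁻¹ * lift p) = q⁻¹ * p := by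
    intro p q hp hq e
    refine ⟨?_, by rw [h.map_mul _ _ (hliftz q).inv_left (hliftz p), h.pi_inv (hliftz q),
      hliftπ q hq, hliftπ p hp]⟩
    have := h.bar_conj_congr (hliftz q).inv_left (h.conjQ (hliftz p) hu) (h.conjQ (hliftz q) hu) e
    rwa [show (lift q)⁻¹ * (lift q * u * (lift q)⁻¹) * (lift q)⁻¹⁻¹ = u by group,
      show (lift q)⁻¹ * (lift p * u * (lift p)⁻¹) * (lift q)⁻¹⁻¹ =
        (lift q)⁻¹ * lift p * u * ((lift q)⁻¹ * lift p)⁻¹ by group] at this
  obtain ⟨x, hx, ex⟩ := (h.mem_EE P hu).1 he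
  obtain ⟨hxz, hxu⟩ := h.A_comm P hu hx
  have hsgna : sgn ((1, e.2) : GS) = 1 :=
    Prod.ext (show Equiv.Perm.sign (1 : Equiv.Perm (Fin 3)) = 1 from _root_.map_one _) hev
  set a := lift (1, e.2) with ha
  set y := x * a with hy
  have hyz : Commute y z := hxz.mul_left (hliftz _)
  have ey : π y = (e.1, 1) := by
    rw [hy, h.map_mul _ _ hxz (hliftz _), ex, hliftπ _ hsgna]
    exact Prod.ext (mul_one e.1) he2
  have huz := h.u_notin_Z P
  have conj_notin : ∀ p : GS, bar Q (lift p * u * (lift p)⁻¹) ≠ 1 := fun p r => huz (by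
    rcases h.mem_Z.1 ((h.bar_eq_one (h.conjQ (hliftz p) hu)).1 r) with r | r
    · rw [show u = 1 by simpa using r]; exact one_mem _
    · rw [show u = z by
        calc u = (lift p)⁻¹ * (lift p * u * (lift p)⁻¹) * lift p := by group
          _ = z := by rw [r, mul_assoc, ← (hliftz p).eq, inv_mul_cancel_left]]
      exact mem_zpowers z)
  set C8 := Finset.univ.filter fun r : P6 => Equiv.Perm.sign r = 1 ∧ f * r = r * f with hC8
  have hC8card : C8.card = 8 := dt_centralizer_count f hf
  have hsgn1 : ∀ r : P6, Equiv.Perm.sign r = 1 → sgn ((1, r) : GS) = 1 := fun r hr =>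
    Prod.ext (show Equiv.Perm.sign (1 : Equiv.Perm (Fin 3)) = 1 from _root_.map_one _) hr
  by_cases hyu : bar Q (y * u * y⁻¹) = bar Q u
  · -- the orbit of `uZ` under `A₆` lies in `[y, Q]Z`
    obtain ⟨-, h32, hKR⟩ := T.tau y e.1 hyz ey hodd
    have huR : u ∈ RR Q y := hKR.le ((h.mem_K hyz).2 ⟨hu, hyu⟩)
    set D6 := Finset.univ.filter fun r : P6 => Equiv.Perm.sign r = 1 with hD6
    let Φ : P6 → Abelianization Q := fun r => bar Q (lift (1, r) * u * (lift (1, r))⁻¹)
    have hfin : (bar Q '' (RR Q y : Set G)).Finite := Set.toFinite _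
    have himg : D6.image Φ ⊆ hfin.toFinset.erase 1 := by
      intro t ht
      obtain ⟨r, hr, rfl⟩ := Finset.mem_image.1 ht
      have hr' := (Finset.mem_filter.1 hr).2
      refine Finset.mem_erase.2 ⟨conj_notin _, hfin.mem_toFinset.2 ⟨_, ?_, rfl⟩⟩
      exact h.R_stab (hliftz _) hyz
        (by rw [hliftπ _ (hsgn1 r hr'), ey]; exact Prod.ext (by simp) (by simp)) huR
    have hcard : (hfin.toFinset.erase 1).card ≤ 15 := by
      rw [Finset.card_erase_of_mem (hfin.mem_toFinset.2 ⟨1, one_mem _, bar_one⟩),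
        ← Set.ncard_eq_toFinset_card _ hfin]
      have := h.bar_count (h.R_le y) (h.z_mem_R hyz)
      omega
    have hbound : D6.card ≤ 8 * (D6.image Φ).card := by
      refine Finset.card_le_mul_card_image _ 8 fun t ht => ?_
      obtain ⟨r0, hr0, rfl⟩ := Finset.mem_image.1 ht
      rw [← hC8card]
      refine Finset.card_le_card_of_injOn (fun r => r0⁻¹ * r) (fun r hr => ?_)
        (fun a _ b _ e => mul_left_cancel e)
      obtain ⟨hr1, hr2⟩ := Finset.mem_filter.1 hr
      have hs := (Finset.mem_filter.1 hr1).2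
      have hs0 := (Finset.mem_filter.1 hr0).2
      obtain ⟨e1, e2⟩ := hfib (1, r) (1, r0) (hsgn1 r hs) (hsgn1 r0 hs0) hr2
      have hs' : Equiv.Perm.sign (r0⁻¹ * r) = 1 := by
        rw [_root_.map_mul, _root_.map_inv, hs, hs0, inv_one, one_mul]
      have := stab _ _ ((hliftz _).inv_left.mul_left (hliftz _)) e2
        (by rw [_root_.map_mul, _root_.map_inv, hsgn1 r hs, hsgn1 r0 hs0, inv_one, one_mul]) e1
      exact Finset.mem_coe.2 (Finset.mem_filter.2 ⟨Finset.mem_univ _, hs', this.2⟩)
    have := Finset.card_le_card himg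
    rw [p6_even_count] at hbound
    omega
  · set S0 := C8.filter fun r => bar Q (lift (1, r) * u * (lift (1, r))⁻¹) = bar Q u with hS0
    have hS04 : S0.card ≤ 4 := by
      have hdisj : Disjoint S0 (S0.image (· * e.2)) := by
        rw [Finset.disjoint_left]
        intro r hr hr'
        obtain ⟨r', hr'', rfl⟩ := Finset.mem_image.1 hr'
        obtain ⟨h1, h2⟩ := Finset.mem_filter.1 hr
        obtain ⟨h1', h2'⟩ := Finset.mem_filter.1 hr''
        have hs1 := (Finset.mem_filter.1 h1).2.1
        have hs1' := (Finset.mem_filter.1 h1').2.1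
        obtain ⟨e1, e2⟩ := hfib (1, r' * e.2) (1, r') (hsgn1 _ hs1) (hsgn1 _ hs1') (h2.trans h2'.symm)
        rw [Prod.inv_mk, Prod.mk_mul_mk, inv_one, one_mul, inv_mul_cancel_left] at e2
        set m := (lift (1, r'))⁻¹ * lift (1, r' * e.2)
        have hmz : Commute m z := (hliftz _).inv_left.mul_left (hliftz _)
        apply hyu
        rw [h.bar_conj_pi hyz (hxz.mul_left hmz)
          (by rw [ey, h.map_mul _ _ hxz hmz, ex, e2]; exact Prod.ext (mul_one e.1).symm he2.symm) hu,
          show x * m * u * (x * m)⁻¹ = x * (m * u * m⁻¹) * x⁻¹ by group,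
          h.bar_conj_congr hxz (h.conjQ hmz hu) hu e1, hxu.eq, mul_inv_cancel_right]
      have hsub : S0 ∪ S0.image (· * e.2) ⊆ C8 := by
        refine Finset.union_subset (Finset.filter_subset _ _) fun r hr => ?_
        obtain ⟨r', hr', rfl⟩ := Finset.mem_image.1 hr
        obtain ⟨-, hs, hc⟩ := Finset.mem_filter.1 (Finset.mem_filter.1 hr').1
        refine Finset.mem_filter.2 ⟨Finset.mem_univ _, by rw [_root_.map_mul, hs, hev, one_mul], ?_⟩
        rw [← mul_assoc, hc, mul_assoc, hcomm, ← mul_assoc]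
      have := Finset.card_le_card hsub
      rw [Finset.card_union_of_disjoint hdisj,
        Finset.card_image_of_injective _ (mul_left_injective e.2), hC8card] at this
      omega
    set D18 := (Finset.univ.filter fun i : Equiv.Perm (Fin 3) => Equiv.Perm.sign i = 1) ×ˢ
      (Finset.univ.filter fun r : P6 => Equiv.Perm.sign r = 1) with hD18
    have hD : ∀ p : GS, p ∈ D18 → sgn p = 1 := fun p hp =>
      Prod.ext (Finset.mem_filter.1 (Finset.mem_product.1 hp).1).2
        (Finset.mem_filter.1 (Finset.mem_product.1 hp).2).2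
    have hDcard : D18.card = 1080 := by
      rw [hD18, Finset.card_product, p3_even_count, p6_even_count]
    let Φ : GS → Abelianization Q := fun p => bar Q (lift p * u * (lift p)⁻¹)
    have hfin : (bar Q '' (Q : Set G)).Finite := Set.toFinite _
    have himg : D18.image Φ ⊆ hfin.toFinset.erase 1 := by
      intro t ht
      obtain ⟨r, hr, rfl⟩ := Finset.mem_image.1 ht
      exact Finset.mem_erase.2
        ⟨conj_notin _, hfin.mem_toFinset.2 ⟨_, h.conjQ (hliftz _) hu, rfl⟩⟩
    have hcard : (hfin.toFinset.erase 1).card ≤ 255 := by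
      rw [Finset.card_erase_of_mem (hfin.mem_toFinset.2 ⟨1, one_mem _, bar_one⟩),
        ← Set.ncard_eq_toFinset_card _ hfin]
      have := h.bar_count (H := Q) le_rfl h.memZ
      rw [h.card] at this
      omega
    have hbound : D18.card ≤ 4 * (D18.image Φ).card := by
      refine Finset.card_le_mul_card_image _ 4 fun t ht => ?_
      obtain ⟨q, hq, rfl⟩ := Finset.mem_image.1 ht
      have hfst : ∀ p ∈ D18, Φ p = Φ q →
          (q⁻¹ * p).1 = 1 ∧ (q⁻¹ * p).2 ∈ S0 := by
        intro p hp hpq
        obtain ⟨e1, e2⟩ := hfib p q (hD p hp) (hD q hq) hpq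
        have hs : sgn (q⁻¹ * p) = 1 := by
          rw [_root_.map_mul, _root_.map_inv, hD p hp, hD q hq, inv_one, one_mul]
        have hmz := (hliftz q).inv_left.mul_left (hliftz p)
        obtain ⟨s1, s2⟩ := stab _ _ hmz e2 hs e1
        refine ⟨s1, Finset.mem_filter.2 ⟨Finset.mem_filter.2 ⟨Finset.mem_univ _,
          congrArg Prod.snd hs, s2⟩, ?_⟩⟩
        have hp' : ((1, (q⁻¹ * p).2) : GS) = q⁻¹ * p := Prod.ext s1.symm rfl
        rw [hp', h.bar_conj_pi (hliftz _) hmz (by rw [hliftπ _ hs, e2]) hu]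
        exact e1
      refine le_trans ?_ hS04
      refine Finset.card_le_card_of_injOn (fun p => (q⁻¹ * p).2) (fun p hp => ?_) ?_
      · obtain ⟨hp1, hp2⟩ := Finset.mem_filter.1 hp
        exact (hfst p hp1 hp2).2
      · intro p hp p' hp' r
        obtain ⟨hp1, hp2⟩ := Finset.mem_filter.1 (Finset.mem_coe.1 hp)
        obtain ⟨hp1', hp2'⟩ := Finset.mem_filter.1 (Finset.mem_coe.1 hp')
        exact mul_left_cancel (a := q⁻¹)
          (Prod.ext ((hfst p hp1 hp2).1.trans (hfst p' hp1' hp2').1.symm) r)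
    have := Finset.card_le_card himg
    omega

/-- There is no conjugate of `z` in `C(z)` other than `z`. -/
theorem no_pair {u g : G} (P : Pair z u g) : False := by
  by_cases ho : Outside z Q
  · exact h.outside_false ho h.shape P
  · simp only [Outside, not_forall, not_not] at ho
    obtain ⟨u', g', P', hu'⟩ := ho
    rcases h.shape with T | S
    · exact h.T_two P' hu' T
    · exact h.inside_S P' hu' S

end Nine

end CfsgLib.ExtraNine
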