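import Cfsg.Agent.Lib.ExtraNine.InQTwo
import Cfsg.Agent.Lib.Invol.ZStar
import Cfsg.Agent.Lib.Spor.AffineExtraspecial
import Cfsg.Agent.Lib.Coprime.Fitting

/-!
# `2^(1+8).(S₃ × S₆)`-like centralizers do not occur in simple groups
-/

set_option autoImplicit false
set_option linter.unusedSectionVars false
set_option linter.style.haveILetI false

namespace CfsgLib.ExtraNine

open Subgroup
open scoped commutatorElement

variable {G : Type*} [Group G] [Finite G]

theorem pi_nine {z : G} (hz : orderOf z = 2)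
    (hQ : Cfsg.IsExtraspecial 2 ↥(Cfsg.pCore 2 ↥(centralizer ({z} : Set G))))
    (hQ9 : Nat.card ↥(Cfsg.pCore 2 ↥(centralizer ({z} : Set G))) = 2 ^ 9)
    (hCQ : centralizer ((Cfsg.pCore 2 ↥(centralizer ({z} : Set G))) :
      Set ↥(centralizer ({z} : Set G))) ≤ Cfsg.pCore 2 ↥(centralizer ({z} : Set G)))
    (ψ : ↥(centralizer ({z} : Set G)) →* GS)
    (hker : ∀ x, ψ x = 1 ↔ x ∈ Cfsg.pCore 2 ↥(centralizer ({z} : Set G)))
    (hrange : ∀ p : GS, Equiv.Perm.sign p.1 = 1 → Equiv.Perm.sign p.2 = 1 → ∃ x, ψ x = p) :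
    ∃ (Q : Subgroup G) (π : G → GS), Nine z Q π := by
  classical
  set Q := (Cfsg.pCore 2 ↥(centralizer ({z} : Set G))).map (centralizer ({z} : Set G)).subtype with hQdef
  have hCmem : ∀ {x : G}, Commute x z → x ∈ (centralizer ({z} : Set G)) := fun hx => mem_centralizer_singleton_iff.2 hx.eq
  have hzQ : z ∈ Q := by
    have hzC : z ∈ (centralizer ({z} : Set G)) := hCmem (Commute.refl z)
    haveI : (zpowers (⟨z, hzC⟩ : (centralizer ({z} : Set G)))).Normal := ⟨fun v hv x => by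
      obtain ⟨k, rfl⟩ := hv
      refine ⟨k, ?_⟩
      have hc : Commute x ⟨z, hzC⟩ := Subtype.ext (mem_centralizer_singleton_iff.1 x.2)
      show (⟨z, hzC⟩ : (centralizer ({z} : Set G))) ^ k = x * (⟨z, hzC⟩ : (centralizer ({z} : Set G))) ^ k * x⁻¹
      rw [(hc.zpow_right k).eq, mul_inv_cancel_right]⟩
    haveI : Fact (Nat.Prime 2) := ⟨Nat.prime_two⟩
    exact ⟨⟨z, hzC⟩, CfsgLib.Coprime.le_pCore (p := 2) (IsPGroup.of_card (n := 1) (by
      rw [Nat.card_zpowers, Subgroup.orderOf_mk, hz, pow_one])) (mem_zpowers _), rfl⟩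
  have hlarge : centralizer (Q : Set G) ≤ Q := by
    intro x hx
    have hxz : Commute x z := (mem_centralizer_iff.1 hx z hzQ).symm
    exact ⟨⟨x, hCmem hxz⟩, hCQ (mem_centralizer_iff.2 fun q hq =>
      Subtype.ext (mem_centralizer_iff.1 hx q ⟨q, hq, rfl⟩)), rfl⟩
  have hd := CfsgLib.Invol.ExtraTransfer.Data.of hz hQdef
    (CfsgLib.Spor.Affine.isExtraspecial_congr ((Cfsg.pCore 2 ↥(centralizer ({z} : Set G))).equivMapOfInjective (centralizer ({z} : Set G)).subtype (centralizer ({z} : Set G)).subtype_injective) hQ)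
    hlarge
  let π : G → GS := fun x => if hx : x ∈ (centralizer ({z} : Set G)) then ψ ⟨x, hx⟩ else 1
  have eπ : ∀ {x : G} (hx : x ∈ (centralizer ({z} : Set G))), π x = ψ ⟨x, hx⟩ := fun hx => dif_pos hx
  refine ⟨Q, π, { toData := hd, card := ?_, map_mul := ?_, ker := ?_, range := ?_ }⟩
  · rw [hQdef, Subgroup.card_map_of_injective (centralizer ({z} : Set G)).subtype_injective, hQ9]
    norm_num
  · intro x y hx hy
    rw [eπ (hCmem hx), eπ (hCmem hy), eπ (hCmem (hx.mul_left hy)), ← _root_.map_mul]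
    rfl
  · intro x hx
    rw [eπ (hCmem hx), hker]
    refine ⟨fun h => ⟨_, h, rfl⟩, ?_⟩
    rintro ⟨⟨y, hy⟩, hmem, rfl⟩
    exact hmem
  · intro p h1 h2
    obtain ⟨⟨x, hx⟩, e⟩ := hrange p h1 h2
    exact ⟨x, mem_centralizer_singleton_iff.1 hx, (eπ hx).trans e⟩

theorem simple_false [IsSimpleGroup G] (hG : ¬ IsMulCommutative G) {z : G} {Q : Subgroup G}
    {π : G → GS} (h : Nine z Q π) : False := by
  have hiso : Cfsg.IsIsolatedInvolution z := by
    refine ⟨h.ord, fun g hg => ?_⟩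
    by_contra hne
    exact h.no_pair (u := g * z * g⁻¹) ⟨rfl, hg.symm, hne⟩
  have hz := CfsgLib.Invol.zstar hiso
  have hn : (Cfsg.pPrimeCore 2 G).Normal := by
    rw [Coprime.pPrimeCore_eq_piCore Nat.prime_two]; infer_instance
  have hO : Cfsg.pPrimeCore 2 G = ⊥ := by
    rcases hn.eq_bot_or_eq_top with e | e
    · exact e
    · exfalso
      have h1 := Coprime.pPrimeCore_coprime (G := G) Nat.prime_two
      rw [e, card_top] at h1
      have h2 : 2 ∣ Nat.card G := h.ord ▸ orderOf_dvd_natCard z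
      exact absurd (Nat.eq_one_of_dvd_coprimes h1 h2 dvd_rfl) (by norm_num)
  have hc : z ∈ center G := mem_center_iff.2 fun g => by
    have := hz g
    rw [hO, mem_bot, mul_inv_eq_one, mul_inv_eq_iff_eq_mul] at this
    exact this.symm
  rcases (inferInstance : (center G).Normal).eq_bot_or_eq_top with e | e
  · rw [e, mem_bot] at hc
    exact h.z_ne hc
  · exact hG ⟨⟨fun a b => mem_center_iff.1 (e ▸ mem_top b) a⟩⟩

end CfsgLib.ExtraNine
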