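import Cfsg.Agent.Lib.ExtraNine.Perms

/-!
# Facts on permutations of three letters and a few more on six letters
-/

set_option autoImplicit false

open Equiv

namespace CfsgLib.ExtraNine

/-- the three-cycle (0 1 2) -/
def c3 : Equiv.Perm (Fin 3) := swap 0 1 * swap 1 2

theorem c3_three : c3 * c3 * c3 = 1 ∧ c3 ≠ 1 ∧ Perm.sign c3 = 1 := by decide +kernel

theorem p3_even_inv : ∀ e : Equiv.Perm (Fin 3), Perm.sign e = 1 → e * e = 1 → e = 1 := by
  decide +kernel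

theorem p3_even_comm : ∀ e : Equiv.Perm (Fin 3), Perm.sign e = 1 → e * c3 = c3 * e := by
  decide +kernel

theorem p3_comm_inv : ∀ e : Equiv.Perm (Fin 3), e * c3 = c3 * e → e * e = 1 → e = 1 := by
  decide +kernel

theorem p3_odd : ∀ t : Equiv.Perm (Fin 3), Perm.sign t = -1 →
    t * t = 1 ∧ t * c3 * t⁻¹ = c3⁻¹ := by
  decide +kernel

theorem p3_even_pow : ∀ e : Equiv.Perm (Fin 3), Perm.sign e = 1 →
    e = 1 ∨ e = c3 ∨ e = c3 * c3 := by
  decide +kernel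

theorem p3_cube : ∀ e : Equiv.Perm (Fin 3), e * e * e = 1 → Perm.sign e = 1 := by
  decide +kernel

theorem p3_even_count :
    (Finset.univ.filter fun e : Equiv.Perm (Fin 3) => Perm.sign e = 1).card = 3 := by
  decide +kernel

theorem p3_inv_or : ∀ e : Equiv.Perm (Fin 3), e * e = 1 → e = 1 ∨ Perm.sign e = -1 := by
  decide +kernel

theorem pY_facts : pY * pY * pA * (pY * pY)⁻¹ = pA⁻¹ ∧ pY * pY * pB * (pY * pY)⁻¹ = pB⁻¹ ∧
    pY * (pY * pY) = pY * pY * pY := by decide +kernel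

theorem pAB_sq : pA * pA * pB * (pA * pB) = pB * pB ∧ pA * pA = pA⁻¹ ∧ pB * pB = pB⁻¹ := by
  decide +kernel

theorem pAB_two_dts : ∃ f g : P6, IsDt f ∧ IsDt g ∧ pA * pB = f * g :=
  ⟨swap 1 2 * swap 4 5, (swap 1 2 * swap 4 5) * (pA * pB), by decide +kernel⟩

theorem pX_gen : ∃ h k : P6, Perm.sign h = 1 ∧ Perm.sign k = 1 ∧
    pX = h * pA * h⁻¹ * (k * pA * k⁻¹) :=
  ⟨1, swap 0 2 * (swap 1 3 * (swap 2 4 * swap 3 4)), by decide +kernel⟩

/-- What is used of the auxiliary permutation. -/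
structure KPerm (p : P6) : Prop where
  cA : p * pA = pA * p
  cB : p * pB = pB * p
  flip : pY * pY * p * (pY * pY)⁻¹ = p⁻¹
  cA' : pY * p * pY⁻¹ * pA = pA * (pY * p * pY⁻¹)
  cB' : pY * p * pY⁻¹ * pB = pB * (pY * p * pY⁻¹)
  cK : pY * p * pY⁻¹ * p = p * (pY * p * pY⁻¹)

theorem kPerm_b : KPerm pB := by constructor <;> decide +kernel
theorem kPerm_ab : KPerm (pA * pB) := by constructor <;> decide +kernel
theorem kPerm_aab : KPerm (pA⁻¹ * pB) := by constructor <;> decide +kernel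

theorem pAB_conj : pA * pB * (pY * (pA * pB) * pY⁻¹) = pB⁻¹ := by decide +kernel
theorem pAB_conj' : pA⁻¹ * pB * (pY * (pA⁻¹ * pB) * pY⁻¹)⁻¹ = pB⁻¹ := by decide +kernel
theorem pAB_kill : pY * (pA * pB) * pY⁻¹ * pA = pB ∧
    (pY * (pA⁻¹ * pB) * pY⁻¹)⁻¹ * pA⁻¹ = pB := by decide +kernel

end CfsgLib.ExtraNine
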