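import Cfsg.Agent.Lib.ExtraNine.Basic
import Cfsg.Agent.Lib.ExtraNine.Perms3

/-!
# The two possible shapes of `Q/Z` as a module for `A₃ × A₆`

Either `(c3, 1)` is fixed-point-free on `Q/Z` (`ShapeT`), or it fixes a subspace of dimension six
and then every double transposition has `[x, Q]` non-elementary of order eight (`ShapeS`).
-/

set_option autoImplicit false
set_option linter.unusedSectionVars false
set_option linter.style.haveILetI false

namespace CfsgLib.ExtraNine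

open Subgroup
open scoped commutatorElement

variable {G : Type*} [Group G]

/-- Chosen preimages of generators. -/
structure Lifts (z : G) (π : G → GS) (s a b c : G) : Prop where
  cs : Commute s z
  ca : Commute a z
  cb : Commute b z
  cc : Commute c z
  es : π s = (c3, 1)
  ea : π a = (1, pA)
  eb : π b = (1, pB)
  ec : π c = (1, pY)

/-- A pair of orthogonal subgroups exchanged by `c`. -/
structure Split (z : G) (Q : Subgroup G) (π : G → GS) (s a c : G) (Y E E' : Subgroup G) : Prop where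
  le : E ≤ Y
  le' : E' ≤ Y
  zE : z ∈ E
  zE' : z ∈ E'
  mapc : ∀ e ∈ E, c * e * c⁻¹ ∈ E'
  surj : ∀ e' ∈ E', ∃ e ∈ E, c * e * c⁻¹ = e'
  back : ∀ e' ∈ E', c * e' * c⁻¹ ∈ E
  card_eq : Nat.card E' = Nat.card E
  meet : E ⊓ E' ≤ zpowers z
  comm : ∀ e ∈ E, ∀ e' ∈ E', Commute e e'
  stab_s : ∀ e ∈ E, s * e * s⁻¹ ∈ E
  stab_a : ∀ e ∈ E, a * e * a⁻¹ ∈ E
  stab_f : ∀ e ∈ E, (c * c) * e * (c * c)⁻¹ ∈ E
  fpf : KK Q a ⊓ E ≤ zpowers z
  card : Nat.card E = 8 ∨ Nat.card E = 32 ∨ Nat.card E = 128 ∨ Nat.card E = 512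
  gen : ∃ y p, Commute y z ∧ π y = (1, p) ∧ (p = pA ∨ p = pA * pB) ∧ E ⊔ E' ≤ RR Q y

namespace Nine

variable [Finite G] {z : G} {Q : Subgroup G} {π : G → GS} (h : Nine z Q π)
include h

theorem R_stab {m x w : G} (hm : Commute m z) (hx : Commute x z) (e : Commute (π m) (π x))
    (hw : w ∈ RR Q x) : m * w * m⁻¹ ∈ RR Q x :=
  h.R_move hm hx hx (by rw [e.eq, mul_inv_cancel_right]) hw

theorem K_stab {m x w : G} (hm : Commute m z) (hx : Commute x z) (e : Commute (π m) (π x))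
    (hw : w ∈ KK Q x) : m * w * m⁻¹ ∈ KK Q x :=
  h.K_move hm hx hx (by rw [e.eq, mul_inv_cancel_right]) hw

theorem R_flip {m x w : G} (hm : Commute m z) (hx : Commute x z)
    (e : π m * π x * (π m)⁻¹ = (π x)⁻¹) (hw : w ∈ RR Q x) : m * w * m⁻¹ ∈ RR Q x := by
  have := h.R_move hm hx hx.inv_left (by rw [h.pi_inv hx, e]) hw
  rwa [h.R_inv hx] at this

theorem K_flip {m x w : G} (hm : Commute m z) (hx : Commute x z)
    (e : π m * π x * (π m)⁻¹ = (π x)⁻¹) (hw : w ∈ KK Q x) : m * w * m⁻¹ ∈ KK Q x := by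
  have := h.K_move hm hx hx.inv_left (by rw [h.pi_inv hx, e]) hw
  rwa [h.K_inv hx] at this

theorem sq_congr {u v : G} (hu : u ∈ Q) (hv : v ∈ Q) (e : bar Q u = bar Q v) : u * u = v * v := by
  rcases h.bar_eq' hu hv e with r | r <;> rw [r]
  rw [Commute.mul_mul_mul_comm (h.cz hu).symm, h.zz, mul_one]

theorem sq_conj {x u : G} (hx : Commute x z) (hu : u ∈ Q) :
    x * u * x⁻¹ * (x * u * x⁻¹) = u * u := by
  rw [show x * u * x⁻¹ * (x * u * x⁻¹) = x * (u * u) * x⁻¹ by group]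
  rcases h.sq u hu with e | e <;> rw [e]
  · group
  · rw [hx.eq, mul_inv_cancel_right]

theorem mem_sup_prod {A B : Subgroup G} (hA : A ≤ Q) (hB : B ≤ Q) (hz : z ∈ B) {w : G}
    (hw : w ∈ A ⊔ B) : ∃ u ∈ A, ∃ v ∈ B, w = u * v := by
  rw [sup_eq_closure] at hw
  induction hw using closure_induction with
  | mem y hy =>
    rcases hy with hy | hy
    · exact ⟨y, hy, 1, one_mem B, (mul_one y).symm⟩
    · exact ⟨1, one_mem A, y, hy, (one_mul y).symm⟩
  | one => exact ⟨1, one_mem A, 1, one_mem B, (one_mul 1).symm⟩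
  | mul y y' _ _ hy hy' =>
    obtain ⟨u, hu, v, hv, rfl⟩ := hy
    obtain ⟨u', hu', v', hv', rfl⟩ := hy'
    refine ⟨u * u', mul_mem hu hu', u'⁻¹ * v * u'⁻¹⁻¹ * v', mul_mem ?_ hv', by group⟩
    exact h.conj_mem hB hz (inv_mem (hA hu')) hv
  | inv y _ hy =>
    obtain ⟨u, hu, v, hv, rfl⟩ := hy
    exact ⟨u⁻¹, inv_mem hu, u * v⁻¹ * u⁻¹, h.conj_mem hB hz (hA hu) (inv_mem hv), by group⟩

theorem bar_count {H : Subgroup G} (hH : H ≤ Q) (hz : z ∈ H) :
    Nat.card H = 2 * (bar Q '' (H : Set G)).ncard := by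
  rw [← h.ncard_two hH fun w hw => mul_mem hw hz, ← Nat.card_coe_set_eq]
  rfl

theorem not_bar_one {v : G} (hv : v ∈ Q) (hvz : v ∉ zpowers z) : bar Q v ≠ 1 :=
  fun e => hvz ((h.bar_eq_one hv).1 e)

/-- The cosets in a four-group. -/
theorem four {H : Subgroup G} (hH : H ≤ Q) (hz : z ∈ H) (h8 : Nat.card H = 8) {v w u : G}
    (hv : v ∈ H) (hvz : v ∉ zpowers z) (hw : w ∈ H) (hwz : w ∉ zpowers z)
    (hne : bar Q v ≠ bar Q w) (hu : u ∈ H) :
    bar Q u = 1 ∨ bar Q u = bar Q v ∨ bar Q u = bar Q w ∨ bar Q u = bar Q v * bar Q w := by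
  classical
  have hc := h.bar_count hH hz
  rw [h8] at hc
  set S : Finset (Abelianization Q) := {1, bar Q v, bar Q w, bar Q v * bar Q w} with hS
  have n1 := h.not_bar_one (hH hv) hvz
  have n2 := h.not_bar_one (hH hw) hwz
  have n3 : bar Q v * bar Q w ≠ 1 := fun e => hne (by
    have := congrArg (· * bar Q w) e
    simpa [mul_assoc, h.bar_sq (hH hw)] using this)
  have n4 : bar Q v * bar Q w ≠ bar Q v := fun e => n2 (mul_left_cancel (a := bar Q v)
    (by rw [e, mul_one]))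
  have n5 : bar Q v * bar Q w ≠ bar Q w := fun e => n1 (mul_right_cancel (b := bar Q w)
    (by rw [e, one_mul]))
  have hS4 : S.card = 4 := by
    simp [hS, n1, n2, n1.symm, n2.symm, n3.symm, hne, n4.symm, n5.symm]
  have hsub : (S : Set (Abelianization Q)) ⊆ bar Q '' (H : Set G) := by
    intro t ht
    simp only [hS, Finset.coe_insert, Finset.coe_singleton, Set.mem_insert_iff,
      Set.mem_singleton_iff] at ht
    rcases ht with rfl | rfl | rfl | rfl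
    · exact ⟨1, one_mem H, bar_one⟩
    · exact ⟨v, hv, rfl⟩
    · exact ⟨w, hw, rfl⟩
    · exact ⟨v * w, mul_mem hv hw, bar_mul (hH hv) (hH hw)⟩
  have heq := Set.eq_of_subset_of_ncard_le hsub
    (by rw [Set.ncard_coe_finset, hS4]; omega) (Set.toFinite _)
  have := heq.ge ⟨u, hu, rfl⟩
  simpa [hS] using this

/-- In a four-group moved without fixed points there are only the three translates. -/
theorem eight {H : Subgroup G} (hH : H ≤ Q) (hz : z ∈ H) (h8 : Nat.card H = 8) {x : G}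
    (hx : Commute x z) (h3 : π x * π x * π x = 1) (hHx : ∀ w ∈ H, x * w * x⁻¹ ∈ H)
    (hK : KK Q x ⊓ H ≤ zpowers z) {v : G} (hv : v ∈ H) (hvz : v ∉ zpowers z) {u : G}
    (hu : u ∈ H) :
    bar Q u = 1 ∨ bar Q u = bar Q v ∨ bar Q u = bar Q (x * v * x⁻¹) ∨
      bar Q u = bar Q (x * x * v * (x * x)⁻¹) := by
  have hv1 := hHx v hv
  have hne : bar Q v ≠ bar Q (x * v * x⁻¹) := fun e =>
    hvz (hK (mem_inf.2 ⟨(h.mem_K hx).2 ⟨hH hv, e.symm⟩, hv⟩))
  have hv1z : x * v * x⁻¹ ∉ zpowers z := fun e => by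
    refine hvz ?_
    rcases h.mem_Z.1 e with r | r
    · rw [show v = 1 by simpa using r]; exact one_mem _
    · rw [show v = z by
        calc v = x⁻¹ * (x * v * x⁻¹) * x := by group
          _ = z := by rw [r, mul_assoc, ← hx.eq, inv_mul_cancel_left]]
      exact mem_zpowers z
  have h2 : bar Q (x * x * v * (x * x)⁻¹) = bar Q v * bar Q (x * v * x⁻¹) := by
    have hx2 : x * x * v * (x * x)⁻¹ = x * (x * v * x⁻¹) * x⁻¹ := by group
    rcases h.four hH hz h8 hv hvz hv1 hv1z hne (hHx _ hv1) with e | e | e | e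
    · exfalso
      refine h.not_bar_one (hH hv) hvz ?_
      have hx3 : x * (x * (x * v * x⁻¹) * x⁻¹) * x⁻¹ = (x * x * x) * v * (x * x * x)⁻¹ := by group
      have := h.bar_conj_congr hx (h.conjQ hx (hH hv1)) (one_mem Q) (e.trans bar_one.symm)
      rw [hx3, h.bar_conj_mem ((h.ker _ ((hx.mul_left hx).mul_left hx)).1
        (by rw [h.map_mul _ _ (hx.mul_left hx) hx, h.map_mul _ _ hx hx, h3])) (hH hv), mul_one,
        mul_inv_cancel, bar_one] at this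
      exact this
    · exfalso
      have hx3 : x * (x * (x * v * x⁻¹) * x⁻¹) * x⁻¹ = (x * x * x) * v * (x * x * x)⁻¹ := by group
      have := h.bar_conj_congr hx (h.conjQ hx (hH hv1)) (hH hv) e
      rw [hx3, h.bar_conj_mem ((h.ker _ ((hx.mul_left hx).mul_left hx)).1
        (by rw [h.map_mul _ _ (hx.mul_left hx) hx, h.map_mul _ _ hx hx, h3])) (hH hv)] at this
      exact hne this
    · exfalso
      have hk := hK (mem_inf.2 ⟨(h.mem_K hx).2 ⟨hH hv1, e⟩, hv1⟩)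
      exact hv1z hk
    · rw [hx2]; exact e
  rcases h.four hH hz h8 hv hvz hv1 hv1z hne hu with e | e | e | e
  · exact Or.inl e
  · exact Or.inr (Or.inl e)
  · exact Or.inr (Or.inr (Or.inl e))
  · exact Or.inr (Or.inr (Or.inr (e.trans h2.symm)))

/-- An element inverting `a` cannot commute with a copy of the action of `a`. -/
theorem not_twist {H : Subgroup G} (hH : H ≤ Q) (hz : z ∈ H) (h8 : Nat.card H = 8) {x a f : G}
    (hx : Commute x z) (ha : Commute a z) (hf : Commute f z) (ha3 : π a * π a * π a = 1)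
    (hax : Commute (π x) (π a)) (hfx : Commute (π f) (π x))
    (hfa : π f * π a * (π f)⁻¹ = (π a)⁻¹) (hHa : ∀ w ∈ H, a * w * a⁻¹ ∈ H)
    (hHf : ∀ w ∈ H, f * w * f⁻¹ ∈ H) (hK : KK Q a ⊓ H ≤ zpowers z)
    {v : G} (hv : v ∈ H) (hvz : v ∉ zpowers z)
    (e : bar Q (a * v * a⁻¹) = bar Q (x * v * x⁻¹)) : False := by
  have hvQ := hH hv
  have key : ∀ w ∈ H, bar Q (a * w * a⁻¹) = bar Q (x * w * x⁻¹) := by
    have step : ∀ w ∈ H, bar Q (a * w * a⁻¹) = bar Q (x * w * x⁻¹) →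
        bar Q (a * (a * w * a⁻¹) * a⁻¹) = bar Q (x * (a * w * a⁻¹) * x⁻¹) := by
      intro w hw ew
      rw [h.bar_conj_congr ha (hH (hHa w hw)) (h.conjQ hx (hH hw)) ew,
        show a * (x * w * x⁻¹) * a⁻¹ = (a * x) * w * (a * x)⁻¹ by group,
        h.bar_conj_pi (ha.mul_left hx) (hx.mul_left ha)
          (by rw [h.map_mul _ _ ha hx, h.map_mul _ _ hx ha, hax.eq]) (hH hw),
        show (x * a) * w * (x * a)⁻¹ = x * (a * w * a⁻¹) * x⁻¹ by group]
    intro w hw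
    have e1 := step v hv e
    have e2 := step _ (hHa v hv) e1
    rcases h.eight hH hz h8 ha ha3 hHa hK hv hvz hw with r | r | r | r
    · rw [← bar_one] at r
      rw [h.bar_conj_congr ha (hH hw) (one_mem Q) r, h.bar_conj_congr hx (hH hw) (one_mem Q) r,
        mul_one, mul_one, mul_inv_cancel, mul_inv_cancel]
    · rw [h.bar_conj_congr ha (hH hw) hvQ r, h.bar_conj_congr hx (hH hw) hvQ r, e]
    · rw [h.bar_conj_congr ha (hH hw) (h.conjQ ha hvQ) r,
        h.bar_conj_congr hx (hH hw) (h.conjQ ha hvQ) r, e1]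
    · rw [show a * a * v * (a * a)⁻¹ = a * (a * v * a⁻¹) * a⁻¹ by group] at r
      rw [h.bar_conj_congr ha (hH hw) (h.conjQ ha (h.conjQ ha hvQ)) r,
        h.bar_conj_congr hx (hH hw) (h.conjQ ha (h.conjQ ha hvQ)) r, e2]
  set F := f * v * f⁻¹ with hF
  have hFH : F ∈ H := hHf v hv
  have k1 : bar Q (a * (a * F * a⁻¹) * a⁻¹) = bar Q (a * F * a⁻¹) := by
    rw [key F hFH]
    calc bar Q (a * (a * F * a⁻¹) * a⁻¹) = bar Q ((a * a * f) * v * (a * a * f)⁻¹) := by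
          congr 1; rw [hF]; group
      _ = bar Q ((f * a) * v * (f * a)⁻¹) := by
          refine h.bar_conj_pi ((ha.mul_left ha).mul_left hf) (hf.mul_left ha) ?_ hvQ
          rw [h.map_mul _ _ (ha.mul_left ha) hf, h.map_mul _ _ ha ha, h.map_mul _ _ hf ha]
          have e2 : π f * π a = (π a)⁻¹ * π f := by rw [← hfa, inv_mul_cancel_right]
          rw [e2, show (π a)⁻¹ = π a * π a from inv_eq_of_mul_eq_one_left ha3]
      _ = bar Q (f * (x * v * x⁻¹) * f⁻¹) := by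
          rw [show (f * a) * v * (f * a)⁻¹ = f * (a * v * a⁻¹) * f⁻¹ by group]
          exact h.bar_conj_congr hf (h.conjQ ha hvQ) (h.conjQ hx hvQ) e
      _ = bar Q (x * F * x⁻¹) := by
          rw [show f * (x * v * x⁻¹) * f⁻¹ = (f * x) * v * (f * x)⁻¹ by group,
            h.bar_conj_pi (hf.mul_left hx) (hx.mul_left hf)
              (by rw [h.map_mul _ _ hf hx, h.map_mul _ _ hx hf, hfx.eq]) hvQ]
          congr 1; rw [hF]; group
  have k2 := h.bar_conj_congr ha.inv_left (h.conjQ ha (h.conjQ ha (hH hFH))) (h.conjQ ha (hH hFH)) k1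
  rw [show a⁻¹ * (a * (a * F * a⁻¹) * a⁻¹) * a⁻¹⁻¹ = a * F * a⁻¹ by group,
    show a⁻¹ * (a * F * a⁻¹) * a⁻¹⁻¹ = F by group] at k2
  have hFz := hK (mem_inf.2 ⟨(h.mem_K ha).2 ⟨hH hFH, k2⟩, hFH⟩)
  refine hvz ?_
  rw [show v = f⁻¹ * F * f by rw [hF]; group]
  rcases h.mem_Z.1 hFz with r | r <;> rw [r]
  · rw [mul_one, inv_mul_cancel]; exact one_mem _
  · rw [mul_assoc, ← hf.eq, inv_mul_cancel_left]; exact mem_zpowers z

theorem exists_lifts : ∃ s a b c, Lifts z π s a b c := by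
  obtain ⟨s, cs, es⟩ := h.range (c3, 1) c3_three.2.2 (map_one _)
  obtain ⟨a, ca, ea⟩ := h.range (1, pA) (map_one _) sign_pA
  obtain ⟨b, cb, eb⟩ := h.range (1, pB) (map_one _) sign_pB
  obtain ⟨c, cc, ec⟩ := h.range (1, pY) (map_one _) sign_pY
  exact ⟨s, a, b, c, cs, ca, cb, cc, es, ea, eb, ec⟩

variable {s a b c : G} (L : Lifts z π s a b c)
include L

theorem three_s : π s * π s * π s = 1 := by
  rw [L.es, Prod.mk_mul_mk, Prod.mk_mul_mk, one_mul, one_mul, c3_three.1]; rfl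

theorem three_a : π a * π a * π a = 1 := by
  rw [L.ea, Prod.mk_mul_mk, Prod.mk_mul_mk, one_mul, one_mul, pA_three.1]; rfl

theorem three_b : π b * π b * π b = 1 := by
  rw [L.eb, Prod.mk_mul_mk, Prod.mk_mul_mk, one_mul, one_mul, pB_three.1]; rfl

theorem pi_cc : π (c * c) = (1, pY * pY) := by
  rw [h.map_mul _ _ L.cc L.cc, L.ec, Prod.mk_mul_mk, one_mul]

/-- The construction of the two orthogonal pieces, for a given auxiliary element `k`. -/
theorem split_aux {Y : Subgroup G} (hY : Y ≤ Q) (hzY : z ∈ Y)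
    (ys : ∀ w ∈ Y, s * w * s⁻¹ ∈ Y) (ya : ∀ w ∈ Y, a * w * a⁻¹ ∈ Y)
    (yc : ∀ w ∈ Y, c * w * c⁻¹ ∈ Y)
    {k : G} (hk : Commute k z) {p : P6} (ek : π k = (1, p))
    (hp : KPerm p) (yk : ∀ w ∈ Y, k * w * k⁻¹ ∈ Y)
    (hkb : ∀ w, w ∈ KK Q k → w ∈ KK Q (c * k * c⁻¹) → w ∈ KK Q b)
    {v : G} (hv : v ∈ Y) (hvR : v ∈ RR Q a) (hvK : v ∈ KK Q k) (hvz : v ∉ zpowers z)
    (hgen : ∀ E E' : Subgroup G, (∀ e ∈ E, e ∈ Q ∧ e ∈ KK Q k) →
      (∀ e ∈ E', e ∈ Q ∧ e ∈ KK Q (c * k * c⁻¹)) → z ∈ E → z ∈ E' →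
      KK Q a ⊓ E ≤ zpowers z → KK Q b ⊓ E' ≤ zpowers z →
      (∀ e ∈ E, a * e * a⁻¹ ∈ E) → (∀ e ∈ E, b * e * b⁻¹ ∈ E) →
      (∀ e ∈ E', a * e * a⁻¹ ∈ E') → (∀ e ∈ E', b * e * b⁻¹ ∈ E') →
      ∃ y p, Commute y z ∧ π y = (1, p) ∧ (p = pA ∨ p = pA * pB) ∧ E ≤ RR Q y ∧ E' ≤ RR Q y)
    (yb : ∀ w ∈ Y, b * w * b⁻¹ ∈ Y) :
    ∃ E E', Split z Q π s a c Y E E' := by
  set E := Y ⊓ RR Q a ⊓ KK Q k with hE
  set E' := E.map (MulAut.conj c).toMonoidHom with hE'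
  set k' := c * k * c⁻¹ with hk'
  have ck' : Commute k' z := h.conj_comm L.cc hk
  have ek' : π k' = (1, pY * p * pY⁻¹) := by
    rw [hk', h.pi_conj L.cc hk, L.ec, ek]; simp
  have eba : π b = π c * π a * (π c)⁻¹ := by
    rw [L.ec, L.ea, L.eb]; simp [pY_conj.1]
  have hmapc : ∀ e ∈ E, c * e * c⁻¹ ∈ E' := fun e he => ⟨e, he, rfl⟩
  have hsurj : ∀ e' ∈ E', ∃ e ∈ E, c * e * c⁻¹ = e' := by
    rintro _ ⟨e, he, rfl⟩; exact ⟨e, he, rfl⟩
  have hE'sub : ∀ e' ∈ E', e' ∈ Y ∧ e' ∈ RR Q b ∧ e' ∈ KK Q k' := by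
    intro e' he'
    obtain ⟨e, he, rfl⟩ := hsurj e' he'
    exact ⟨yc e he.1.1, h.R_move L.cc L.ca L.cb eba he.1.2,
      h.K_move L.cc hk ck' (h.pi_conj L.cc hk) he.2⟩
  have hzE : z ∈ E := mem_inf.2 ⟨mem_inf.2 ⟨hzY, h.z_mem_R L.ca⟩, h.z_mem_K hk⟩
  have hzE' : z ∈ E' := ⟨z, hzE, by show c * z * c⁻¹ = z; rw [L.cc.eq, mul_inv_cancel_right]⟩
  have hEQ : E ≤ Q := fun e he => hY he.1.1
  have hE'Q : E' ≤ Q := fun e he => hY (hE'sub e he).1
  have hfz : Commute (c * c) z := L.cc.mul_left L.cc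
  have hfE : ∀ e ∈ E, (c * c) * e * (c * c)⁻¹ ∈ E := by
    intro e he
    refine mem_inf.2 ⟨mem_inf.2 ⟨?_, ?_⟩, ?_⟩
    · rw [show (c * c) * e * (c * c)⁻¹ = c * (c * e * c⁻¹) * c⁻¹ by group]
      exact yc _ (yc e he.1.1)
    · refine h.R_flip hfz L.ca ?_ he.1.2
      rw [h.pi_cc L, L.ea, Prod.inv_mk, Prod.mk_mul_mk, Prod.mk_mul_mk, Prod.inv_mk, pY_facts.1]
      simp
    · refine h.K_flip hfz hk ?_ he.2
      rw [h.pi_cc L, ek, Prod.inv_mk, Prod.mk_mul_mk, Prod.mk_mul_mk, Prod.inv_mk, hp.flip]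
      simp
  have hback : ∀ e' ∈ E', c * e' * c⁻¹ ∈ E := by
    intro e' he'
    obtain ⟨e, he, rfl⟩ := hsurj e' he'
    rw [show c * (c * e * c⁻¹) * c⁻¹ = (c * c) * e * (c * c)⁻¹ by group]
    exact hfE e he
  have hcard : Nat.card E' = Nat.card E :=
    Subgroup.card_map_of_injective (MulAut.conj c).injective
  have hKb : KK Q b ⊓ RR Q b ≤ zpowers z :=
    h.RK_meet L.cb (by rw [pow_three', h.three_b L])
  have hKa : KK Q a ⊓ RR Q a ≤ zpowers z :=
    h.RK_meet L.ca (by rw [pow_three', h.three_a L])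
  have hmeet : E ⊓ E' ≤ zpowers z := fun w hw =>
    hKb (mem_inf.2 ⟨hkb w hw.1.2 (hE'sub w hw.2).2.2, (hE'sub w hw.2).2.1⟩)
  have cAB : Commute (π b) (π a) := by
    rw [L.ea, L.eb]; exact Prod.ext rfl pAB_comm.symm
  have csa : Commute (π s) (π a) := by
    rw [L.es, L.ea]; exact Prod.ext (by simp) (by simp)
  have csk : Commute (π s) (π k) := by
    rw [L.es, ek]; exact Prod.ext (by simp) (by simp)
  have cak : Commute (π a) (π k) := by
    rw [L.ea, ek]; exact Prod.ext rfl hp.cA.symm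
  have cbk : Commute (π b) (π k) := by
    rw [L.eb, ek]; exact Prod.ext rfl hp.cB.symm
  have cak' : Commute (π a) (π k') := by
    rw [L.ea, ek']; exact Prod.ext rfl hp.cA'.symm
  have cbk' : Commute (π b) (π k') := by
    rw [L.eb, ek']; exact Prod.ext rfl hp.cB'.symm
  have ckk' : Commute (π k) (π k') := by
    rw [ek, ek']; exact Prod.ext rfl hp.cK.symm
  have stab_a : ∀ e ∈ E, a * e * a⁻¹ ∈ E := fun e he =>
    mem_inf.2 ⟨mem_inf.2 ⟨ya e he.1.1, h.R_stab L.ca L.ca (Commute.refl _) he.1.2⟩,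
      h.K_stab L.ca hk cak he.2⟩
  have stab_b : ∀ e ∈ E, b * e * b⁻¹ ∈ E := fun e he =>
    mem_inf.2 ⟨mem_inf.2 ⟨yb e he.1.1, h.R_stab L.cb L.ca cAB he.1.2⟩,
      h.K_stab L.cb hk cbk he.2⟩
  -- the image pieces are the same intersections
  have hE'char : ∀ w, w ∈ Y → w ∈ RR Q b → w ∈ KK Q k' → w ∈ E' := by
    intro w h1 h2 h3
    -- `c` maps `E'` into `E` and back, so the cardinalities force equality
    have hle : E' ≤ Y ⊓ RR Q b ⊓ KK Q k' := fun e he =>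
      mem_inf.2 ⟨mem_inf.2 ⟨(hE'sub e he).1, (hE'sub e he).2.1⟩, (hE'sub e he).2.2⟩
    have hinj : Nat.card ↥(Y ⊓ RR Q b ⊓ KK Q k') ≤ Nat.card E := by
      refine Nat.card_le_card_of_injective (fun w => ⟨c * w.1 * c⁻¹, ?_⟩) ?_
      · obtain ⟨w, hw⟩ := w
        refine mem_inf.2 ⟨mem_inf.2 ⟨yc w hw.1.1, ?_⟩, ?_⟩
        · have := h.R_move L.cc L.cb L.ca.inv_left (w := w) (by
            rw [h.pi_inv L.ca, L.ec, L.ea, L.eb, Prod.inv_mk, Prod.inv_mk, Prod.mk_mul_mk,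
              Prod.mk_mul_mk, pY_conj.2.1]; simp) hw.1.2
          rwa [h.R_inv L.ca] at this
        · have := h.K_move L.cc ck' hk.inv_left (w := w) (by
            rw [h.pi_inv hk, L.ec, ek', ek, Prod.inv_mk, Prod.inv_mk, Prod.mk_mul_mk,
              Prod.mk_mul_mk, show pY * (pY * p * pY⁻¹) * pY⁻¹ = pY * pY * p * (pY * pY)⁻¹ by group,
              hp.flip]
            simp) hw.2
          rwa [h.K_inv hk] at this
      · intro x y e
        exact Subtype.ext (mul_left_cancel (mul_right_cancel (congrArg Subtype.val e)))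
    have := eq_of_le_of_card_ge hle (hinj.trans hcard.ge)
    rw [this]
    exact mem_inf.2 ⟨mem_inf.2 ⟨h1, h2⟩, h3⟩
  have stab_a' : ∀ e ∈ E', a * e * a⁻¹ ∈ E' := fun e he =>
    hE'char _ (ya e (hE'sub e he).1) (h.R_stab L.ca L.cb cAB.symm (hE'sub e he).2.1)
      (h.K_stab L.ca ck' cak' (hE'sub e he).2.2)
  have stab_b' : ∀ e ∈ E', b * e * b⁻¹ ∈ E' := fun e he =>
    hE'char _ (yb e (hE'sub e he).1) (h.R_stab L.cb L.cb (Commute.refl _) (hE'sub e he).2.1)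
      (h.K_stab L.cb ck' cbk' (hE'sub e he).2.2)
  have hfpfa : KK Q a ⊓ E ≤ zpowers z := fun w hw => hKa (mem_inf.2 ⟨hw.1, hw.2.1.2⟩)
  have hfpfb : KK Q b ⊓ E' ≤ zpowers z := fun w hw =>
    hKb (mem_inf.2 ⟨hw.1, (hE'sub w hw.2).2.1⟩)
  refine ⟨E, E', fun e he => he.1.1, fun e he => (hE'sub e he).1, hzE, hzE', hmapc, hsurj,
    hback, hcard, hmeet, ?_, ?_, stab_a, hfE, hfpfa, ?_, ?_⟩
  · have hkinv : ∀ e ∈ E', k * e * k⁻¹ ∈ E' := fun e he =>
      hE'char _ (yk e (hE'sub e he).1)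
        (h.R_stab hk L.cb cbk.symm (hE'sub e he).2.1)
        (h.K_stab hk ck' ckk' (hE'sub e he).2.2)
    have hKk : KK Q k ⊓ E' ≤ zpowers z := fun w hw =>
      hKb (mem_inf.2 ⟨hkb w hw.1 (hE'sub w hw.2).2.2, (hE'sub w hw.2).2.1⟩)
    intro e he e' he'
    exact (h.commute_R_K hk (h.fpf_le_R hk hE'Q hzE' hkinv hKk he') he.2).symm
  · exact fun e he => mem_inf.2 ⟨mem_inf.2 ⟨ys e he.1.1, h.R_stab L.cs L.ca csa he.1.2⟩,
      h.K_stab L.cs hk csk he.2⟩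
  · have h1 := h.fpf_card L.ca (by rw [pow_three', h.three_a L]) hEQ hzE stab_a hfpfa
    refine h1.resolve_left fun e2 => hvz ?_
    rw [show zpowers z = E from eq_of_le_of_card_ge (h.Z_le hzE) (by rw [e2, h.Z_card])]
    exact mem_inf.2 ⟨mem_inf.2 ⟨hv, hvR⟩, hvK⟩
  · obtain ⟨y, q, hy, ey, hq, h1, h2⟩ := hgen E E' (fun e he => ⟨hEQ he, he.2⟩)
      (fun e he => ⟨hE'Q he, (hE'sub e he).2.2⟩) hzE hzE' hfpfa hfpfb stab_a stab_b stab_a' stab_b'
    exact ⟨y, q, hy, ey, hq, sup_le h1 h2⟩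

/-- The splitting of an invariant subgroup on which `a` acts nontrivially. -/
theorem split {Y : Subgroup G} (hY : Y ≤ Q) (hzY : z ∈ Y)
    (ys : ∀ w ∈ Y, s * w * s⁻¹ ∈ Y) (ya : ∀ w ∈ Y, a * w * a⁻¹ ∈ Y)
    (yb : ∀ w ∈ Y, b * w * b⁻¹ ∈ Y) (yc : ∀ w ∈ Y, c * w * c⁻¹ ∈ Y)
    {w₀ : G} (hw₀ : w₀ ∈ Y) (hw₀K : w₀ ∉ KK Q a) :
    ∃ E E', Split z Q π s a c Y E E' := by
  have ha3 : π a ^ 3 = 1 := by rw [pow_three', h.three_a L]
  have hb3 : π b ^ 3 = 1 := by rw [pow_three', h.three_b L]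
  set v := ⁅a, w₀⁆ with hvdef
  have hvY : v ∈ Y := by
    rw [hvdef, commutatorElement_def]; exact mul_mem (ya _ hw₀) (inv_mem hw₀)
  have hvR : v ∈ RR Q a := h.comm_mem_R L.ca (hY hw₀)
  have hvz : v ∉ zpowers z := fun e => hw₀K ((h.comm_mem_Z_iff L.ca (hY hw₀)).1 e)
  have hvQ := hY hvY
  have cba : Commute (π b) (π a) := by
    rw [L.ea, L.eb]; exact Prod.ext rfl pAB_comm.symm
  have cab : Commute (a * b) z := L.ca.mul_left L.cb
  have eab : π (a * b) = (1, pA * pB) := by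
    rw [h.map_mul _ _ L.ca L.cb, L.ea, L.eb, Prod.mk_mul_mk, one_mul]
  have caab : Commute (a * a * b) z := (L.ca.mul_left L.ca).mul_left L.cb
  have eaab : π (a * a * b) = (1, pA⁻¹ * pB) := by
    rw [h.map_mul _ _ (L.ca.mul_left L.ca) L.cb, h.map_mul _ _ L.ca L.ca, L.ea, L.eb,
      Prod.mk_mul_mk, Prod.mk_mul_mk, one_mul, one_mul, pAB_sq.2.1]
  set Bv := b * v * b⁻¹ with hBv
  set BBv := b * Bv * b⁻¹ with hBBv
  have hBvY : Bv ∈ Y := yb v hvY
  have hBBvY : BBv ∈ Y := yb Bv hBvY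
  have hBvR : Bv ∈ RR Q a := h.R_stab L.cb L.ca cba hvR
  have hBBvR : BBv ∈ RR Q a := h.R_stab L.cb L.ca cba hBvR
  by_cases hw : v * Bv * BBv ∈ zpowers z
  swap
  · -- `b` fixes `v · bv · b²v`
    have hK : v * Bv * BBv ∈ KK Q b := by
      refine (h.mem_K L.cb).2 ⟨hY (mul_mem (mul_mem hvY hBvY) hBBvY), ?_⟩
      have e3 : bar Q (b * BBv * b⁻¹) = bar Q v := by
        rw [hBBv, hBv, show b * (b * (b * v * b⁻¹) * b⁻¹) * b⁻¹ = b ^ 3 * v * (b ^ 3)⁻¹ by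
          rw [pow_three']; group]
        exact h.bar_conj_mem ((h.ker _ (L.cb.pow_left 3)).1 (by rw [h.pi_pow L.cb, hb3])) hvQ
      rw [show b * (v * Bv * BBv) * b⁻¹ = Bv * BBv * (b * BBv * b⁻¹) by rw [hBBv, hBv]; group,
        bar_mul (hY (mul_mem hBvY hBBvY)) (h.conjQ L.cb (hY hBBvY)), bar_mul (hY hBvY) (hY hBBvY),
        bar_mul (hY (mul_mem hvY hBvY)) (hY hBBvY), bar_mul hvQ (hY hBvY), e3]
      ac_rfl
    refine h.split_aux L hY hzY ys ya yc L.cb L.eb kPerm_b yb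
      (fun w h1 _ => h1) (mul_mem (mul_mem hvY hBvY) hBBvY)
      (mul_mem (mul_mem hvR hBvR) hBBvR) hK hw ?_ yb
    intro E E' hE hE' zE zE' fa fb sa sb sa' sb'
    refine ⟨a * b, pA * pB, cab, eab, Or.inr rfl, ?_, ?_⟩
    · refine h.fpf_le_R cab (fun e he => (hE e he).1) zE (fun e he => ?_) fun w hw => ?_
      · rw [show a * b * e * (a * b)⁻¹ = a * (b * e * b⁻¹) * a⁻¹ by group]
        exact sa _ (sb e he)
      · refine fa (mem_inf.2 ⟨?_, hw.2⟩)
        have := h.K_mul cab L.cb.inv_left hw.1 (by rw [h.K_inv L.cb]; exact (hE w hw.2).2)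
        rwa [show a * b * b⁻¹ = a by group] at this
    · refine h.fpf_le_R cab (fun e he => (hE' e he).1) zE' (fun e he => ?_) fun w hw => ?_
      · rw [show a * b * e * (a * b)⁻¹ = a * (b * e * b⁻¹) * a⁻¹ by group]
        exact sa' _ (sb' e he)
      · refine fb (mem_inf.2 ⟨?_, hw.2⟩)
        have h1 : w ∈ KK Q a := by
          have := (hE' w hw.2).2
          rwa [h.K_congr (h.conj_comm L.cc L.cb) L.ca.inv_left (by
            rw [h.pi_conj L.cc L.cb, h.pi_inv L.ca, L.ec, L.eb, L.ea, Prod.inv_mk,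
              Prod.inv_mk, Prod.mk_mul_mk, Prod.mk_mul_mk, pY_conj.2.1]; simp), h.K_inv L.ca] at this
        have := h.K_mul L.ca.inv_left cab (by rw [h.K_inv L.ca]; exact h1) hw.1
        rwa [show a⁻¹ * (a * b) = b by group] at this
  have hb_rel : bar Q v * bar Q Bv * bar Q BBv = 1 := by
    rwa [← bar_mul hvQ (hY hBvY), ← bar_mul (hY (mul_mem hvY hBvY)) (hY hBBvY),
      h.bar_eq_one (hY (mul_mem (mul_mem hvY hBvY) hBBvY))]
  -- on `[a, Q]` the three translates under `a` multiply to `1`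
  have triple : ∀ u ∈ RR Q a,
      bar Q u * bar Q (a * u * a⁻¹) * bar Q (a * (a * u * a⁻¹) * a⁻¹) = 1 := by
    intro u hu
    have huQ := h.R_le a hu
    have m1 := h.conjQ L.ca huQ
    have m2 := h.conjQ L.ca m1
    have hR1 := h.R_stab L.ca L.ca (Commute.refl _) hu
    have hR2 := h.R_stab L.ca L.ca (Commute.refl _) hR1
    rw [← bar_mul huQ m1, ← bar_mul (mul_mem huQ m1) m2, h.bar_eq_one (mul_mem (mul_mem huQ m1) m2)]
    refine h.RK_meet L.ca ha3 (mem_inf.2 ⟨?_, mul_mem (mul_mem hu hR1) hR2⟩)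
    refine (h.mem_K L.ca).2 ⟨mul_mem (mul_mem huQ m1) m2, ?_⟩
    have e3 : bar Q (a * (a * (a * u * a⁻¹) * a⁻¹) * a⁻¹) = bar Q u := by
      rw [show a * (a * (a * u * a⁻¹) * a⁻¹) * a⁻¹ = a ^ 3 * u * (a ^ 3)⁻¹ by
          rw [pow_three']; group]
      exact h.bar_conj_mem ((h.ker _ (L.ca.pow_left 3)).1 (by rw [h.pi_pow L.ca, ha3])) huQ
    rw [show a * (u * (a * u * a⁻¹) * (a * (a * u * a⁻¹) * a⁻¹)) * a⁻¹ = (a * u * a⁻¹) *
        (a * (a * u * a⁻¹) * a⁻¹) * (a * (a * (a * u * a⁻¹) * a⁻¹) * a⁻¹) by group,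
      bar_mul (mul_mem m1 m2) (h.conjQ L.ca m2), bar_mul m1 m2,
      bar_mul (mul_mem huQ m1) m2, bar_mul huQ m1, e3]
    ac_rfl
  have hgen : ∀ (k : G) (p : P6), Commute k z → π k = (1, p) →
      (∀ w, w ∈ KK Q k → w ∈ KK Q a → w ∈ KK Q b) →
      ∀ E E' : Subgroup G, (∀ e ∈ E, e ∈ Q ∧ e ∈ KK Q k) →
      (∀ e ∈ E', e ∈ Q ∧ e ∈ KK Q (c * k * c⁻¹)) → z ∈ E → z ∈ E' →
      KK Q a ⊓ E ≤ zpowers z → KK Q b ⊓ E' ≤ zpowers z →
      (∀ e ∈ E, a * e * a⁻¹ ∈ E) → (∀ e ∈ E, b * e * b⁻¹ ∈ E) →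
      (∀ e ∈ E', a * e * a⁻¹ ∈ E') → (∀ e ∈ E', b * e * b⁻¹ ∈ E') →
      (∀ w, w ∈ KK Q (c * k * c⁻¹) → w ∈ KK Q a → w ∈ KK Q b) →
      ∃ y p, Commute y z ∧ π y = (1, p) ∧ (p = pA ∨ p = pA * pB) ∧ E ≤ RR Q y ∧ E' ≤ RR Q y := by
    intro k p hk ek _ E E' hE hE' zE zE' fa fb sa sb sa' sb' hk'
    refine ⟨a, pA, L.ca, L.ea, Or.inl rfl, ?_, ?_⟩
    · exact h.fpf_le_R L.ca (fun e he => (hE e he).1) zE sa fa
    · exact h.fpf_le_R L.ca (fun e he => (hE' e he).1) zE' sa' fun w hw =>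
        fb (mem_inf.2 ⟨hk' w (hE' w hw.2).2 hw.1, hw.2⟩)
  have hABv : a * b * v * (a * b)⁻¹ = a * Bv * a⁻¹ := by rw [hBv]; group
  set v' := a * b * v * (a * b)⁻¹ * v with hv'
  have hABvY : a * b * v * (a * b)⁻¹ ∈ Y := by rw [hABv]; exact ya _ hBvY
  have hABvR : a * b * v * (a * b)⁻¹ ∈ RR Q a := by
    rw [hABv]; exact h.R_stab L.ca L.ca (Commute.refl _) hBvR
  by_cases hv'z : v' ∈ zpowers z
  · -- `a b` fixes `v`
    have hK : v ∈ KK Q (a * b) := by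
      refine (h.mem_K cab).2 ⟨hvQ, ?_⟩
      have e := (h.bar_eq_one (hY (mul_mem hABvY hvY))).2 hv'z
      rw [bar_mul (hY hABvY) hvQ] at e
      exact mul_right_cancel (e.trans (h.bar_sq hvQ).symm)
    have hkb : ∀ w, w ∈ KK Q (a * b) → w ∈ KK Q (c * (a * b) * c⁻¹) → w ∈ KK Q b := by
      intro w h1 h2
      have h3 := h.K_mul cab (h.conj_comm L.cc cab) h1 h2
      rwa [h.K_congr (cab.mul_left (h.conj_comm L.cc cab)) L.cb.inv_left (by
        rw [h.map_mul _ _ cab (h.conj_comm L.cc cab), h.pi_conj L.cc cab, eab, L.ec,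
          h.pi_inv L.cb, L.eb, Prod.inv_mk, Prod.inv_mk, Prod.mk_mul_mk, Prod.mk_mul_mk,
          Prod.mk_mul_mk, pAB_conj]
        simp), h.K_inv L.cb] at h3
    refine h.split_aux L hY hzY ys ya yc cab eab kPerm_ab
      (fun w hw => by
        rw [show a * b * w * (a * b)⁻¹ = a * (b * w * b⁻¹) * a⁻¹ by group]
        exact ya _ (yb w hw))
      hkb hvY hvR hK hvz (fun E E' hE hE' zE zE' fa fb sa sb sa' sb' =>
        hgen (a * b) _ cab eab (fun w h1 h2 => ?_) E E' hE hE' zE zE' fa fb sa sb sa' sb'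
          (fun w h1 h2 => ?_)) yb
    · have := h.K_mul L.ca.inv_left cab (by rw [h.K_inv L.ca]; exact h2) h1
      rwa [show a⁻¹ * (a * b) = b by group] at this
    · have := h.K_mul (h.conj_comm L.cc cab) L.ca h1 h2
      rwa [h.K_congr ((h.conj_comm L.cc cab).mul_left L.ca) L.cb (by
        rw [h.map_mul _ _ (h.conj_comm L.cc cab) L.ca, h.pi_conj L.cc cab, eab, L.ec, L.ea,
          L.eb, Prod.inv_mk, Prod.mk_mul_mk, Prod.mk_mul_mk, Prod.mk_mul_mk, pAB_kill.1]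
        simp)] at this
  · -- `a⁻¹ b` fixes `v'`
    have hK : v' ∈ KK Q (a * a * b) := by
      refine (h.mem_K caab).2 ⟨hY (mul_mem hABvY hvY), ?_⟩
      have e1 : bar Q (a * a * b * (a * b * v * (a * b)⁻¹) * (a * a * b)⁻¹) = bar Q BBv := by
        rw [show a * a * b * (a * b * v * (a * b)⁻¹) * (a * a * b)⁻¹ =
          (a * a * b * (a * b)) * v * (a * a * b * (a * b))⁻¹ by group]
        rw [h.bar_conj_pi (caab.mul_left cab) (L.cb.mul_left L.cb) (by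
          rw [h.map_mul _ _ caab cab, h.map_mul _ _ L.cb L.cb, eaab, eab, L.eb, Prod.mk_mul_mk,
            Prod.mk_mul_mk, ← pAB_sq.2.1, pAB_sq.1]) hvQ]
        congr 1; rw [hBBv, hBv]; group
      rw [hv', show a * a * b * (a * b * v * (a * b)⁻¹ * v) * (a * a * b)⁻¹ =
          a * a * b * (a * b * v * (a * b)⁻¹) * (a * a * b)⁻¹ *
            (a * (a * Bv * a⁻¹) * a⁻¹) by rw [hBv]; group,
        bar_mul (h.conjQ caab (hY hABvY)) (h.conjQ L.ca (h.conjQ L.ca (hY hBvY))), e1,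
        bar_mul (hY hABvY) hvQ, hABv]
      have t := triple Bv hBvR
      -- `B²v = v · Bv` and `A²Bv = Bv · ABv`
      have r1 : bar Q BBv = bar Q v * bar Q Bv := by
        calc bar Q BBv = bar Q v * bar Q Bv * (bar Q v * bar Q Bv * bar Q BBv) := by
              rw [← mul_assoc (bar Q v * bar Q Bv) (bar Q v * bar Q Bv), mul_mul_mul_comm,
                h.bar_sq hvQ, h.bar_sq (hY hBvY), one_mul, one_mul]
          _ = _ := by rw [hb_rel, mul_one]
      have r2 : bar Q (a * (a * Bv * a⁻¹) * a⁻¹) = bar Q Bv * bar Q (a * Bv * a⁻¹) := by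
        calc bar Q (a * (a * Bv * a⁻¹) * a⁻¹)
            = bar Q Bv * bar Q (a * Bv * a⁻¹) *
              (bar Q Bv * bar Q (a * Bv * a⁻¹) * bar Q (a * (a * Bv * a⁻¹) * a⁻¹)) := by
              rw [← mul_assoc (bar Q Bv * bar Q (a * Bv * a⁻¹)) (bar Q Bv * bar Q (a * Bv * a⁻¹)),
                mul_mul_mul_comm, h.bar_sq (hY hBvY),
                h.bar_sq (h.conjQ L.ca (hY hBvY)), one_mul, one_mul]
          _ = _ := by rw [t, mul_one]
      rw [r1, r2, ← mul_assoc, mul_assoc (bar Q v) (bar Q Bv) (bar Q Bv), h.bar_sq (hY hBvY),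
        mul_one, mul_comm]
    have hkb : ∀ w, w ∈ KK Q (a * a * b) → w ∈ KK Q (c * (a * a * b) * c⁻¹) → w ∈ KK Q b := by
      intro w h1 h2
      rw [← h.K_inv (h.conj_comm L.cc caab)] at h2
      have h3 := h.K_mul caab (h.conj_comm L.cc caab).inv_left h1 h2
      rwa [h.K_congr (caab.mul_left (h.conj_comm L.cc caab).inv_left) L.cb.inv_left (by
        rw [h.map_mul _ _ caab (h.conj_comm L.cc caab).inv_left,
          h.pi_inv (h.conj_comm L.cc caab), h.pi_conj L.cc caab, eaab, L.ec,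
          h.pi_inv L.cb, L.eb, Prod.inv_mk, Prod.inv_mk, Prod.mk_mul_mk, Prod.mk_mul_mk,
          Prod.inv_mk, Prod.mk_mul_mk, pAB_conj']
        simp), h.K_inv L.cb] at h3
    refine h.split_aux L hY hzY ys ya yc caab eaab kPerm_aab
      (fun w hw => by
        rw [show a * a * b * w * (a * a * b)⁻¹ = a * (a * (b * w * b⁻¹) * a⁻¹) * a⁻¹ by group]
        exact ya _ (ya _ (yb w hw)))
      hkb (mul_mem hABvY hvY) (mul_mem hABvR hvR) hK hv'z
      (fun E E' hE hE' zE zE' fa fb sa sb sa' sb' =>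
        hgen (a * a * b) _ caab eaab (fun w h1 h2 => ?_) E E' hE hE' zE zE' fa fb sa sb sa' sb'
          (fun w h1 h2 => ?_)) yb
    · have := h.K_mul L.ca caab h2 h1
      rwa [h.K_congr (L.ca.mul_left caab) L.cb (by
        rw [h.map_mul _ _ L.ca caab, eaab, L.ea, L.eb, Prod.mk_mul_mk, mul_inv_cancel_left,
          one_mul])] at this
    · rw [← h.K_inv (h.conj_comm L.cc caab)] at h1
      rw [← h.K_inv L.ca] at h2
      have := h.K_mul (h.conj_comm L.cc caab).inv_left L.ca.inv_left h1 h2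
      rwa [h.K_congr ((h.conj_comm L.cc caab).inv_left.mul_left L.ca.inv_left) L.cb (by
        rw [h.map_mul _ _ (h.conj_comm L.cc caab).inv_left L.ca.inv_left,
          h.pi_inv (h.conj_comm L.cc caab), h.pi_conj L.cc caab, eaab, h.pi_inv L.ca, L.ec,
          L.ea, L.eb, Prod.inv_mk, Prod.inv_mk, Prod.mk_mul_mk, Prod.mk_mul_mk, Prod.inv_mk,
          Prod.mk_mul_mk, pAB_kill.2]
        simp)] at this

end Nine

end CfsgLib.ExtraNine
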