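import Cfsg.Agent.Lib.ExtraNine.Pairs

/-!
# Some conjugate of `z` other than `z` lies in `Q`

Throughout `Outside` says that no conjugate of `z` in `C(z) \ {z}` lies in `Q`.
-/

set_option autoImplicit false
set_option linter.unusedSectionVars false
set_option linter.style.haveILetI false

namespace CfsgLib.ExtraNine

open Subgroup
open scoped commutatorElement

variable {G : Type*} [Group G]

/-- No conjugate of `z` in `C(z) \ {z}` lies in `Q`. -/
def Outside (z : G) (Q : Subgroup G) : Prop := ∀ u g : G, Pair z u g → u ∉ Q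

/-- `[u, Q]Z = C_Q(u)` of order 32 and elementary. -/
structure Bal (Q : Subgroup G) (u : G) : Prop where
  flat : Flat Q u
  KR : KK Q u = RR Q u
  card : Nat.card (RR Q u) = 32
  CR : CQ Q u = RR Q u

namespace Nine

variable [Finite G] {z : G} {Q : Subgroup G} {π : G → GS} (h : Nine z Q π)
include h

theorem CQ_le_K {u g : G} (P : Pair z u g) : CQ Q u ≤ KK Q u := fun q hq => by
  obtain ⟨hq, hc⟩ := mem_CQ.1 hq
  exact (h.mem_K P.comm).2 ⟨hq, by rw [← hc.eq, mul_inv_cancel_right]⟩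

theorem K_le_two {u g : G} (P : Pair z u g) : Nat.card (KK Q u) ≤ 2 * Nat.card (CQ Q u) := by
  classical
  by_cases hex : ∃ k₀ ∈ KK Q u, ¬ Commute k₀ u
  · obtain ⟨k₀, hk₀, hk₀u⟩ := hex
    have hmove : ∀ k ∈ KK Q u, ¬ Commute k u → u * k * u⁻¹ = k * z := by
      intro k hk hku
      refine (h.bar_eq' (h.K_le u hk) (h.conjQ P.comm (h.K_le u hk))
        ((h.mem_K P.comm).1 hk).2.symm).resolve_left fun e => hku ?_
      show k * u = u * k
      rw [← mul_inv_eq_iff_eq_mul.1 e]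
    have hkey : ∀ k : KK Q u,
        (if Commute (k : G) u then (k : G) else k₀⁻¹ * k) ∈ CQ Q u := by
      intro k
      split
      · exact mem_CQ.2 ⟨h.K_le u k.2, ‹_›⟩
      · have hQ := mul_mem (inv_mem (h.K_le u hk₀)) (h.K_le u k.2)
        refine mem_CQ.2 ⟨hQ, ?_⟩
        show k₀⁻¹ * (k : G) * u = u * (k₀⁻¹ * k)
        refine (mul_inv_eq_iff_eq_mul.1 ?_).symm
        rw [show u * (k₀⁻¹ * k) * u⁻¹ = (u * k₀ * u⁻¹)⁻¹ * (u * k * u⁻¹) by group,
          hmove k₀ hk₀ hk₀u, hmove k k.2 ‹_›, mul_inv_rev, h.zinv, ← mul_assoc,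
          mul_assoc z k₀⁻¹ k, ← (h.cz hQ).eq, mul_assoc, h.zz, mul_one]
    refine (Nat.card_le_card_of_injective (β := Bool × CQ Q u)
      (fun k : KK Q u => (decide (Commute (k : G) u), ⟨_, hkey k⟩)) ?_).trans
      (le_of_eq (by rw [Nat.card_prod]; simp))
    intro x y e
    simp only [Prod.mk.injEq, decide_eq_decide, Subtype.mk.injEq] at e
    obtain ⟨e1, e2⟩ := e
    by_cases hx : Commute (x : G) u
    · rw [if_pos hx, if_pos (e1.1 hx)] at e2; exact Subtype.ext e2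
    · rw [if_neg hx, if_neg (fun hy => hx (e1.2 hy))] at e2
      exact Subtype.ext (mul_left_cancel e2)
  · push Not at hex
    exact (card_le_of_le fun k hk => mem_CQ.2 ⟨h.K_le u hk, hex k hk⟩).trans
      (Nat.le_mul_of_pos_left _ two_pos)

theorem phi_mul (u q q' : G) : ⁅u, q * q'⁆ = ⁅u, q⁆ * (q * ⁅u, q'⁆ * q⁻¹) := by
  simp only [commutatorElement_def]; group

theorem R_phi {u g c : G} (P : Pair z u g) (hc : c ∈ KK Q u) (ec : ⁅u, c⁆ = z) :
    ∀ r ∈ RR Q u, ∃ q ∈ Q, r = ⁅u, q⁆ := by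
  intro r hr
  obtain ⟨q, hq, e | e⟩ := h.exists_comm_of_R P.comm hr
  · exact ⟨q, hq, e⟩
  · refine ⟨c * q, mul_mem (h.K_le u hc) hq, ?_⟩
    rw [h.phi_mul, ec, (h.commute_R_K P.comm (h.comm_mem_R P.comm hq) hc).symm.eq,
      mul_inv_cancel_right, e, (h.cz (h.commQ P.comm hq)).eq]

theorem odd_pair {x s v : G} (hx : Commute x z) (hs : Commute s z)
    (es : π s = (c3, 1)) (hsign : Equiv.Perm.sign (π x).1 = -1) (hKs : KK Q s ≤ zpowers z)
    (hv : v ∈ KK Q x) (hsv : s * v * s⁻¹ ∈ KK Q x) : v ∈ zpowers z := by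
  obtain ⟨hvQ, ev⟩ := (h.mem_K hx).1 hv
  obtain ⟨hsvQ, esv⟩ := (h.mem_K hx).1 hsv
  have e1 : bar Q (x * (s * v * s⁻¹) * x⁻¹) = bar Q (s * (s * v * s⁻¹) * s⁻¹) := by
    calc bar Q (x * (s * v * s⁻¹) * x⁻¹)
        = bar Q ((x * s) * v * (x * s)⁻¹) := by congr 1; group
      _ = bar Q ((s * s * x) * v * (s * s * x)⁻¹) := by
          refine h.bar_conj_pi (hx.mul_left hs) ((hs.mul_left hs).mul_left hx) ?_ hvQ
          rw [h.map_mul _ _ hx hs, h.map_mul _ _ (hs.mul_left hs) hx, h.map_mul _ _ hs hs, es]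
          refine Prod.ext ?_ (by simp)
          show (π x).1 * c3 = c3 * c3 * (π x).1
          rw [← mul_inv_eq_iff_eq_mul, (p3_odd _ hsign).2,
            show c3 * c3 = c3⁻¹ from eq_inv_of_mul_eq_one_left c3_three.1]
      _ = bar Q ((s * s) * (x * v * x⁻¹) * (s * s)⁻¹) := by congr 1; group
      _ = bar Q ((s * s) * v * (s * s)⁻¹) :=
          h.bar_conj_congr (hs.mul_left hs) (h.conjQ hx hvQ) hvQ ev
      _ = _ := by congr 1; group
  rw [esv] at e1
  have h1 := hKs ((h.mem_K hs).2 ⟨hsvQ, e1.symm⟩)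
  rcases h.mem_Z.1 h1 with r | r
  · rw [show v = 1 by simpa using r]; exact one_mem _
  · rw [show v = z by
      calc v = s⁻¹ * (s * v * s⁻¹) * s := by group
        _ = z := by rw [r, mul_assoc, ← hs.eq, inv_mul_cancel_left]]
    exact mem_zpowers z

theorem odd_no_fix {x s : G} {H : Subgroup G} (hx : Commute x z) (hs : Commute s z)
    (es : π s = (c3, 1)) (hsign : Equiv.Perm.sign (π x).1 = -1) (hKs : KK Q s ≤ zpowers z)
    (hHK : H ≤ KK Q x) (hHs : ∀ v ∈ H, s * v * s⁻¹ ∈ H) : H ≤ zpowers z :=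
  fun v hv => h.odd_pair hx hs es hsign hKs (hHK hv) (hHK (hHs v hv))

theorem pu_self {x : G} : pu π 1 x = π x := by rw [pu, inv_one, one_mul, mul_one]

theorem UU_one : UU Q 1 = Q := by
  ext w
  rw [mem_UU, inv_one, one_mul, mul_one]

theorem spair_swap {u g : G} (P : SPair z u g) : g * u * g⁻¹ = z ∧ g⁻¹ * u * g = z := by
  refine ⟨?_, ?_⟩
  · rw [← P.back]; group
  · rw [← P.eq]; group

/-- `y ↦ g⁻¹yg` carries `C_Q(u)` onto `C_U(z)`. -/
theorem swap_mem {u g y : G} (P : SPair z u g) (hy : y ∈ CQ Q u) :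
    g⁻¹ * y * g ∈ UU Q g ⊓ centralizer {z} ∧ π (g⁻¹ * y * g) = pu π g y := by
  obtain ⟨hyQ, hyu⟩ := mem_CQ.1 hy
  have hg2 : Commute (g * g) z := by
    show g * g * z = z * (g * g)
    calc g * g * z = g * (g * z * g⁻¹) * g := by group
      _ = g * u * g⁻¹ * (g * g) := by rw [P.eq]; group
      _ = z * (g * g) := by rw [(h.spair_swap P).1]
  refine ⟨mem_inf.2 ⟨?_, mem_centralizer_singleton_iff.2 (h.to_z P.eq hyu).eq⟩, rfl⟩
  rw [mem_UU, show g⁻¹ * (g⁻¹ * y * g) * g = (g * g)⁻¹ * y * (g * g) by group]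
  exact h.conjQ' hg2 hyQ

theorem swap_surj {u g x : G} (P : SPair z u g) (hx : x ∈ UU Q g) (hxz : Commute x z) :
    g * x * g⁻¹ ∈ CQ Q u := by
  have hg2 : Commute (g * g) z := by
    show g * g * z = z * (g * g)
    calc g * g * z = g * (g * z * g⁻¹) * g := by group
      _ = g * u * g⁻¹ * (g * g) := by rw [P.eq]; group
      _ = z * (g * g) := by rw [(h.spair_swap P).1]
  refine mem_CQ.2 ⟨?_, h.from_z P.eq hxz⟩
  rw [show g * x * g⁻¹ = (g * g) * (g⁻¹ * x * g) * (g * g)⁻¹ by group]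
  exact h.conjQ hg2 (mem_UU.1 hx)

theorem A_card {u g : G} (P : SPair z u g) :
    Nat.card ↥(UU Q g ⊓ centralizer {z}) = Nat.card (CQ Q u) := by
  refine le_antisymm ?_ ?_
  · refine Nat.card_le_card_of_injective (fun x => ⟨g * x.1 * g⁻¹,
      h.swap_surj P x.2.1 (mem_centralizer_singleton_iff.1 x.2.2)⟩) ?_
    intro x y e
    exact Subtype.ext (mul_left_cancel (mul_right_cancel (congrArg Subtype.val e)))
  · refine Nat.card_le_card_of_injective (fun y => ⟨g⁻¹ * y.1 * g, (h.swap_mem P y.2).1⟩) ?_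
    intro x y e
    exact Subtype.ext (mul_left_cancel (mul_right_cancel (congrArg Subtype.val e)))

section outside

variable (ho : Outside z Q)
include ho

theorem z_notin_U {u g : G} (P : Pair z u g) : z ∉ UU Q g := by
  intro hz
  refine ho (g⁻¹ * z * g) g⁻¹ ⟨by group, ?_, ?_⟩ (mem_UU.1 hz)
  · exact h.to_z P.eq P.comm.symm
  · intro e
    apply P.ne
    rw [← P.eq]
    calc g * z * g⁻¹ = g * (g⁻¹ * z * g) * g⁻¹ := by rw [e]
      _ = z := by group

theorem phi_rule {u g q : G} (P : Pair z u g) (hq : q ∈ Q) (hU : ⁅u, q⁆ ∈ UU Q g) :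
    ⁅u, q⁆ = 1 := by
  by_contra hne
  have hc := h.UU_comm P.eq hU
  obtain ⟨u', g', hS, e⟩ := h.newPair P hq hc hne
  rw [(h.pu_one_iff P.eq hc).2 hU] at e
  exact ho u' g' hS.toPair ((h.ker u' hS.comm).1 e)

theorem N_sq {u g n : G} (P : Pair z u g) (hn : n ∈ Q) (hnU : n ∈ UU Q g) : n * n = 1 := by
  rcases h.sq n hn with r | r
  · exact r
  · exact absurd (r ▸ mul_mem hnU hnU) (h.z_notin_U ho P)

theorem N_central {u g n : G} (P : Pair z u g) (hn : n ∈ Q) (hnU : n ∈ UU Q g) :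
    ∀ c ∈ CQ Q u, Commute n c := by
  intro c hc
  obtain ⟨hcQ, hcu⟩ := mem_CQ.1 hc
  rcases h.mem_Z.1 (h.comm_mem_Z hcQ hn) with r | r
  · exact (commutatorElement_eq_one_iff_commute.1 r).symm
  · refine absurd ?_ (h.z_notin_U ho P)
    rw [← r, commutatorElement_def]
    exact mul_mem (h.UU_stab P.eq hcu hnU) (inv_mem hnU)

theorem N_fix {u g n x : G} (P : Pair z u g) (hn : n ∈ Q) (hnU : n ∈ UU Q g) (hx : x ∈ UU Q g)
    (hxz : Commute x z) : Commute x n := by
  rcases h.UU_commutator P.eq hx hnU with r | r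
  · exact commutatorElement_eq_one_iff_commute.1 r
  · exact absurd (r ▸ h.commQ hxz hn) (ho u g P)

theorem bal_nz {u g n : G} (P : Pair z u g) (B : Bal Q u) (hn : n ∈ Q) (hnU : n ∈ UU Q g)
    (hn1 : n ≠ 1) : ∃ q ∈ Q, ⁅u, q⁆ = n * z := by
  have hnR : n ∈ RR Q u := B.CR.le (mem_CQ.2 ⟨hn, h.UU_comm P.eq hnU⟩)
  obtain ⟨q, hq, e | e⟩ := h.exists_comm_of_R P.comm hnR
  · exact absurd (e.trans (h.phi_rule ho P hq (e ▸ hnU))) hn1
  · exact ⟨q, hq, by rw [e, mul_assoc, h.zz, mul_one]⟩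

theorem bal_pairing {u g n n' q : G} (P : Pair z u g) (B : Bal Q u) (hn : n ∈ Q)
    (hnU : n ∈ UU Q g) (hn' : n' ∈ Q) (hn'U : n' ∈ UU Q g) (hn'1 : n' ≠ 1) (hne : n ≠ n')
    (hq : q ∈ Q) (eq : ⁅u, q⁆ = n * z) : ¬ Commute q n' := by
  intro hc
  obtain ⟨q', hq', eq'⟩ := h.bal_nz ho P B hn' hn'U hn'1
  have e : ⁅u, q * q'⁆ = n * n' := by
    rw [h.phi_mul, eq, eq', (hc.mul_right (h.cz hq)).eq, mul_inv_cancel_right, mul_assoc n z,
      ← (h.cz (mul_mem hn' h.memZ)).eq, mul_assoc n' z z, h.zz, mul_one]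
  have e1 := e.symm.trans (h.phi_rule ho P (mul_mem hq hq') (e ▸ mul_mem hnU hn'U))
  apply hne
  calc n = n * (n' * n') := by rw [h.N_sq ho P hn' hn'U, mul_one]
    _ = n' := by rw [← mul_assoc, e1, one_mul]

theorem bal_N_le {u g : G} (P : Pair z u g) (B : Bal Q u) :
    Nat.card ↥(Q ⊓ UU Q g) ≤ 4 := by
  classical
  by_contra hlt
  have key : ∀ T : Finset G, T.card ≤ 4 → ∃ n ∈ Q ⊓ UU Q g, n ∉ T := by
    intro T hT
    by_contra hcon
    push Not at hcon
    refine hlt (le_trans (Nat.card_le_card_of_injective (β := T)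
      (fun n : ↥(Q ⊓ UU Q g) => ⟨n, hcon n n.2⟩) ?_) (by simpa using hT))
    intro x y e
    exact Subtype.ext (congrArg Subtype.val e :)
  obtain ⟨n1, hn1, e1⟩ := key {1} (by simp)
  obtain ⟨n2, hn2, e2⟩ := key {1, n1} (Finset.card_le_two.trans (by norm_num))
  obtain ⟨n3, hn3, e3⟩ := key {1, n1, n2, n2 * n1} Finset.card_le_four
  simp only [Finset.mem_singleton, Finset.mem_insert, not_or] at e1 e2 e3
  obtain ⟨q, hq, eq⟩ := h.bal_nz ho P B hn1.1 hn1.2 e1
  have c2 := h.bal_pairing ho P B hn1.1 hn1.2 hn2.1 hn2.2 e2.1 (Ne.symm e2.2) hq eq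
  have c3' := h.bal_pairing ho P B hn1.1 hn1.2 hn3.1 hn3.2 e3.1 (Ne.symm e3.2.1) hq eq
  have hne1 : n2 * n3 ≠ 1 := fun e => e3.2.2.1 (by
    calc n3 = n2 * n2 * n3 := by rw [h.N_sq ho P hn2.1 hn2.2, one_mul]
      _ = n2 := by rw [mul_assoc, e, mul_one])
  have c23 := h.bal_pairing ho P B hn1.1 hn1.2 (mul_mem hn2.1 hn3.1) (mul_mem hn2.2 hn3.2) hne1
    (fun e => e3.2.2.2 (by rw [e, ← mul_assoc, h.N_sq ho P hn2.1 hn2.2, one_mul])) hq eq
  refine c23 (Commute.symm ?_)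
  rw [h.commute_mul hn2.1 hn3.1 hq]
  exact ⟨fun e => absurd e.symm c2, fun e => absurd e.symm c3'⟩

theorem bal_moved {u g x q : G} (P : Pair z u g) (B : Bal Q u) (hx : x ∈ UU Q g)
    (hxz : Commute x z) (hq : q ∈ Q) :
    ∃ n, n ∈ Q ∧ n ∈ UU Q g ∧ x * ⁅u, q⁆ * x⁻¹ = ⁅u, q⁆ * n ∧ (Commute q n → n = 1) := by
  have hxu := h.UU_comm P.eq hx
  have hr : Commute ⁅u, q⁆ u := (h.phi_comm_iff P.eq).2 (B.flat q hq)
  have hrQ := h.commQ P.comm hq
  set n := ⁅u, q⁆⁻¹ * (x * ⁅u, q⁆ * x⁻¹) with hn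
  have hnQ : n ∈ Q := mul_mem (inv_mem hrQ) (h.conjQ hxz hrQ)
  have hnU : n ∈ UU Q g := by
    rw [hn, show ⁅u, q⁆⁻¹ * (x * ⁅u, q⁆ * x⁻¹) = ⁅u, q⁆⁻¹ * x * ⁅u, q⁆⁻¹⁻¹ * x⁻¹ by group]
    exact mul_mem (h.UU_stab P.eq hr.inv_left hx) (inv_mem hx)
  have en : x * ⁅u, q⁆ * x⁻¹ = ⁅u, q⁆ * n := by rw [hn, mul_inv_cancel_left]
  refine ⟨n, hnQ, hnU, en, fun hc => ?_⟩
  set q'' := q⁻¹ * (x * q * x⁻¹) with hq''
  have hq''Q : q'' ∈ Q := mul_mem (inv_mem hq) (h.conjQ hxz hq)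
  have e1 : ⁅u, x * q * x⁻¹⁆ = x * ⁅u, q⁆ * x⁻¹ := by
    have hu : x * u * x⁻¹ = u := by rw [hxu.eq, mul_inv_cancel_right]
    calc ⁅u, x * q * x⁻¹⁆ = ⁅x * u * x⁻¹, x * q * x⁻¹⁆ := by rw [hu]
      _ = x * ⁅u, q⁆ * x⁻¹ := by simp only [commutatorElement_def]; group
  have e2 : ⁅u, x * q * x⁻¹⁆ = ⁅u, q⁆ * (q * ⁅u, q''⁆ * q⁻¹) := by
    rw [← h.phi_mul, hq'', mul_inv_cancel_left]
  rw [e1, en] at e2
  have e3 := mul_left_cancel e2
  have e4 : ⁅u, q''⁆ = n := by
    calc ⁅u, q''⁆ = q⁻¹ * (q * ⁅u, q''⁆ * q⁻¹) * q := by group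
      _ = n := by rw [← e3, mul_assoc, hc.symm.eq, inv_mul_cancel_left]
  rw [← e4]
  exact h.phi_rule ho P hq''Q (e4 ▸ hnU)

theorem bal_triv {u g x : G} (P : Pair z u g) (hxz : Commute x z)
    (hfix : ∀ q ∈ Q, Commute x ⁅u, q⁆) : ∀ r ∈ RR Q u, Commute x r := by
  intro r hr
  obtain ⟨q, hq, e | e⟩ := h.exists_comm_of_R P.comm hr <;> rw [e]
  · exact hfix q hq
  · exact (hfix q hq).mul_right hxz

theorem bal_fix_mul {u g x q q' n : G} (P : Pair z u g) (hx : x ∈ UU Q g) (hxz : Commute x z)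
    (hn : n ∈ Q) (hnU : n ∈ UU Q g) (hq : q ∈ Q) (e : ⁅u, q'⁆ = n * z)
    (hfix : Commute x ⁅u, q * q'⁆) : Commute x ⁅u, q⁆ := by
  have h1 : Commute x (q * (n * z) * q⁻¹) := by
    rcases h.comm q hq n hn with r | r
    · rw [show q * (n * z) * q⁻¹ = n * z by
        rw [← mul_assoc, r, mul_assoc n q z, (h.cz hq).eq, ← mul_assoc, mul_inv_cancel_right]]
      exact (h.N_fix ho P hn hnU hx hxz).mul_right hxz
    · rw [show q * (n * z) * q⁻¹ = n by
        rw [← mul_assoc, r, mul_assoc (n * q) z z, h.zz, mul_one, mul_inv_cancel_right]]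
      exact h.N_fix ho P hn hnU hx hxz
  rw [h.phi_mul, e] at hfix
  have := hfix.mul_right h1.inv_right
  rwa [mul_inv_cancel_right] at this

/-- When `N` has order one or four, `C_U(z)` centralizes `C_Q(u)`. -/
theorem bal_all_triv {u g : G} (P : Pair z u g) (B : Bal Q u)
    (hN : Nat.card ↥(Q ⊓ UU Q g) ≠ 2) {x : G} (hx : x ∈ UU Q g) (hxz : Commute x z) :
    ∀ r ∈ RR Q u, Commute x r := by
  refine h.bal_triv ho P hxz fun q hq => ?_
  by_cases hN1 : ∀ n, n ∈ Q → n ∈ UU Q g → n = 1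
  · obtain ⟨n, hn, hnU, e, -⟩ := h.bal_moved ho P B hx hxz hq
    rw [hN1 n hn hnU, mul_one, mul_inv_eq_iff_eq_mul] at e
    exact e
  push Not at hN1
  obtain ⟨n1, hn1, hn1U, hn11⟩ := hN1
  obtain ⟨n2, hn2, hn21, hn2ne⟩ : ∃ n ∈ Q ⊓ UU Q g, n ≠ 1 ∧ n ≠ n1 := by
    by_contra hcon
    push Not at hcon
    refine hN ((Nat.card_eq_two_iff' (1 : ↥(Q ⊓ UU Q g))).2
      ⟨⟨n1, mem_inf.2 ⟨hn1, hn1U⟩⟩, fun e => hn11 (congrArg Subtype.val e), fun y hy => ?_⟩)
    exact Subtype.ext (hcon y y.2 fun e => hy (Subtype.ext e))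
  obtain ⟨q1, hq1, e1⟩ := h.bal_nz ho P B hn1 hn1U hn11
  obtain ⟨q2, hq2, e2⟩ := h.bal_nz ho P B hn2.1 hn2.2 hn21
  have a12 := h.bal_pairing ho P B hn1 hn1U hn2.1 hn2.2 hn21 hn2ne.symm hq1 e1
  have a21 := h.bal_pairing ho P B hn2.1 hn2.2 hn1 hn1U hn11 hn2ne hq2 e2
  have a11 : Commute q1 n1 := by
    by_contra hc
    have h3 := h.bal_pairing ho P B hn1 hn1U (mul_mem hn1 hn2.1) (mul_mem hn1U hn2.2)
      (fun e => hn2ne (by
        calc n2 = n1 * n1 * n2 := by rw [h.N_sq ho P hn1 hn1U, one_mul]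
          _ = n1 := by rw [mul_assoc, e, mul_one]))
      (fun e => hn21 (mul_left_cancel (a := n1) (by rw [mul_one]; exact e.symm))) hq1 e1
    refine h3 (Commute.symm ?_)
    rw [h.commute_mul hn1 hn2.1 hq1]
    exact ⟨fun e => absurd e.symm hc, fun e => absurd e.symm a12⟩
  have key : ∀ q ∈ Q, Commute q n1 → Commute q n2 → Commute x ⁅u, q⁆ := by
    intro q hq c1 c2
    obtain ⟨n, hn, hnU, e, hn0⟩ := h.bal_moved ho P B hx hxz hq
    have hcn : Commute q n := by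
      by_contra hc
      have hn1' : n ≠ 1 := fun r => hc (r ▸ Commute.one_right q)
      have hnn1 : n ≠ n1 := fun r => hc (r ▸ c1)
      have hnn2 : n ≠ n2 := fun r => hc (r ▸ c2)
      have hnn12 : n ≠ n1 * n2 := fun r => hc (r ▸ c1.mul_right c2)
      classical
      have h5 : 4 < Nat.card ↥(Q ⊓ UU Q g) := by
        let T : Finset G := {1, n1, n2, n1 * n2, n}
        have hT : T.card = 5 := by
          have r1 : n1 * n2 ≠ 1 := fun r => hn2ne (by
            calc n2 = n1 * n1 * n2 := by rw [h.N_sq ho P hn1 hn1U, one_mul]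
              _ = n1 := by rw [mul_assoc, r, mul_one])
          have r2 : n1 * n2 ≠ n1 := fun r => hn21 (mul_left_cancel (a := n1) (by rw [r, mul_one]))
          have r3 : n1 * n2 ≠ n2 := fun r => hn11 (mul_right_cancel (b := n2) (by rw [r, one_mul]))
          simp [T, hn11, hn21, hn2ne, hn1', hnn1, hnn2, hnn12, hn11.symm, hn21.symm, hn2ne.symm,
            hn1'.symm, hnn1.symm, hnn2.symm, hnn12.symm, r1.symm, r2.symm, r3.symm]
        have hTs : ∀ t ∈ T, t ∈ Q ⊓ UU Q g := by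
          intro t ht
          simp only [T, Finset.mem_insert, Finset.mem_singleton] at ht
          rcases ht with rfl | rfl | rfl | rfl | rfl
          · exact one_mem _
          · exact mem_inf.2 ⟨hn1, hn1U⟩
          · exact hn2
          · exact mul_mem (mem_inf.2 ⟨hn1, hn1U⟩) hn2
          · exact mem_inf.2 ⟨hn, hnU⟩
        have := Nat.card_le_card_of_injective (fun t : T => (⟨t, hTs t t.2⟩ : ↥(Q ⊓ UU Q g)))
          (fun a b e => Subtype.ext (congrArg Subtype.val e :))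
        rw [Nat.card_eq_fintype_card, Fintype.card_coe, hT] at this
        omega
      exact absurd (h.bal_N_le ho P B) (by omega)
    rw [hn0 hcn, mul_one, mul_inv_eq_iff_eq_mul] at e
    exact e
  have step1 : ∀ q ∈ Q, Commute q n1 → Commute x ⁅u, q⁆ := by
    intro q hq c1
    by_cases c2 : Commute q n2
    · exact key q hq c1 c2
    · refine h.bal_fix_mul ho P hx hxz hn1 hn1U hq e1 (key _ (mul_mem hq hq1) (c1.mul_left a11) ?_)
      rw [h.commute_mul hq hq1 hn2.1]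
      exact ⟨fun e => absurd e c2, fun e => absurd e a12⟩
  by_cases c1 : Commute q n1
  · exact step1 q hq c1
  · refine h.bal_fix_mul ho P hx hxz hn2.1 hn2.2 hq e2 (step1 _ (mul_mem hq hq2) ?_)
    rw [h.commute_mul hq hq2 hn1]
    exact ⟨fun e => absurd e c1, fun e => absurd e a21⟩

theorem no_dt (hshape : ShapeT z Q π ∨ ShapeS z Q π) {u g : G} (P : SPair z u g) {f : P6}
    (hf : IsDt f) (eu : π u = (1, f)) : False := by
  have huz := P.comm
  rcases hshape with T | S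
  swap
  · obtain ⟨hR8, hK, hnf⟩ := S.dt u f huz eu hf
    simp only [Flat, not_forall] at hnf
    obtain ⟨q, hq, hne⟩ := hnf
    set c := ⁅u, q⁆ with hc
    have hcR : c ∈ RR Q u := h.comm_mem_R huz hq
    have hcQ := h.R_le u hcR
    have ecz : c * c = z := (h.sq c hcQ).resolve_left hne
    have ephi : ⁅u, c⁆ = z := by
      rw [commutatorElement_def u c, h.u_phi (q := q) P.eq, ← hc]
      calc c⁻¹ * c⁻¹ = (c * c)⁻¹ := (mul_inv_rev c c).symm
        _ = z := by rw [ecz, h.zinv]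
    have hf2 : π u * π u = 1 := by rw [eu, Prod.mk_mul_mk, one_mul, hf.1]; rfl
    have hcK := h.R_le_K huz hf2 hcR
    have hNbot : CQ Q u ⊓ UU Q g = ⊥ := by
      refine (Subgroup.eq_bot_iff_forall _).2 fun n hn => ?_
      obtain ⟨hnQ, hnu⟩ := mem_CQ.1 hn.1
      have hnK := h.CQ_le_K P.toPair hn.1
      have hnR : n ∈ RR Q u := by
        rw [h.R_eq_perp huz]
        refine mem_perp.2 ⟨hnQ, fun k hk => ?_⟩
        by_cases hku : Commute k u
        · exact h.N_central ho P.toPair hnQ hn.2 k (mem_CQ.2 ⟨h.K_le u hk, hku⟩)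
        · have hcn : Commute n c := (h.commute_R_K huz hcR hnK).symm
          have h2 : c⁻¹ * k ∈ CQ Q u := by
            refine mem_CQ.2 ⟨mul_mem (inv_mem hcQ) (h.K_le u hk), ?_⟩
            have e1 : u * k * u⁻¹ = k * z := by
              refine (h.bar_eq' (h.K_le u hk) (h.conjQ huz (h.K_le u hk))
                ((h.mem_K huz).1 hk).2.symm).resolve_left fun e => hku ?_
              show k * u = u * k
              rw [← mul_inv_eq_iff_eq_mul.1 e]
            have e2 : u * c * u⁻¹ = c * z := by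
              calc u * c * u⁻¹ = ⁅u, c⁆ * c := by rw [commutatorElement_def]; group
                _ = c * z := by rw [ephi, (h.cz hcQ).eq]
            show c⁻¹ * k * u = u * (c⁻¹ * k)
            refine (mul_inv_eq_iff_eq_mul.1 ?_).symm
            rw [show u * (c⁻¹ * k) * u⁻¹ = (u * c * u⁻¹)⁻¹ * (u * k * u⁻¹) by group, e1, e2,
              mul_inv_rev, h.zinv, ← mul_assoc, mul_assoc z c⁻¹ k,
              ← (h.cz (mul_mem (inv_mem hcQ) (h.K_le u hk))).eq, mul_assoc, h.zz, mul_one]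
          have := hcn.mul_right (h.N_central ho P.toPair hnQ hn.2 _ h2)
          rwa [mul_inv_cancel_left] at this
      obtain ⟨q', hq', e⟩ := h.R_phi P.toPair hcK ephi n hnR
      rw [e]
      exact h.phi_rule ho P.toPair hq' (e ▸ hn.2)
    have hcard := h.img_card (π := π) P.eq (A := CQ Q u) fun a ha => (mem_CQ.1 ha).2
    rw [hNbot, Subgroup.card_bot, mul_one] at hcard
    obtain ⟨k, hk, ek⟩ := h.card_pow (H := CQ Q u) inf_le_left
    have h64 := h.K_le_two P.toPair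
    rw [hK, ek] at h64
    have hk6 : 6 ≤ k := by
      by_contra hk6
      have := Nat.pow_le_pow_right two_pos (show k ≤ 5 by omega)
      omega
    have hd := (img π g (CQ Q u)).card_subgroup_dvd_card
    rw [← hcard, ek, card_GS] at hd
    have h2 := (pow_dvd_pow 2 hk6).trans hd
    norm_num at h2
  obtain ⟨hflat, h32, hKR⟩ := T.dt u f huz eu hf
  have hCR : CQ Q u = RR Q u := by
    refine le_antisymm ((h.CQ_le_K P.toPair).trans hKR.le) fun r hr => mem_CQ.2 ⟨h.R_le u hr, ?_⟩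
    obtain ⟨q, hq, e | e⟩ := h.exists_comm_of_R huz hr <;> rw [e]
    · exact (h.phi_comm_iff P.eq).2 (hflat q hq)
    · exact ((h.phi_comm_iff P.eq).2 (hflat q hq)).mul_left huz.symm
  have B : Bal Q u := ⟨hflat, hKR, h32, hCR⟩
  obtain ⟨s, hs, es⟩ := h.range (c3, 1) c3_three.2.2 (map_one _)
  have csu : Commute (π s) (π u) := by rw [es, eu]; exact Prod.ext (by simp) (by simp)
  -- a preimage of `(c3, 1)` commuting with `u`
  obtain ⟨s', hs', es', hs'u⟩ : ∃ s', Commute s' z ∧ π s' = (c3, 1) ∧ Commute s' u := by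
    set c := u⁻¹ * (s * u * s⁻¹) with hc
    have hcQ : c ∈ Q := h.mem_of_pi_eq huz (h.conj_comm hs huz)
      (by rw [h.pi_conj hs huz, csu.eq, mul_inv_cancel_right])
    have hui : u⁻¹ = u := inv_eq_of_mul_eq_one_right (h.u_sq P.eq)
    have e1 : u * c * u⁻¹ = c⁻¹ := by
      rw [hc, mul_inv_rev, inv_inv]
      calc u * (u⁻¹ * (s * u * s⁻¹)) * u⁻¹ = (s * u * s⁻¹) * u⁻¹ := by group
        _ = (s * u⁻¹ * s⁻¹) * u := by rw [hui]
        _ = (s * u * s⁻¹)⁻¹ * u := by group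
    have hcK : c ∈ KK Q u := (h.mem_K huz).2 ⟨hcQ, by rw [e1, h.bar_inv' hcQ]⟩
    obtain ⟨q, hq, e | e⟩ := h.exists_comm_of_R huz (hKR.le hcK)
    all_goals
      have hconj : s * u * s⁻¹ = u * c := by rw [hc, mul_inv_cancel_left]
      have hquq : q * u * q⁻¹ = u * ⁅u, q⁆ := by
        calc q * u * q⁻¹ = (u * u) * q * u * q⁻¹ := by rw [h.u_sq P.eq, one_mul]
          _ = u * ⁅u, q⁆ := by rw [commutatorElement_def, hui]; group
      have eπ : π (q⁻¹ * s) = (c3, 1) := by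
        rw [h.map_mul _ _ (h.cz hq).inv_left hs, h.pi_mem (inv_mem hq), one_mul, es]
    · refine ⟨q⁻¹ * s, (h.cz hq).inv_left.mul_left hs, eπ, ?_⟩
      show q⁻¹ * s * u = u * (q⁻¹ * s)
      calc q⁻¹ * s * u = q⁻¹ * (s * u * s⁻¹) * s := by group
        _ = q⁻¹ * (q * u * q⁻¹) * s := by rw [hconj, e, hquq]
        _ = u * (q⁻¹ * s) := by group
    · exfalso
      set w := q⁻¹ * s with hw
      have hwz : Commute w z := (h.cz hq).inv_left.mul_left hs
      have ew : w * u * w⁻¹ = u * z := by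
        calc w * u * w⁻¹ = q⁻¹ * (s * u * s⁻¹) * q := by rw [hw]; group
          _ = q⁻¹ * (q * u * q⁻¹ * z) * q := by rw [hconj, e, hquq]; group
          _ = u * (q⁻¹ * z * q) := by group
          _ = u * z := by rw [mul_assoc, ← (h.cz hq).eq, inv_mul_cancel_left]
      have ew2 : w * (u * z) * w⁻¹ = u := by
        calc w * (u * z) * w⁻¹ = (w * u * w⁻¹) * (w * z * w⁻¹) := by group
          _ = u := by rw [ew, hwz.eq, mul_inv_cancel_right, mul_assoc, h.zz, mul_one]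
      have hW : w * w * w ∈ Q := (h.ker _ ((hwz.mul_left hwz).mul_left hwz)).1 (by
        rw [h.map_mul _ _ (hwz.mul_left hwz) hwz, h.map_mul _ _ hwz hwz, eπ, Prod.mk_mul_mk,
          Prod.mk_mul_mk, c3_three.1, one_mul, one_mul]; rfl)
      have ephi : ⁅u, w * w * w⁆ = z := by
        have e3 : (w * w * w) * u * (w * w * w)⁻¹ = u * z := by
          calc (w * w * w) * u * (w * w * w)⁻¹ = w * (w * (w * u * w⁻¹) * w⁻¹) * w⁻¹ := by group
            _ = u * z := by rw [ew, ew2, ew]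
        calc ⁅u, w * w * w⁆ = u * ((w * w * w) * u⁻¹ * (w * w * w)⁻¹) := by
              rw [commutatorElement_def]; group
          _ = z := by rw [hui, e3, ← mul_assoc, h.u_sq P.eq, one_mul]
      have hWC : w * w * w ∈ CQ Q u :=
        hCR.ge (hKR.le ((h.comm_mem_Z_iff huz hW).1 (ephi ▸ mem_zpowers z)))
      rw [commutatorElement_eq_one_iff_commute.2 (mem_CQ.1 hWC).2.symm] at ephi
      exact h.z_ne ephi.symm
  have hKs' := T.Ks s' hs' es'
  have hN2 : Nat.card ↥(Q ⊓ UU Q g) ≠ 2 := by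
    intro h2
    obtain ⟨n, hn, huniq⟩ := (Nat.card_eq_two_iff' (1 : ↥(Q ⊓ UU Q g))).1 h2
    have hn' : s' * n.1 * s'⁻¹ ∈ Q ⊓ UU Q g :=
      mem_inf.2 ⟨h.conjQ hs' n.2.1, h.UU_stab P.eq hs'u n.2.2⟩
    have hne : (⟨_, hn'⟩ : ↥(Q ⊓ UU Q g)) ≠ 1 := fun e => hn (Subtype.ext (by
      have := congrArg Subtype.val e
      simpa using this))
    have e : s' * n.1 * s'⁻¹ = n.1 := congrArg Subtype.val (huniq _ hne)
    rcases h.mem_Z.1 (hKs' ((h.mem_K hs').2 ⟨n.2.1, by rw [e]⟩)) with r | r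
    · exact hn (Subtype.ext r)
    · exact h.z_notin_U ho P.toPair (r ▸ n.2.2)
  -- the image of `C_U(z)`
  set A := UU Q g ⊓ centralizer {z} with hA
  have hAz : ∀ a ∈ A, Commute a z := fun a ha => mem_centralizer_singleton_iff.1 ha.2
  have hone : (1 : G) * z * 1⁻¹ = z := by group
  have hsq : ∀ x ∈ A, x * x = 1 := by
    intro x hx
    have := h.flat_R huz hflat (hCR.le (h.swap_surj P hx.1 (hAz x hx)))
    calc x * x = g⁻¹ * ((g * x * g⁻¹) * (g * x * g⁻¹)) * g := by group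
      _ = 1 := by rw [this]; group
  have himg_sq : ∀ p ∈ img π 1 A, p * p = 1 := by
    intro p hp
    obtain ⟨x, hx, rfl⟩ := (h.mem_img hone hAz).1 hp
    rw [h.pu_self, ← h.map_mul _ _ (hAz x hx) (hAz x hx), hsq x hx, h.pi_one]
  have hfirst : ∀ p ∈ img π 1 A, p.1 = 1 := by
    intro p hp
    have hp2 := himg_sq p hp
    obtain ⟨x, hx, rfl⟩ := (h.mem_img hone hAz).1 hp
    rw [h.pu_self] at hp2 ⊢
    refine (p3_inv_or _ (congrArg Prod.fst hp2)).resolve_right fun hodd => ?_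
    have := h.odd_no_fix (H := RR Q u) (hAz x hx) hs' es' hodd hKs'
      (fun r hr => (h.mem_K (hAz x hx)).2 ⟨h.R_le u hr, by
        rw [(h.bal_all_triv ho P.toPair B hN2 hx.1 (hAz x hx) r hr).eq, mul_inv_cancel_right]⟩)
      (fun r hr => h.R_stab hs' huz (by rw [es', eu]; exact Prod.ext (by simp) (by simp)) hr)
    have := card_le_of_le this
    rw [h32, h.Z_card] at this
    omega
  have hJ := one_card_le himg_sq hfirst
  have hAimg := h.img_card hone (A := A) hAz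
  have hANle : Nat.card ↥(A ⊓ UU Q 1) ≤ Nat.card ↥(Q ⊓ UU Q g) :=
    card_le_of_le fun w hw => mem_inf.2 ⟨(h.UU_one).le hw.2, hw.1.1⟩
  rw [h.A_card P, hCR, h32] at hAimg
  have hN4 := h.bal_N_le ho P.toPair B
  -- `π` at `u` of `s'`
  set a' := pu π g s' with ha'
  have hy : Commute (g⁻¹ * s' * g) z := h.to_z P.eq hs'u
  have hcomm : Commute a' (π u) := by
    have hyu : Commute (g⁻¹ * s' * g) u := by
      have := h.from_z (u := u) (g := g⁻¹) (by rw [inv_inv]; exact P.back) hs'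
      rwa [inv_inv] at this
    show π (g⁻¹ * s' * g) * π u = π u * π (g⁻¹ * s' * g)
    rw [← h.map_mul _ _ hy huz, ← h.map_mul _ _ huz hy, hyu.eq]
  have hW : s' * s' * s' ∈ Q := (h.ker _ ((hs'.mul_left hs').mul_left hs')).1 (by
    rw [h.map_mul _ _ (hs'.mul_left hs') hs', h.map_mul _ _ hs' hs', es', Prod.mk_mul_mk,
      Prod.mk_mul_mk, c3_three.1, one_mul, one_mul]; rfl)
  have hWC : s' * s' * s' ∈ CQ Q u := mem_CQ.2 ⟨hW, (hs'u.mul_left hs'u).mul_left hs'u⟩
  have ha6 : a' * a' * (a' * a') * (a' * a') = 1 := by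
    have e3 : pu π g (s' * s' * s') = a' * a' * a' := by
      rw [h.pu_mul P.eq (hs'u.mul_left hs'u) hs'u, h.pu_mul P.eq hs'u hs'u]
    have e4 : pu π g (s' * s' * s') * pu π g (s' * s' * s') = 1 := by
      rw [← h.pu_mul P.eq (mem_CQ.1 hWC).2 (mem_CQ.1 hWC).2, h.flat_R huz hflat (hCR.le hWC)]
      exact (h.pu_one_iff P.eq (Commute.one_left u)).2 (one_mem _)
    rw [e3] at e4
    simpa only [mul_assoc] using e4
  have hcomm2 := hcomm.mul_left hcomm
  have hr2 : (a' * a').2 = 1 := dt_three f hf _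
    (by
      have := congrArg Prod.snd hcomm2.eq.symm
      rw [eu] at this
      exact this)
    (congrArg Prod.snd ha6)
  have hS2 : Commute (s' * s') z := hs'.mul_left hs'
  have hS2u : Commute (s' * s') u := hs'u.mul_left hs'u
  have hstep : ∀ c0 ∈ RR Q u, ⁅s' * s', c0⁆ ∈ (Q ⊓ UU Q g) ⊔ zpowers z := by
    intro c0 hc0
    obtain ⟨hc0Q, hc0u⟩ := mem_CQ.1 (hCR.ge hc0)
    obtain ⟨hxA, hxπ⟩ := h.swap_mem P (hCR.ge hc0)
    have hp1 : (pu π g c0).1 = 1 :=
      hfirst _ ((h.mem_img hone hAz).2 ⟨_, hxA, h.pu_self.trans hxπ⟩)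
    have hcomm0 : Commute (a' * a') (pu π g c0) := by
      refine Prod.ext ?_ ?_
      · show (a' * a').1 * (pu π g c0).1 = (pu π g c0).1 * (a' * a').1
        rw [hp1, mul_one, one_mul]
      · show (a' * a').2 * (pu π g c0).2 = (pu π g c0).2 * (a' * a').2
        rw [hr2, one_mul, mul_one]
    refine mem_sup_left (mem_inf.2 ⟨h.commQ hS2 hc0Q, ?_⟩)
    have hcu : Commute ⁅s' * s', c0⁆ u := by
      rw [commutatorElement_def]
      exact ((hS2u.mul_left hc0u).mul_left hS2u.inv_left).mul_left hc0u.inv_left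
    rw [← h.pu_one_iff P.eq hcu]
    have e1 : ⁅s' * s', c0⁆ * (c0 * (s' * s')) = s' * s' * c0 := by
      rw [commutatorElement_def]; group
    have e2 := congrArg (pu π g) e1
    rw [h.pu_mul P.eq hcu (hc0u.mul_left hS2u), h.pu_mul P.eq hc0u hS2u,
      h.pu_mul P.eq hS2u hc0u, h.pu_mul P.eq hs'u hs'u, ← ha', ← hcomm0.eq] at e2
    exact mul_eq_right.1 e2
  have h1 := h.two_mul_le hS2 (h.R_le u) (h.z_mem_R huz) (mem_sup_right (mem_zpowers z)) hstep
  have hK2 : KK Q (s' * s') ≤ zpowers z := by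
    rw [h.K_congr hS2 hs'.inv_left (by
      rw [h.map_mul _ _ hs' hs', h.pi_inv hs', es', Prod.mk_mul_mk, one_mul, Prod.inv_mk, inv_one,
        show c3 * c3 = c3⁻¹ from eq_inv_of_mul_eq_one_left c3_three.1]), h.K_inv hs']
    exact hKs'
  have h2 : Nat.card ↥(KK Q (s' * s') ⊓ RR Q u) ≤ 2 :=
    h.Z_card ▸ card_le_of_le (inf_le_left.trans hK2)
  have h3 : Nat.card ↥((Q ⊓ UU Q g) ⊔ zpowers z) ≤ Nat.card ↥(Q ⊓ UU Q g) * 2 := by
    rw [← h.Z_card, ← Nat.card_prod]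
    refine Nat.card_le_card_of_surjective (fun t : ↥(Q ⊓ UU Q g) × zpowers z =>
      (⟨t.1 * t.2, mul_mem (mem_sup_left t.1.2) (mem_sup_right t.2.2)⟩ :
        ↥((Q ⊓ UU Q g) ⊔ zpowers z))) ?_
    rintro ⟨w, hw⟩
    obtain ⟨a, ha, b, hb, rfl⟩ := h.mem_sup_prod inf_le_left (h.Z_le h.memZ) (mem_zpowers z) hw
    exact ⟨(⟨a, ha⟩, ⟨b, hb⟩), rfl⟩
  rw [h32] at h1
  have := h1.trans (Nat.mul_le_mul h3 h2)
  omega

theorem CQ_abelian (hshape : ShapeT z Q π ∨ ShapeS z Q π) {u g : G} (P : SPair z u g) :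
    ∀ a ∈ CQ Q u, ∀ b ∈ CQ Q u, Commute a b := by
  intro a ha b hb
  by_contra hne
  obtain ⟨haQ, hau⟩ := mem_CQ.1 ha
  obtain ⟨hbQ, hbu⟩ := mem_CQ.1 hb
  have e : a * b = b * a * z := h.comm_z haQ hbQ hne
  have e2 := congrArg (pu π g) e
  have hzu : Commute z u := P.comm.symm
  rw [h.pu_mul P.eq hau hbu, h.pu_mul P.eq (hbu.mul_left hau) hzu, h.pu_mul P.eq hbu hau,
    show pu π g z = π u by rw [pu, P.back]] at e2
  have hs : sgn (π u) = 1 := by
    have := congrArg sgn e2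
    rw [_root_.map_mul, _root_.map_mul, _root_.map_mul, mul_comm (sgn (pu π g b))] at this
    exact (mul_eq_left.1 this.symm)
  have h2 : π u * π u = 1 := by rw [← h.map_mul _ _ P.comm P.comm, h.u_sq P.eq, h.pi_one]
  obtain ⟨e1, e3⟩ := even_even h2 (fun r => ho u g P.toPair ((h.ker u P.comm).1 r)) hs
  exact h.no_dt ho hshape P e3 (Prod.ext e1 rfl)

theorem no_big (hshape : ShapeT z Q π ∨ ShapeS z Q π) {u g : G} (P : SPair z u g)
    {B : Subgroup G} (hB : B ≤ CQ Q u) (hsq : ∀ b ∈ B, b * b = 1) (hbot : B ⊓ UU Q g = ⊥)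
    (h8 : 8 ≤ Nat.card B) (hphi : ∀ b ∈ B, ∃ q ∈ Q, b = ⁅u, q⁆) : False := by
  have hBu : ∀ b ∈ B, Commute b u := fun b hb => (mem_CQ.1 (hB hb)).2
  have hc := h.img_card (π := π) P.eq hBu
  rw [hbot, Subgroup.card_bot, mul_one] at hc
  obtain ⟨f, hf, hmem⟩ := exists_dt (A := img π g B) (fun p hp => by
    obtain ⟨b, hb, rfl⟩ := (h.mem_img P.eq hBu).1 hp
    rw [← h.pu_mul P.eq (hBu b hb) (hBu b hb), hsq b hb]
    exact (h.pu_one_iff P.eq (Commute.one_left u)).2 (one_mem _)) (hc ▸ h8)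
  obtain ⟨b, hb, eb⟩ := (h.mem_img P.eq hBu).1 hmem
  obtain ⟨q, hq, rfl⟩ := hphi b hb
  have hne : ⁅u, q⁆ ≠ 1 := fun e => hf.2.1 (by
    rw [e, (h.pu_one_iff P.eq (Commute.one_left u)).2 (one_mem _)] at eb
    exact (congrArg Prod.snd eb).symm)
  obtain ⟨u', g', hS, e'⟩ := h.newPair P.toPair hq (hBu _ hb) hne
  exact h.no_dt ho hshape hS hf (e'.trans eb)

theorem spair_bal (hshape : ShapeT z Q π ∨ ShapeS z Q π) {u g : G} (P : SPair z u g) : Bal Q u := by
  have huz := P.comm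
  have h2 : π u * π u = 1 := by rw [← h.map_mul _ _ huz huz, h.u_sq P.eq, h.pi_one]
  have hab := h.CQ_abelian ho hshape P
  have hRK := h.R_le_K huz h2
  have hRKc := h.RK_card huz
  have hK2 := h.K_le_two P.toPair
  have hzC : z ∈ CQ Q u := mem_CQ.2 ⟨h.memZ, huz.symm⟩
  have hC32 := h.abelian_card (A := CQ Q u) inf_le_left hzC hab
  have hNR : ∀ {c : G}, c ∈ KK Q u → ⁅u, c⁆ = z → ∀ {B : Subgroup G}, B ≤ RR Q u →
      B ⊓ UU Q g = ⊥ := by
    intro c hc ec B hB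
    refine (Subgroup.eq_bot_iff_forall _).2 fun n hn => ?_
    obtain ⟨q, hq, rfl⟩ := h.R_phi P.toPair hc ec n (hB hn.1)
    exact h.phi_rule ho P.toPair hq hn.2
  by_cases hfl : Flat Q u
  · have hRC : RR Q u ≤ CQ Q u := by
      intro r hr
      refine mem_CQ.2 ⟨h.R_le u hr, ?_⟩
      obtain ⟨q, hq, e | e⟩ := h.exists_comm_of_R huz hr <;> rw [e]
      · exact (h.phi_comm_iff P.eq).2 (hfl q hq)
      · exact ((h.phi_comm_iff P.eq).2 (hfl q hq)).mul_left huz.symm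
    obtain ⟨k, hk, ek⟩ := h.card_pow (h.R_le u)
    have hR32 := (card_le_of_le hRC).trans hC32
    by_cases h32 : Nat.card (RR Q u) = 32
    · have hKR : KK Q u = RR Q u := (eq_of_le_of_card_ge hRK (by nlinarith)).symm
      exact ⟨hfl, hKR, h32, le_antisymm ((h.CQ_le_K P.toPair).trans hKR.le) hRC⟩
    exfalso
    have hk4 : k ≤ 4 := by
      by_contra hk4
      have := Nat.pow_le_pow_right two_pos (show 5 ≤ k by omega)
      omega
    have hR16 := Nat.pow_le_pow_right two_pos hk4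
    have h16 : Nat.card (RR Q u) = 16 := by nlinarith
    have hK64 : Nat.card (KK Q u) = 64 := by rw [h16] at hRKc; omega
    obtain ⟨c, hc, hcC⟩ : ∃ c ∈ KK Q u, c ∉ CQ Q u := SetLike.not_le_iff_exists.1 fun hle => by
      have := card_le_of_le hle
      omega
    have ec : ⁅u, c⁆ = z := by
      refine (h.mem_Z.1 ((h.comm_mem_Z_iff huz (h.K_le u hc)).2 hc)).resolve_left fun e => hcC ?_
      exact mem_CQ.2 ⟨h.K_le u hc, (commutatorElement_eq_one_iff_commute.1 e).symm⟩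
    exact h.no_big ho hshape P hRC (fun b hb => h.flat_R huz hfl hb) (hNR hc ec le_rfl) (by omega)
      (h.R_phi P.toPair hc ec)
  exfalso
  simp only [Flat, not_forall] at hfl
  obtain ⟨q, hq, hne⟩ := hfl
  set c := ⁅u, q⁆ with hc
  have hcR : c ∈ RR Q u := h.comm_mem_R huz hq
  have hcQ := h.R_le u hcR
  have hcK := hRK hcR
  have ecz : c * c = z := (h.sq c hcQ).resolve_left hne
  have ephi : ⁅u, c⁆ = z := by
    rw [commutatorElement_def u c, h.u_phi (q := q) P.eq, ← hc]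
    calc c⁻¹ * c⁻¹ = (c * c)⁻¹ := (mul_inv_rev c c).symm
      _ = z := by rw [ecz, h.zinv]
  have hcu : ¬ Commute c u := fun e => hne ((h.phi_comm_iff P.eq).1 e)
  have hsplit : ∀ k ∈ KK Q u, k ∈ CQ Q u ∨ c⁻¹ * k ∈ CQ Q u := by
    intro k hk
    have hmove : ∀ k ∈ KK Q u, ¬ Commute k u → u * k * u⁻¹ = k * z := by
      intro k hk hku
      refine (h.bar_eq' (h.K_le u hk) (h.conjQ huz (h.K_le u hk))
        ((h.mem_K huz).1 hk).2.symm).resolve_left fun e => hku ?_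
      show k * u = u * k
      rw [← mul_inv_eq_iff_eq_mul.1 e]
    by_cases hku : Commute k u
    · exact Or.inl (mem_CQ.2 ⟨h.K_le u hk, hku⟩)
    · refine Or.inr (mem_CQ.2 ⟨mul_mem (inv_mem hcQ) (h.K_le u hk), ?_⟩)
      show c⁻¹ * k * u = u * (c⁻¹ * k)
      refine (mul_inv_eq_iff_eq_mul.1 ?_).symm
      rw [show u * (c⁻¹ * k) * u⁻¹ = (u * c * u⁻¹)⁻¹ * (u * k * u⁻¹) by group,
        hmove c hcK hcu, hmove k hk hku,
        mul_inv_rev, h.zinv, ← mul_assoc, mul_assoc z c⁻¹ k,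
        ← (h.cz (mul_mem (inv_mem hcQ) (h.K_le u hk))).eq, mul_assoc, h.zz, mul_one]
  have hKab : ∀ a ∈ KK Q u, ∀ b ∈ KK Q u, Commute a b := by
    intro a ha b hb
    have hcc : ∀ k ∈ KK Q u, Commute c k := fun k hk => h.commute_R_K huz hcR hk
    have key : ∀ a0 ∈ CQ Q u, ∀ k ∈ KK Q u, Commute a0 k := by
      intro a0 ha0 k hk
      rcases hsplit k hk with r | r
      · exact hab a0 ha0 k r
      · have := (hcc a0 (h.CQ_le_K P.toPair ha0)).symm.mul_right (hab a0 ha0 _ r)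
        rwa [mul_inv_cancel_left] at this
    rcases hsplit a ha with r | r
    · exact key a r b hb
    · have := (hcc b hb).mul_left (key _ r b hb)
      rwa [mul_inv_cancel_left] at this
  have hKR : KK Q u = RR Q u := by
    refine le_antisymm (fun k hk => ?_) hRK
    rw [h.R_eq_perp huz]
    exact mem_perp.2 ⟨h.K_le u hk, hKab k hk⟩
  have hR32 : Nat.card (RR Q u) = 32 := by
    rw [hKR] at hRKc
    nlinarith
  have hCle : CQ Q u ≤ RR Q u := (h.CQ_le_K P.toPair).trans hKR.le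
  have h16 : 16 ≤ Nat.card (CQ Q u) := by
    rw [hKR, hR32] at hK2
    omega
  refine h.no_big ho hshape P le_rfl (fun b hb => ?_) (hNR hcK ephi hCle) (by omega)
    (fun b hb => h.R_phi P.toPair hcK ephi b (hCle hb))
  obtain ⟨q', hq', rfl⟩ := h.R_phi P.toPair hcK ephi b (hCle hb)
  exact (h.phi_comm_iff P.eq).1 (mem_CQ.1 hb).2

theorem spair_odd (hshape : ShapeT z Q π ∨ ShapeS z Q π) {u g : G} (P : SPair z u g) :
    (π u).1 = 1 ∧ Equiv.Perm.sign (π u).2 = -1 := by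
  have B := h.spair_bal ho hshape P
  have huz := P.comm
  set A := UU Q g ⊓ centralizer {z} with hA
  set A' := A ⊓ centralizer (RR Q u : Set G) with hA'
  have hAz : ∀ a ∈ A, Commute a z := fun a ha => mem_centralizer_singleton_iff.1 ha.2
  have hone : (1 : G) * z * 1⁻¹ = z := by group
  have hA'z : ∀ a ∈ A', Commute a z := fun a ha => hAz a ha.1
  have htriv : ∀ x ∈ A, (∀ r ∈ RR Q u, Commute x r) → x ∈ A' := fun x hx hr =>
    mem_inf.2 ⟨hx, mem_centralizer_iff.2 fun r hrr => (hr r hrr).eq.symm⟩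
  have hsq : ∀ x ∈ A', x * x = 1 := by
    intro x hx
    have := h.flat_R huz B.flat (B.CR.le (h.swap_surj P hx.1.1 (hA'z x hx)))
    calc x * x = g⁻¹ * ((g * x * g⁻¹) * (g * x * g⁻¹)) * g := by group
      _ = 1 := by rw [this]; group
  have hNA : Nat.card ↥(A' ⊓ UU Q 1) ≤ Nat.card ↥(Q ⊓ UU Q g) :=
    card_le_of_le fun w hw => mem_inf.2 ⟨(h.UU_one).le hw.2, hw.1.1.1⟩
  have hN4 := h.bal_N_le ho P.toPair B
  have hA32 : Nat.card A = 32 := by rw [h.A_card P, B.CR, B.card]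
  have hA'card : 8 * Nat.card ↥(Q ⊓ UU Q g) ≤ Nat.card A' := by
    by_cases hN2 : Nat.card ↥(Q ⊓ UU Q g) = 2
    · rw [hN2]
      obtain ⟨n, hn, huniq⟩ := (Nat.card_eq_two_iff' (1 : ↥(Q ⊓ UU Q g))).1 hN2
      have hcases : ∀ x ∈ A, ∀ q ∈ Q,
          Commute x ⁅u, q⁆ ∨ (x * ⁅u, q⁆ * x⁻¹ = ⁅u, q⁆ * n ∧ ¬ Commute q n) := by
        intro x hx q hq
        obtain ⟨m, hm, hmU, e, hm0⟩ := h.bal_moved ho P.toPair B hx.1 (hAz x hx) hq
        by_cases hm1 : m = 1
        · rw [hm1, mul_one, mul_inv_eq_iff_eq_mul] at e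
          exact Or.inl e
        · have emn : m = n := congrArg Subtype.val
            (huniq ⟨m, mem_inf.2 ⟨hm, hmU⟩⟩ fun r => hm1 (congrArg Subtype.val r))
          exact Or.inr ⟨emn ▸ e, fun hc => hm1 (hm0 (emn ▸ hc))⟩
      have hNfix : ∀ x ∈ A, Commute x (n : G) := fun x hx =>
        h.N_fix ho P.toPair n.2.1 n.2.2 hx.1 (hAz x hx)
      by_cases hex : ∃ q0 ∈ Q, ¬ Commute q0 (n : G)
      swap
      · push Not at hex
        have : A ≤ A' := fun x hx => htriv x hx (h.bal_triv ho P.toPair (hAz x hx) fun q hq =>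
          (hcases x hx q hq).resolve_right fun r => r.2 (hex q hq))
        have := card_le_of_le this
        omega
      obtain ⟨q0, hq0, hq0n⟩ := hex
      have hcrit : ∀ x ∈ A, Commute x ⁅u, q0⁆ → x ∈ A' := by
        intro x hx hx0
        refine htriv x hx (h.bal_triv ho P.toPair (hAz x hx) fun q hq => ?_)
        rcases hcases x hx q hq with r | ⟨-, hqn⟩
        · exact r
        have hc : Commute (q0 * q) (n : G) := by
          rw [h.commute_mul hq0 hq n.2.1]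
          exact ⟨fun r => absurd r hq0n, fun r => absurd r hqn⟩
        have h1 : Commute x ⁅u, q0 * q⁆ :=
          (hcases x hx _ (mul_mem hq0 hq)).resolve_right fun r => r.2 hc
        rw [h.phi_mul] at h1
        have h2 := hx0.inv_right.mul_right h1
        rw [inv_mul_cancel_left] at h2
        -- `h2 : Commute x (q0 φq q0⁻¹)`
        rcases h.comm q0 hq0 _ (h.commQ huz hq) with r | r
        · rwa [r, mul_inv_cancel_right] at h2
        · rw [r, mul_assoc (⁅u, q⁆ * q0) z q0⁻¹, ← ((h.cz hq0).inv_left).eq, ← mul_assoc,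
            mul_inv_cancel_right] at h2
          have := h2.mul_right (hAz x hx)
          rwa [mul_assoc, h.zz, mul_one] at this
      by_cases hall : ∀ x ∈ A, Commute x ⁅u, q0⁆
      · have := card_le_of_le (fun x hx => hcrit x hx (hall x hx) : A ≤ A')
        omega
      push Not at hall
      obtain ⟨x0, hx0, hx0c⟩ := hall
      classical
      have hkey : ∀ x : A,
          (if Commute (x : G) ⁅u, q0⁆ then (x : G) else x0⁻¹ * x) ∈ A' := by
        intro x
        split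
        · exact hcrit x x.2 ‹_›
        · refine hcrit _ (mul_mem (inv_mem hx0) x.2) ?_
          have e0 := ((hcases x0 hx0 q0 hq0).resolve_left hx0c).1
          have e1 := ((hcases x x.2 q0 hq0).resolve_left ‹_›).1
          show x0⁻¹ * (x : G) * ⁅u, q0⁆ = ⁅u, q0⁆ * (x0⁻¹ * x)
          rw [← mul_inv_eq_iff_eq_mul,
            show x0⁻¹ * (x : G) * ⁅u, q0⁆ * (x0⁻¹ * x)⁻¹ = x0⁻¹ * ((x : G) * ⁅u, q0⁆ * (x : G)⁻¹) * x0
              by group, e1, ← e0]
          group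
      have := (Nat.card_le_card_of_injective (β := Bool × A')
        (fun x : A => (decide (Commute (x : G) ⁅u, q0⁆), ⟨_, hkey x⟩)) (by
          intro x y e
          simp only [Prod.mk.injEq, decide_eq_decide, Subtype.mk.injEq] at e
          obtain ⟨e1, e2⟩ := e
          by_cases hx : Commute (x : G) ⁅u, q0⁆
          · rw [if_pos hx, if_pos (e1.1 hx)] at e2; exact Subtype.ext e2
          · rw [if_neg hx, if_neg (fun hy => hx (e1.2 hy))] at e2
            exact Subtype.ext (mul_left_cancel e2))).trans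
        (le_of_eq (by rw [Nat.card_prod]; simp : Nat.card (Bool × A') = 2 * Nat.card A'))
      omega
    · have : A ≤ A' := fun x hx =>
        htriv x hx (h.bal_all_triv ho P.toPair B hN2 hx.1 (hAz x hx))
      have := card_le_of_le this
      omega
  have hcard := h.img_card hone hA'z
  have himg : 8 ≤ Nat.card (img π 1 A') := by
    have h1 : Nat.card ↥(A' ⊓ UU Q 1) * 8 ≤ Nat.card (img π 1 A') * Nat.card ↥(A' ⊓ UU Q 1) := by
      rw [← hcard]
      omega
    rw [mul_comm (Nat.card (img π 1 A'))] at h1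
    exact Nat.le_of_mul_le_mul_left h1 Nat.card_pos
  obtain ⟨f, hf, hmem⟩ := exists_dt (A := img π 1 A') (fun p hp => by
    obtain ⟨x, hx, rfl⟩ := (h.mem_img hone hA'z).1 hp
    rw [h.pu_self, ← h.map_mul _ _ (hA'z x hx) (hA'z x hx), hsq x hx, h.pi_one]) himg
  obtain ⟨x, hx, ex⟩ := (h.mem_img hone hA'z).1 hmem
  rw [h.pu_self] at ex
  have hxz := hA'z x hx
  have hRKx : RR Q u ≤ KK Q x := fun r hr => (h.mem_K hxz).2 ⟨h.R_le u hr, by
    rw [← (mem_centralizer_iff.1 hx.2 r hr), mul_inv_cancel_right]⟩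
  have hRx : RR Q x ≤ RR Q u := by
    rw [h.R_eq_perp hxz]
    refine (perp_anti hRKx).trans (le_of_eq ?_)
    rw [← h.K_eq_perp huz, B.KR]
  rcases hshape with T | S
  swap
  · exact absurd (h.flat_of_R hxz fun w hw => h.flat_R huz B.flat (hRx hw)) (S.dt x f hxz ex hf).2.2
  have hReq : RR Q x = RR Q u :=
    eq_of_le_of_card_ge hRx (by rw [B.card, (T.dt x f hxz ex hf).2.1])
  obtain ⟨s, hs, es⟩ := h.range (c3, 1) c3_three.2.2 (map_one _)
  have h2 : π u * π u = 1 := by rw [← h.map_mul _ _ huz huz, h.u_sq P.eq, h.pi_one]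
  have e1 : (π u).1 = 1 := by
    refine (p3_inv_or _ (congrArg Prod.fst h2)).resolve_right fun hodd => ?_
    have := card_le_of_le (h.odd_no_fix (H := RR Q u) huz hs es hodd (T.Ks s hs es)
      (h.R_le_K huz h2) fun r hr => by
        rw [← hReq] at hr ⊢
        exact h.R_stab hs hxz (by rw [es, ex]; exact Prod.ext (by simp) (by simp)) hr)
    rw [B.card, h.Z_card] at this
    omega
  refine ⟨e1, (Int.units_eq_one_or _).resolve_left fun hs2 => ?_⟩
  refine h.no_dt ho (Or.inl T) P (f := (π u).2) ⟨congrArg Prod.snd h2, fun e2 => ?_, hs2⟩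
    (Prod.ext e1 rfl)
  exact ho u g P.toPair ((h.ker u huz).1 (Prod.ext e1 e2))

theorem outside_false (hshape : ShapeT z Q π ∨ ShapeS z Q π) {u₀ g₀ : G} (P₀ : Pair z u₀ g₀) :
    False := by
  obtain ⟨u, g, P⟩ := h.exists_spair P₀ (ho u₀ g₀ P₀)
  have B := h.spair_bal ho hshape P
  have huz := P.comm
  have hphiu : ∀ q ∈ Q, Commute ⁅u, q⁆ u := fun q hq => (h.phi_comm_iff P.eq).2 (B.flat q hq)
  have hpar : ∀ q ∈ Q, q ∉ RR Q u → ⁅u, q⁆ ≠ 1 ∧ Equiv.Perm.sign (pu π g ⁅u, q⁆).2 = -1 := by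
    intro q hq hqR
    have hne : ⁅u, q⁆ ≠ 1 := fun e => hqR (B.CR.le (mem_CQ.2
      ⟨hq, (commutatorElement_eq_one_iff_commute.1 e).symm⟩))
    obtain ⟨u', g', hS, e⟩ := h.newPair P.toPair hq (hphiu q hq) hne
    exact ⟨hne, e ▸ (h.spair_odd ho hshape hS).2⟩
  obtain ⟨q', hq', hq'R⟩ : ∃ q ∈ Q, q ∉ RR Q u := SetLike.not_le_iff_exists.1 fun hle => by
    have := card_le_of_le hle
    rw [h.card, B.card] at this
    omega
  set r := ⁅u, q'⁆ with hr
  have hrQ : r ∈ Q := h.commQ huz hq'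
  set H := zpowers r ⊔ zpowers z with hH
  have hHQ : H ≤ Q := sup_le (zpowers_le.2 hrQ) (h.Z_le h.memZ)
  have hH4 : Nat.card H ≤ 4 := by
    have hr2 : Nat.card (zpowers r) ≤ 2 := by
      rw [Nat.card_zpowers]
      refine orderOf_le_of_pow_eq_one two_pos ?_
      rw [pow_two]
      exact B.flat q' hq'
    refine le_trans ?_ ((Nat.mul_le_mul hr2 h.Z_card.le).trans (by norm_num) :
      Nat.card (zpowers r) * Nat.card (zpowers z) ≤ 4)
    rw [← Nat.card_prod]
    refine Nat.card_le_card_of_surjective (fun t : zpowers r × zpowers z =>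
      (⟨t.1 * t.2, mul_mem (mem_sup_left t.1.2) (mem_sup_right t.2.2)⟩ : H)) ?_
    rintro ⟨w, hw⟩
    obtain ⟨a, ha, b, hb, rfl⟩ :=
      h.mem_sup_prod (zpowers_le.2 hrQ) (h.Z_le h.memZ) (mem_zpowers z) hw
    exact ⟨(⟨a, ha⟩, ⟨b, hb⟩), rfl⟩
  have hW : 256 ≤ Nat.card (perp Q H) := by
    have := h.perp_card hHQ (mem_sup_right (mem_zpowers z))
    nlinarith
  classical
  obtain ⟨q, hqW, hqR, hqq'⟩ : ∃ q ∈ perp Q H, q ∉ RR Q u ∧ q * q' ∉ RR Q u := by
    by_contra hcon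
    push Not at hcon
    have h1 : Nat.card (perp Q H) ≤ Nat.card (Bool × RR Q u) := by
      refine Nat.card_le_card_of_injective
        (fun q : perp Q H => if hq : (q : G) ∈ RR Q u then (true, (⟨q, hq⟩ : RR Q u))
          else (false, ⟨(q : G) * q', hcon q q.2 hq⟩)) ?_
      intro a b e
      simp only at e
      split at e <;> split at e <;>
        simp only [Prod.mk.injEq, Subtype.mk.injEq, Bool.true_eq_false, Bool.false_eq_true,
          false_and, true_and] at e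
      · exact Subtype.ext e
      · exact Subtype.ext (mul_right_cancel e)
    simp [Nat.card_prod, B.card] at h1
    omega
  obtain ⟨hqQ, hqc⟩ := mem_perp.1 hqW
  have hc : Commute q r := hqc r (mem_sup_left (mem_zpowers r))
  have h1 := (hpar q hqQ hqR).2
  have h2 := (hpar q' hq' hq'R).2
  have h3 := (hpar (q * q') (mul_mem hqQ hq') hqq').2
  rw [h.phi_mul, ← hr, hc.eq, mul_inv_cancel_right,
    h.pu_mul P.eq (hphiu q hqQ) (hphiu q' hq'), Prod.snd_mul, _root_.map_mul, h1, h2] at h3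
  exact absurd h3 (by decide)

end outside

end Nine

end CfsgLib.ExtraNine
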