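import Cfsg.Agent.Lib.ExtraNine.Shapes

/-!
# Conjugates of `z` commuting with `z`, and small subgroups of `S₃ × S₆`
-/

set_option autoImplicit false
set_option linter.unusedSectionVars false
set_option linter.style.haveILetI false

namespace CfsgLib.ExtraNine

open Subgroup
open scoped commutatorElement

variable {G : Type*} [Group G]

/-- `u = gzg⁻¹` is a conjugate of `z` in `C(z) \ {z}`. -/
structure Pair (z u g : G) : Prop where
  eq : g * z * g⁻¹ = u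
  comm : Commute u z
  ne : u ≠ z

/-- A pair interchanged by conjugation. -/
structure SPair (z u g : G) : Prop extends Pair z u g where
  back : g⁻¹ * z * g = u

/-- `gQg⁻¹`, the subgroup `Q` at `u`. -/
def UU (Q : Subgroup G) (g : G) : Subgroup G := Q.map (MulAut.conj g).toMonoidHom

/-- `C_Q(u)`. -/
def CQ (Q : Subgroup G) (u : G) : Subgroup G := Q ⊓ centralizer {u}

/-- `π` at `u`. -/
def pu (π : G → GS) (g x : G) : GS := π (g⁻¹ * x * g)

/-- The image at `u` of a subgroup of `C(u)`. -/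
def img (π : G → GS) (g : G) (A : Subgroup G) : Subgroup GS :=
  closure (pu π g '' (A : Set G))

theorem mem_UU {Q : Subgroup G} {g w : G} : w ∈ UU Q g ↔ g⁻¹ * w * g ∈ Q := by
  constructor
  · rintro ⟨q, hq, rfl⟩
    show g⁻¹ * (g * q * g⁻¹) * g ∈ Q
    rwa [show g⁻¹ * (g * q * g⁻¹) * g = q by group]
  · intro hw
    exact ⟨_, hw, show g * (g⁻¹ * w * g) * g⁻¹ = w by group⟩

theorem mem_CQ {Q : Subgroup G} {u q : G} : q ∈ CQ Q u ↔ q ∈ Q ∧ Commute q u :=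
  ⟨fun hq => ⟨hq.1, mem_centralizer_singleton_iff.1 hq.2⟩,
    fun hq => ⟨hq.1, mem_centralizer_singleton_iff.2 hq.2⟩⟩

/-! ### Small subgroups of `S₃ × S₆` -/

theorem card_GS : Nat.card GS = 4320 := by
  rw [Nat.card_prod, Nat.card_perm, Nat.card_perm, Nat.card_fin, Nat.card_fin]
  rfl

theorem exp_two_card {A : Subgroup GS} (hA : ∀ a ∈ A, a * a = 1) :
    ∃ k ≤ 5, Nat.card A = 2 ^ k := by
  haveI : Fact (Nat.Prime 2) := ⟨Nat.prime_two⟩
  have hp : IsPGroup 2 A := fun a => ⟨1, Subtype.ext (by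
    show (a : GS) ^ (2 ^ 1) = 1
    rw [pow_one, pow_two]; exact hA a a.2)⟩
  obtain ⟨k, hk⟩ := IsPGroup.iff_card.1 hp
  refine ⟨k, ?_, hk⟩
  have h1 := A.card_subgroup_dvd_card
  rw [hk, card_GS] at h1
  by_contra hlt
  have h2 : 2 ^ 6 ∣ 4320 := (pow_dvd_pow 2 (show 6 ≤ k by omega)).trans h1
  norm_num at h2

theorem exp_two_comm {A : Subgroup GS} (hA : ∀ a ∈ A, a * a = 1) :
    ∀ a ∈ A, ∀ b ∈ A, a * b = b * a := by
  intro a ha b hb
  calc a * b = (a * b)⁻¹ := (inv_eq_of_mul_eq_one_right (hA _ (mul_mem ha hb))).symm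
    _ = b * a := by
      rw [mul_inv_rev, inv_eq_of_mul_eq_one_right (hA a ha), inv_eq_of_mul_eq_one_right (hA b hb)]

/-- The parities. -/
def sgn : GS →* ℤˣ × ℤˣ :=
  (Equiv.Perm.sign.comp (MonoidHom.fst _ _)).prod (Equiv.Perm.sign.comp (MonoidHom.snd _ _))

theorem sgn_apply (p : GS) : sgn p = (Equiv.Perm.sign p.1, Equiv.Perm.sign p.2) := rfl

theorem even_even {p : GS} (hp : p * p = 1) (h1 : p ≠ 1) (hs : sgn p = 1) :
    p.1 = 1 ∧ IsDt p.2 := by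
  have e1 : p.1 = 1 := p3_even_inv p.1 (congrArg Prod.fst hs) (congrArg Prod.fst hp)
  exact ⟨e1, congrArg Prod.snd hp, fun e2 => h1 (Prod.ext e1 e2), congrArg Prod.snd hs⟩

theorem sgn_split (A : Subgroup GS) :
    Nat.card A = Nat.card (A.map sgn) * Nat.card ↥(A ⊓ sgn.ker) := by
  set f : A →* ℤˣ × ℤˣ := sgn.comp A.subtype with hf
  have h1 := Subgroup.card_eq_card_quotient_mul_card_subgroup f.ker
  have h2 : Nat.card (A ⧸ f.ker) = Nat.card (A.map sgn) := by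
    rw [Nat.card_congr (QuotientGroup.quotientKerEquivRange f).toEquiv, hf, MonoidHom.range_comp,
      Subgroup.range_subtype]
  have h3 : Nat.card f.ker = Nat.card ↥(A ⊓ sgn.ker) :=
    Nat.card_congr
      { toFun := fun a => ⟨a.1.1, mem_inf.2 ⟨a.1.2, a.2⟩⟩
        invFun := fun a => ⟨⟨a.1, a.2.1⟩, a.2.2⟩
        left_inv := fun _ => rfl
        right_inv := fun _ => rfl }
  rw [h1, h2, h3]

theorem sgn_le_four (A : Subgroup GS) : Nat.card (A.map sgn) ≤ 4 := by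
  refine (Subgroup.card_le_card_group _).trans (le_of_eq ?_)
  rw [Nat.card_prod, Nat.card_eq_fintype_card, Fintype.card_units_int]

theorem exists_dt {A : Subgroup GS} (hA : ∀ a ∈ A, a * a = 1) (h8 : 8 ≤ Nat.card A) :
    ∃ f : P6, IsDt f ∧ (1, f) ∈ A := by
  have h1 := sgn_split A
  have h2 := sgn_le_four A
  have hne : A ⊓ sgn.ker ≠ ⊥ := fun e => by
    rw [e, Subgroup.card_bot] at h1
    omega
  obtain ⟨p, hp, hp1⟩ := (Subgroup.bot_or_exists_ne_one (A ⊓ sgn.ker)).resolve_left hne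
  obtain ⟨e1, e2⟩ := even_even (hA p hp.1) hp1 hp.2
  refine ⟨p.2, e2, ?_⟩
  rw [← e1]
  exact hp.1

theorem even_card_le {A : Subgroup GS} (hA : ∀ a ∈ A, a * a = 1) (hs : ∀ a ∈ A, sgn a = 1) :
    Nat.card A ≤ 4 := by
  rcases Subgroup.bot_or_exists_ne_one A with r | ⟨p, hp, hp1⟩
  · rw [r, Subgroup.card_bot]; omega
  obtain ⟨e1, e2⟩ := even_even (hA p hp) hp1 (hs p hp)
  have hfirst : ∀ a ∈ A, a.1 = 1 := fun a ha =>
    p3_even_inv _ (congrArg Prod.fst (hs a ha)) (congrArg Prod.fst (hA a ha))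
  classical
  have h6 : Nat.card A ≤ 6 := by
    refine le_trans (Nat.card_le_card_of_injective (β := {g : P6 // g ∈ Finset.univ.filter
        fun g : P6 => Equiv.Perm.sign g = 1 ∧ g * g = 1 ∧ p.2 * g = g * p.2})
      (fun a : A => ⟨(a : GS).2, ?_⟩) ?_) (le_of_eq ?_)
    · exact Finset.mem_filter.2 ⟨Finset.mem_univ _, congrArg Prod.snd (hs a a.2),
        congrArg Prod.snd (hA a a.2), congrArg Prod.snd (exp_two_comm hA p hp a a.2)⟩
    · intro a b e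
      exact Subtype.ext (Prod.ext ((hfirst a a.2).trans (hfirst b b.2).symm)
        (congrArg Subtype.val e))
    · rw [Nat.card_eq_fintype_card, Fintype.card_coe]
      exact dt_commute_count p.2 e2
  obtain ⟨k, hk, ek⟩ := exp_two_card hA
  rw [ek] at h6 ⊢
  interval_cases k <;> simp_all

theorem one_card_le {A : Subgroup GS} (hA : ∀ a ∈ A, a * a = 1) (h1 : ∀ a ∈ A, a.1 = 1) :
    Nat.card A ≤ 8 := by
  have e := sgn_split A
  have h4 := even_card_le (A := A ⊓ sgn.ker) (fun a ha => hA a ha.1) (fun a ha => ha.2)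
  have h2 : Nat.card (A.map sgn) ≤ 2 := by
    refine le_trans (Nat.card_le_card_of_injective (fun t : A.map sgn => (t : ℤˣ × ℤˣ).2) ?_)
      (le_of_eq (by rw [Nat.card_eq_fintype_card, Fintype.card_units_int]))
    rintro ⟨_, a, ha, rfl⟩ ⟨_, b, hb, rfl⟩ e
    refine Subtype.ext (Prod.ext ?_ e)
    show Equiv.Perm.sign a.1 = Equiv.Perm.sign b.1
    rw [h1 a ha, h1 b hb]
  rw [e]
  exact (Nat.mul_le_mul h2 h4).trans (by norm_num)

namespace Nine

variable {z : G} {Q : Subgroup G} {π : G → GS} (h : Nine z Q π)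
include h

theorem u_sq {u g : G} (he : g * z * g⁻¹ = u) : u * u = 1 := by
  rw [← he, show g * z * g⁻¹ * (g * z * g⁻¹) = g * (z * z) * g⁻¹ by group, h.zz]
  group

theorem u_ne_one {u g : G} (he : g * z * g⁻¹ = u) : u ≠ 1 := fun e => h.z_ne (by
  calc z = g⁻¹ * (g * z * g⁻¹) * g := by group
    _ = 1 := by rw [he, e]; group)

theorem to_z {u g x : G} (he : g * z * g⁻¹ = u) (hx : Commute x u) :
    Commute (g⁻¹ * x * g) z := by
  rw [← Commute.conj_iff g, he, show g * (g⁻¹ * x * g) * g⁻¹ = x by group]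
  exact hx

theorem from_z {u g x : G} (he : g * z * g⁻¹ = u) (hx : Commute x z) :
    Commute (g * x * g⁻¹) u := by
  rw [← he, Commute.conj_iff g]
  exact hx

theorem UU_comm {u g w : G} (he : g * z * g⁻¹ = u) (hw : w ∈ UU Q g) : Commute w u := by
  have := h.from_z he (h.cz (mem_UU.1 hw))
  rwa [show g * (g⁻¹ * w * g) * g⁻¹ = w by group] at this

theorem UU_stab {u g x w : G} (he : g * z * g⁻¹ = u) (hx : Commute x u) (hw : w ∈ UU Q g) :
    x * w * x⁻¹ ∈ UU Q g := by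
  rw [mem_UU, show g⁻¹ * (x * w * x⁻¹) * g = (g⁻¹ * x * g) * (g⁻¹ * w * g) * (g⁻¹ * x * g)⁻¹ by
    group]
  exact h.conjQ (h.to_z he hx) (mem_UU.1 hw)

theorem UU_indep {u g g' : G} (he : g * z * g⁻¹ = u) (he' : g' * z * g'⁻¹ = u) :
    UU Q g = UU Q g' := by
  have key : ∀ g g' : G, g * z * g⁻¹ = u → g' * z * g'⁻¹ = u → UU Q g ≤ UU Q g' := by
    intro g g' he he' w hw
    have hm : Commute (g'⁻¹ * g) z := by
      show g'⁻¹ * g * z = z * (g'⁻¹ * g)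
      calc g'⁻¹ * g * z = g'⁻¹ * (g * z * g⁻¹) * g := by group
        _ = z * (g'⁻¹ * g) := by rw [he, ← he']; group
    rw [mem_UU, show g'⁻¹ * w * g' = (g'⁻¹ * g) * (g⁻¹ * w * g) * (g'⁻¹ * g)⁻¹ by group]
    exact h.conjQ hm (mem_UU.1 hw)
  exact le_antisymm (key g g' he he') (key g' g he' he)

theorem UU_sq {u g w : G} (he : g * z * g⁻¹ = u) (hw : w ∈ UU Q g) : w * w = 1 ∨ w * w = u := by
  rcases h.sq _ (mem_UU.1 hw) with e | e
  · left
    calc w * w = g * ((g⁻¹ * w * g) * (g⁻¹ * w * g)) * g⁻¹ := by group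
      _ = 1 := by rw [e]; group
  · right
    calc w * w = g * ((g⁻¹ * w * g) * (g⁻¹ * w * g)) * g⁻¹ := by group
      _ = u := by rw [e, he]

theorem UU_commutator {u g v w : G} (he : g * z * g⁻¹ = u) (hv : v ∈ UU Q g) (hw : w ∈ UU Q g) :
    ⁅v, w⁆ = 1 ∨ ⁅v, w⁆ = u := by
  have e : ⁅v, w⁆ = g * ⁅g⁻¹ * v * g, g⁻¹ * w * g⁆ * g⁻¹ := by
    simp only [commutatorElement_def]; group
  rcases h.mem_Z.1 (h.comm_mem_Z (mem_UU.1 hv) (mem_UU.1 hw)) with r | r <;> rw [e, r]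
  · left; group
  · right; exact he

theorem pu_mul {u g x y : G} (he : g * z * g⁻¹ = u) (hx : Commute x u) (hy : Commute y u) :
    pu π g (x * y) = pu π g x * pu π g y := by
  rw [pu, pu, pu, ← h.map_mul _ _ (h.to_z he hx) (h.to_z he hy)]
  congr 1
  group

theorem pu_one_iff {u g x : G} (he : g * z * g⁻¹ = u) (hx : Commute x u) :
    pu π g x = 1 ↔ x ∈ UU Q g := by
  rw [pu, h.ker _ (h.to_z he hx), mem_UU]

theorem mem_img {u g : G} (he : g * z * g⁻¹ = u) {A : Subgroup G} (hA : ∀ a ∈ A, Commute a u)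
    {p : GS} : p ∈ img π g A ↔ ∃ a ∈ A, pu π g a = p := by
  refine ⟨fun hp => ?_, fun ⟨a, ha, e⟩ => subset_closure ⟨a, ha, e⟩⟩
  induction hp using closure_induction with
  | mem y hy => obtain ⟨a, ha, rfl⟩ := hy; exact ⟨a, ha, rfl⟩
  | one =>
    exact ⟨1, one_mem A, (h.pu_one_iff he (hA 1 (one_mem A))).2 (one_mem _)⟩
  | mul x y _ _ hx hy =>
    obtain ⟨a, ha, rfl⟩ := hx
    obtain ⟨b, hb, rfl⟩ := hy
    exact ⟨a * b, mul_mem ha hb, h.pu_mul he (hA a ha) (hA b hb)⟩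
  | inv x _ hx =>
    obtain ⟨a, ha, rfl⟩ := hx
    refine ⟨a⁻¹, inv_mem ha, eq_inv_of_mul_eq_one_left ?_⟩
    rw [← h.pu_mul he (hA _ (inv_mem ha)) (hA a ha), inv_mul_cancel]
    exact (h.pu_one_iff he (hA 1 (one_mem A))).2 (one_mem _)

theorem img_card [Finite G] {u g : G} (he : g * z * g⁻¹ = u) {A : Subgroup G}
    (hA : ∀ a ∈ A, Commute a u) :
    Nat.card A = Nat.card (img π g A) * Nat.card ↥(A ⊓ UU Q g) := by
  set f : A →* GS := MonoidHom.mk' (fun a => pu π g (a : G))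
    (fun a b => h.pu_mul he (hA a a.2) (hA b b.2)) with hf
  have h1 := Subgroup.card_eq_card_quotient_mul_card_subgroup f.ker
  have hrange : f.range = img π g A := by
    ext p
    rw [h.mem_img he hA]
    exact ⟨fun ⟨a, ha⟩ => ⟨a, a.2, ha⟩, fun ⟨a, ha, e⟩ => ⟨⟨a, ha⟩, e⟩⟩
  have h2 : Nat.card (A ⧸ f.ker) = Nat.card (img π g A) := by
    rw [Nat.card_congr (QuotientGroup.quotientKerEquivRange f).toEquiv, hrange]
  have h3 : Nat.card f.ker = Nat.card ↥(A ⊓ UU Q g) :=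
    Nat.card_congr
      { toFun := fun a => ⟨a.1.1, mem_inf.2 ⟨a.1.2, (h.pu_one_iff he (hA _ a.1.2)).1 a.2⟩⟩
        invFun := fun a => ⟨⟨a.1, a.2.1⟩, (h.pu_one_iff he (hA _ a.2.1)).2 a.2.2⟩
        left_inv := fun _ => rfl
        right_inv := fun _ => rfl }
  rw [h1, h2, h3]

/-! ### `φ = [u, ·]` -/

theorem u_phi {u g q : G} (he : g * z * g⁻¹ = u) :
    u * ⁅u, q⁆ * u⁻¹ = ⁅u, q⁆⁻¹ := by
  have e : u⁻¹ = u := inv_eq_of_mul_eq_one_right (h.u_sq he)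
  calc u * ⁅u, q⁆ * u⁻¹ = (u * u) * q * u⁻¹ * q⁻¹ * u⁻¹ := by
        simp only [commutatorElement_def]; group
    _ = q * u * q⁻¹ * u⁻¹ := by rw [h.u_sq he, one_mul, e]
    _ = ⁅u, q⁆⁻¹ := by simp only [commutatorElement_def]; group

theorem phi_comm_iff {u g q : G} (he : g * z * g⁻¹ = u) :
    Commute ⁅u, q⁆ u ↔ ⁅u, q⁆ * ⁅u, q⁆ = 1 := by
  constructor
  · intro hc
    have := h.u_phi (q := q) he
    rw [hc.symm.eq, mul_inv_cancel_right] at this
    nth_rewrite 1 [this]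
    exact inv_mul_cancel _
  · intro hsq
    show ⁅u, q⁆ * u = u * ⁅u, q⁆
    have := h.u_phi (q := q) he
    rw [inv_eq_of_mul_eq_one_right hsq, mul_inv_eq_iff_eq_mul] at this
    exact this.symm

theorem newPair {u g q : G} (P : Pair z u g) (hq : q ∈ Q) (hc : Commute ⁅u, q⁆ u)
    (hne : ⁅u, q⁆ ≠ 1) : ∃ u' g', SPair z u' g' ∧ π u' = pu π g ⁅u, q⁆ := by
  have hu := h.u_sq P.eq
  have hui : u⁻¹ = u := inv_eq_of_mul_eq_one_right hu
  have e1 : q * u * q⁻¹ = u * ⁅u, q⁆ := by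
    calc q * u * q⁻¹ = (u * u) * q * u * q⁻¹ := by rw [hu, one_mul]
      _ = u * ⁅u, q⁆ := by rw [commutatorElement_def, hui]; group
  have hqq : Commute (q * q) u := by
    rcases h.sq q hq with r | r <;> rw [r]
    · exact Commute.one_left u
    · exact P.comm.symm
  have hgz : g⁻¹ * u * g = z := by rw [← P.eq]; group
  have e2 : g⁻¹ * (q * u * q⁻¹) * g = z * (g⁻¹ * ⁅u, q⁆ * g) := by
    rw [e1]
    calc g⁻¹ * (u * ⁅u, q⁆) * g = (g⁻¹ * u * g) * (g⁻¹ * ⁅u, q⁆ * g) := by group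
      _ = _ := by rw [hgz]
  have hcz : Commute (g⁻¹ * ⁅u, q⁆ * g) z := h.to_z P.eq hc
  refine ⟨g⁻¹ * (q * u * q⁻¹) * g, g⁻¹ * q * g, ⟨⟨?_, ?_, ?_⟩, ?_⟩, ?_⟩
  · rw [show g⁻¹ * q * g * z * (g⁻¹ * q * g)⁻¹ = g⁻¹ * (q * (g * z * g⁻¹) * q⁻¹) * g by group,
      P.eq]
  · rw [e2]; exact (Commute.refl z).mul_left hcz
  · rw [e2, ne_eq, mul_eq_left]
    intro e
    exact hne (by
      calc ⁅u, q⁆ = g * (g⁻¹ * ⁅u, q⁆ * g) * g⁻¹ := by group
        _ = 1 := by rw [e]; group)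
  · rw [show (g⁻¹ * q * g)⁻¹ * z * (g⁻¹ * q * g) = g⁻¹ * (q⁻¹ * (g * z * g⁻¹) * q) * g by group,
      P.eq]
    congr 2
    calc q⁻¹ * u * q = q⁻¹ * (u * (q * q)) * q⁻¹ := by group
      _ = q * u * q⁻¹ := by rw [← hqq.eq]; group
  · rw [e2, h.map_mul z _ (Commute.refl z) hcz, h.pi_mem h.memZ, one_mul]
    rfl

theorem exists_spair {u g : G} (P : Pair z u g) (huQ : u ∉ Q) : ∃ u' g', SPair z u' g' := by
  by_cases hfl : ∀ q ∈ Q, ⁅u, q⁆ * ⁅u, q⁆ = 1
  · obtain ⟨q, hq, hne⟩ : ∃ q ∈ Q, ⁅u, q⁆ ≠ 1 := by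
      by_contra hcon
      push Not at hcon
      exact huQ (h.large (mem_centralizer_iff.2 fun q hq =>
        (commutatorElement_eq_one_iff_commute.1 (hcon q hq)).eq.symm))
    obtain ⟨u', g', hS, -⟩ := h.newPair P hq ((h.phi_comm_iff P.eq).2 (hfl q hq)) hne
    exact ⟨u', g', hS⟩
  push Not at hfl
  obtain ⟨q, hq, hne⟩ := hfl
  set c := ⁅u, q⁆ with hc
  have hcQ : c ∈ Q := h.commQ P.comm hq
  have ecz : c * c = z := (h.sq c hcQ).resolve_left hne
  have ephi : ⁅u, c⁆ = z := by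
    rw [commutatorElement_def, h.u_phi (q := q) P.eq, ← hc]
    calc c⁻¹ * c⁻¹ = (c * c)⁻¹ := (mul_inv_rev c c).symm
      _ = z := by rw [ecz, h.zinv]
  obtain ⟨u', g', hS, -⟩ := h.newPair P hcQ (by rw [ephi]; exact P.comm.symm)
    (by rw [ephi]; exact h.z_ne)
  exact ⟨u', g', hS⟩

end Nine

end CfsgLib.ExtraNine
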