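import Cfsg.Agent.Lib.ExtraNine.Module

/-!
# The dichotomy
-/

set_option autoImplicit false
set_option linter.unusedSectionVars false
set_option linter.style.haveILetI false

namespace CfsgLib.ExtraNine

open Subgroup
open scoped commutatorElement

variable {G : Type*} [Group G]

/-- The preimage of `(c3, 1)` is fixed-point-free on `Q/Z`. -/
structure ShapeT (z : G) (Q : Subgroup G) (π : G → GS) : Prop where
  Ks : ∀ s : G, Commute s z → π s = (c3, 1) → KK Q s ≤ zpowers z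
  flat : ∀ x : G, Commute x z → π x * π x = 1 → Commute (π x) (c3, 1) → Flat Q x
  dt : ∀ (x : G) (p : P6), Commute x z → π x = (1, p) → IsDt p →
    Flat Q x ∧ Nat.card (RR Q x) = 32 ∧ KK Q x = RR Q x
  tau : ∀ (x : G) (t : Equiv.Perm (Fin 3)), Commute x z → π x = (t, 1) → Equiv.Perm.sign t = -1 →
    Flat Q x ∧ Nat.card (RR Q x) = 32 ∧ KK Q x = RR Q x

/-- The preimage of `(c3, 1)` fixes a six-dimensional subspace. -/
structure ShapeS (z : G) (Q : Subgroup G) (π : G → GS) : Prop where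
  dt : ∀ (x : G) (p : P6), Commute x z → π x = (1, p) → IsDt p →
    Nat.card (RR Q x) = 8 ∧ Nat.card (KK Q x) = 128 ∧ ¬ Flat Q x
  Rs : ∀ s : G, Commute s z → π s = (c3, 1) → Nat.card (RR Q s) = 8
  anis : ∀ s : G, Commute s z → π s = (c3, 1) → ∀ e ∈ RR Q s, e ∉ zpowers z → e * e = z

namespace Nine

variable [Finite G] {z : G} {Q : Subgroup G} {π : G → GS} (h : Nine z Q π)
include h

/-- The squares of commutators with an involution form a homomorphism. -/
theorem psi_mul {x q q' : G} (hx : Commute x z) (h2 : π x * π x = 1) (hq : q ∈ Q) (hq' : q' ∈ Q) :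
    ⁅x, q * q'⁆ * ⁅x, q * q'⁆ = ⁅x, q⁆ * ⁅x, q⁆ * (⁅x, q'⁆ * ⁅x, q'⁆) := by
  have e : bar Q ⁅x, q * q'⁆ = bar Q (⁅x, q⁆ * ⁅x, q'⁆) := by
    rw [h.bar_comm hx (mul_mem hq hq'),
      show x * (q * q') * x⁻¹ = x * q * x⁻¹ * (x * q' * x⁻¹) by group,
      bar_mul (h.conjQ hx hq) (h.conjQ hx hq'), bar_mul hq hq',
      bar_mul (h.commQ hx hq) (h.commQ hx hq'), h.bar_comm hx hq, h.bar_comm hx hq',
      mul_mul_mul_comm]
  rw [h.sq_congr (h.commQ hx (mul_mem hq hq')) (mul_mem (h.commQ hx hq) (h.commQ hx hq')) e,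
    Commute.mul_mul_mul_comm (h.commute_R_K hx (h.comm_mem_R hx hq')
      (h.R_le_K hx h2 (h.comm_mem_R hx hq)))]

theorem psi_conj {x y q : G} (hx : Commute x z) (hy : Commute y z) (e : Commute (π y) (π x))
    (hq : q ∈ Q) : ⁅x, y * q * y⁻¹⁆ * ⁅x, y * q * y⁻¹⁆ = ⁅x, q⁆ * ⁅x, q⁆ := by
  have hx' : Commute (y⁻¹ * x * y) z := (hy.inv_left.mul_left hx).mul_left hy
  have e1 : ⁅x, y * q * y⁻¹⁆ = y * ⁅y⁻¹ * x * y, q⁆ * y⁻¹ := by
    simp only [commutatorElement_def]; group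
  have e2 : bar Q ⁅y⁻¹ * x * y, q⁆ = bar Q ⁅x, q⁆ := by
    rw [h.bar_comm hx' hq, h.bar_comm hx hq, h.bar_conj_pi hx' hx (by
      rw [h.map_mul _ _ (hy.inv_left.mul_left hx) hy, h.map_mul _ _ hy.inv_left hx, h.pi_inv hy,
        mul_assoc, ← e.eq, inv_mul_cancel_left]) hq]
  rw [e1, h.sq_conj hy (h.commQ hx' hq), h.sq_congr (h.commQ hx' hq) (h.commQ hx hq) e2]

theorem flat_of_fpf {x y : G} (hx : Commute x z) (h2 : π x * π x = 1) (hy : Commute y z)
    (e : Commute (π y) (π x)) (hK : KK Q y ≤ zpowers z) : Flat Q x := by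
  have hR : RR Q y = Q := by
    refine eq_of_le_of_card_ge (h.R_le y) ?_
    have h1 := h.RK_card hy
    rw [le_antisymm hK (h.Z_le (h.z_mem_K hy)), h.Z_card] at h1
    rw [h.card]; omega
  have key : ∀ q ∈ Q, ⁅x, ⁅y, q⁆⁆ * ⁅x, ⁅y, q⁆⁆ = 1 := by
    intro q hq
    rw [commutatorElement_def y q, h.psi_mul hx h2 (h.conjQ hy hq) (inv_mem hq),
      h.psi_conj hx hy e hq, ← h.psi_mul hx h2 hq (inv_mem hq), mul_inv_cancel,
      commutatorElement_one_right, one_mul]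
  have hzx : ⁅x, z⁆ = 1 := commutatorElement_eq_one_iff_commute.2 hx
  intro w hw
  obtain ⟨q, hq, r | r⟩ := h.exists_comm_of_R hy (hR.ge hw) <;> rw [r]
  · exact key q hq
  · rw [h.psi_mul hx h2 (h.commQ hy hq) h.memZ, key q hq, hzx, one_mul, one_mul]

theorem R_card_conj {m x y : G} (hm : Commute m z) (hx : Commute x z) (hy : Commute y z)
    (e : π y = π m * π x * (π m)⁻¹) : Nat.card (RR Q y) = Nat.card (RR Q x) := by
  refine le_antisymm ?_ ?_
  · refine Nat.card_le_card_of_injective (fun w => ⟨m⁻¹ * w.1 * m⁻¹⁻¹,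
      h.R_move hm.inv_left hy hx (by rw [h.pi_inv hm, e]; group) w.2⟩) ?_
    intro u v r
    exact Subtype.ext (mul_left_cancel (mul_right_cancel (congrArg Subtype.val r)))
  · refine Nat.card_le_card_of_injective (fun w => ⟨m * w.1 * m⁻¹, h.R_move hm hx hy e w.2⟩) ?_
    intro u v r
    exact Subtype.ext (mul_left_cancel (mul_right_cancel (congrArg Subtype.val r)))

theorem flat_conj {m x y : G} (hm : Commute m z) (hx : Commute x z) (hy : Commute y z)
    (e : π y = π m * π x * (π m)⁻¹) (hf : Flat Q x) : Flat Q y := by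
  refine h.flat_of_R hy fun w hw => ?_
  have hw' := h.R_move hm.inv_left hy hx (by rw [h.pi_inv hm, e]; group) hw
  have := h.flat_R hx hf hw'
  rwa [h.sq_conj hm.inv_left (h.R_le y hw)] at this

theorem abelian_of_sq {H : Subgroup G} (hsq : ∀ w ∈ H, w * w = 1) :
    ∀ u ∈ H, ∀ v ∈ H, Commute u v := by
  intro u hu v hv
  calc u * v = (u * v)⁻¹ := (inv_eq_of_mul_eq_one_right (hsq _ (mul_mem hu hv))).symm
    _ = v * u := by
      rw [mul_inv_rev, inv_eq_of_mul_eq_one_right (hsq u hu), inv_eq_of_mul_eq_one_right (hsq v hv)]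

/-- A nonabelian four-group with a transitive element: all nontrivial squares are `z`. -/
theorem sq_eq_z {H : Subgroup G} (hH : H ≤ Q) (hz : z ∈ H) (h8 : Nat.card H = 8) {x : G}
    (hx : Commute x z) (h3 : π x * π x * π x = 1) (hHx : ∀ w ∈ H, x * w * x⁻¹ ∈ H)
    (hK : KK Q x ⊓ H ≤ zpowers z) (hne : ¬ ∀ u ∈ H, ∀ v ∈ H, Commute u v) :
    ∀ v ∈ H, v ∉ zpowers z → v * v = z := by
  intro v hv hvz
  refine (h.sq v (hH hv)).resolve_left fun e => hne (h.abelian_of_sq fun w hw => ?_)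
  rcases h.eight hH hz h8 hx h3 hHx hK hv hvz hw with r | r | r | r
  · rw [← bar_one] at r
    rw [h.sq_congr (hH hw) (one_mem Q) r, one_mul]
  · rw [h.sq_congr (hH hw) (hH hv) r, e]
  · rw [h.sq_congr (hH hw) (h.conjQ hx (hH hv)) r, h.sq_conj hx (hH hv), e]
  · rw [h.sq_congr (hH hw) (h.conjQ (hx.mul_left hx) (hH hv)) r,
      h.sq_conj (hx.mul_left hx) (hH hv), e]

/-- A nonabelian four-group with a transitive element is nondegenerate. -/
theorem nondeg {H : Subgroup G} (hH : H ≤ Q) (hz : z ∈ H) (h8 : Nat.card H = 8) {x : G}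
    (hx : Commute x z) (h3 : π x * π x * π x = 1) (hHx : ∀ w ∈ H, x * w * x⁻¹ ∈ H)
    (hK : KK Q x ⊓ H ≤ zpowers z) (hne : ¬ ∀ u ∈ H, ∀ v ∈ H, Commute u v) :
    ∀ v ∈ H, (∀ u ∈ H, Commute v u) → v ∈ zpowers z := by
  intro v hv hc
  by_contra hvz
  have hc' : ∀ y : G, Commute y z → (∀ w ∈ H, y * w * y⁻¹ ∈ H) → ∀ u ∈ H,
      Commute (y * v * y⁻¹) u := by
    intro y hy hHy u hu
    have hfin : ∃ u' ∈ H, y * u' * y⁻¹ = u := by
      have hinj : Function.Injective (fun w : H => (⟨y * w.1 * y⁻¹, hHy w w.2⟩ : H)) :=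
        fun a b e => Subtype.ext (mul_left_cancel (mul_right_cancel (congrArg Subtype.val e)))
      obtain ⟨w, hw⟩ := (Finite.injective_iff_surjective.1 hinj) ⟨u, hu⟩
      exact ⟨w, w.2, congrArg Subtype.val hw⟩
    obtain ⟨u', hu', rfl⟩ := hfin
    exact (Commute.conj_iff y).2 (hc u' hu')
  refine hne fun u hu w hw => ?_
  rcases h.eight hH hz h8 hx h3 hHx hK hv hvz hu with r | r | r | r
  · rw [← bar_one] at r
    rw [h.commute_congr (hH hu) (one_mem Q) (hH hw) r]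
    exact Commute.one_left w
  · rw [h.commute_congr (hH hu) (hH hv) (hH hw) r]
    exact hc w hw
  · rw [h.commute_congr (hH hu) (h.conjQ hx (hH hv)) (hH hw) r]
    exact hc' x hx hHx w hw
  · rw [h.commute_congr (hH hu) (h.conjQ (hx.mul_left hx) (hH hv)) (hH hw) r]
    refine hc' (x * x) (hx.mul_left hx) (fun e he => ?_) w hw
    rw [show x * x * e * (x * x)⁻¹ = x * (x * e * x⁻¹) * x⁻¹ by group]
    exact hHx _ (hHx e he)

variable {s a b c : G} (L : Lifts z π s a b c)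
include L

theorem csa : Commute (π s) (π a) := by
  rw [L.es, L.ea]; exact Prod.ext (by simp) (by simp)

theorem shapeT_of_nontrivial {w₀ : G} (hw₀ : w₀ ∈ RR Q s) (hw₀K : w₀ ∉ KK Q a) :
    ShapeT z Q π := by
  have hc : ∀ {m : G} {p : P6}, π m = (1, p) → Commute (π m) (π s) := by
    intro m p e; rw [L.es, e]; exact Prod.ext (by simp) (by simp)
  obtain ⟨E, E', S⟩ := h.split L (h.R_le s) (h.z_mem_R L.cs)
    (fun w hw => h.R_stab L.cs L.cs (Commute.refl _) hw)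
    (fun w hw => h.R_stab L.ca L.cs (hc L.ea) hw) (fun w hw => h.R_stab L.cb L.cs (hc L.eb) hw)
    (fun w hw => h.R_stab L.cc L.cs (hc L.ec) hw) hw₀ hw₀K
  have hEQ : E ≤ Q := S.le.trans (h.R_le s)
  have hE'Q : E' ≤ Q := S.le'.trans (h.R_le s)
  have hs3 : π s ^ 3 = 1 := by rw [pow_three', h.three_s L]
  have hKsE : KK Q s ⊓ E ≤ zpowers z := fun w hw =>
    h.RK_meet L.cs hs3 (mem_inf.2 ⟨hw.1, S.le hw.2⟩)
  have h8 : Nat.card E ≠ 8 := by
    intro h8
    obtain ⟨v, hv, hvz⟩ : ∃ v ∈ E, v ∉ zpowers z := SetLike.not_le_iff_exists.1 fun hle => by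
      have := card_le_of_le hle
      rw [h8, h.Z_card] at this; omega
    have cfs : Commute (π (c * c)) (π s) := by
      rw [h.pi_cc L, L.es]; exact Prod.ext (by simp) (by simp)
    have hfa : π (c * c) * π a * (π (c * c))⁻¹ = (π a)⁻¹ := by
      rw [h.pi_cc L, L.ea, Prod.inv_mk, Prod.mk_mul_mk, Prod.mk_mul_mk, Prod.inv_mk, pY_facts.1]
      simp
    rcases h.eight hEQ S.zE h8 L.cs (h.three_s L) S.stab_s hKsE hv hvz (S.stab_a v hv) with
      r | r | r | r
    · refine hvz ?_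
      have e1 := h.mem_Z.1 ((h.bar_eq_one (h.conjQ L.ca (hEQ hv))).1 r)
      rcases e1 with e1 | e1
      · rw [show v = 1 by simpa using e1]; exact one_mem _
      · rw [show v = z by
          calc v = a⁻¹ * (a * v * a⁻¹) * a := by group
            _ = z := by rw [e1, mul_assoc, ← L.ca.eq, inv_mul_cancel_left]]
        exact mem_zpowers z
    · exact hvz (S.fpf (mem_inf.2 ⟨(h.mem_K L.ca).2 ⟨hEQ hv, r⟩, hv⟩))
    · exact h.not_twist hEQ S.zE h8 L.cs L.ca (L.cc.mul_left L.cc) (h.three_a L) (h.csa L) cfs hfa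
        S.stab_a S.stab_f S.fpf hv hvz r
    · exact h.not_twist hEQ S.zE h8 (L.cs.mul_left L.cs) L.ca (L.cc.mul_left L.cc) (h.three_a L)
        (by rw [h.map_mul _ _ L.cs L.cs]; exact (h.csa L).mul_left (h.csa L))
        (by rw [h.map_mul _ _ L.cs L.cs]; exact cfs.mul_right cfs) hfa
        S.stab_a S.stab_f S.fpf hv hvz r
  have hEE : 512 ≤ Nat.card ↥(E ⊔ E') := by
    have h1 := h.card_sup hEQ hE'Q S.zE S.zE'
    rw [le_antisymm S.meet (h.Z_le (mem_inf.2 ⟨S.zE, S.zE'⟩)), h.Z_card, S.card_eq] at h1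
    have h32 : 32 ≤ Nat.card E := by
      rcases S.card with r | r | r | r <;> omega
    nlinarith
  have hRs : RR Q s = Q := eq_of_le_of_card_ge (h.R_le s) (h.card ▸ hEE.trans
    (card_le_of_le (sup_le S.le S.le')))
  have hKs : KK Q s ≤ zpowers z := by
    rw [h.K_eq_perp L.cs, hRs]; exact h.perp_top
  obtain ⟨y, p, hy, ey, hp, hgen⟩ := S.gen
  have hRy : Nat.card (RR Q y) = 512 :=
    le_antisymm (h.card ▸ card_le_of_le (h.R_le y)) (hEE.trans (card_le_of_le hgen))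
  have hKy : KK Q y ≤ zpowers z := by
    rw [h.K_eq_perp hy, eq_of_le_of_card_ge (h.R_le y) (by rw [hRy, h.card])]
    exact h.perp_top
  have Ks : ∀ s' : G, Commute s' z → π s' = (c3, 1) → KK Q s' ≤ zpowers z := fun s' hs' es' =>
    (h.K_congr hs' L.cs (es'.trans L.es.symm)).le.trans hKs
  have flat : ∀ x : G, Commute x z → π x * π x = 1 → Commute (π x) (c3, 1) → Flat Q x :=
    fun x hx h2 e => h.flat_of_fpf hx h2 L.cs (by rw [L.es]; exact e.symm) hKs
  refine ⟨Ks, flat, ?_, ?_⟩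
  · intro x q hx ex hq
    have h2 : π x * π x = 1 := by rw [ex, Prod.mk_mul_mk, one_mul, hq.1]; rfl
    refine ⟨flat x hx h2 (by rw [ex]; exact Prod.ext (by simp) (by simp)), ?_⟩
    have hle := h.R_card_le hx h2
    have hcase : ∀ (x : G) (q : P6), Commute x z → π x = (1, q) → IsDt q →
        Nat.card (RR Q x) = 8 ∨ Nat.card (RR Q x) = 32 := by
      intro x q hx ex hq
      have hx2 : π x * π x = 1 := by rw [ex, Prod.mk_mul_mk, one_mul, hq.1]; rfl
      have := h.fpf_card L.cs hs3 (h.R_le x) (h.z_mem_R hx)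
        (fun w hw => h.R_stab L.cs hx (hc ex).symm hw)
        (fun w hw => hKs hw.1)
      have hle := h.R_card_le hx hx2
      rcases this with r | r | r | r | r
      · exfalso
        have := h.pi_eq_one_of_R hx
          (eq_of_le_of_card_ge (h.Z_le (h.z_mem_R hx)) (by rw [r, h.Z_card])).ge
        rw [ex] at this
        exact hq.2.1 (congrArg Prod.snd this)
      all_goals omega
    have hcard : Nat.card (RR Q x) = 32 := by
      refine (hcase x q hx ex hq).resolve_left fun h8x => ?_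
      have all8 : ∀ (x' : G) (q' : P6), Commute x' z → π x' = (1, q') → IsDt q' →
          Nat.card (RR Q x') = 8 := by
        intro x' q' hx' ex' hq'
        obtain ⟨u, hu, eu⟩ := dt_conj q hq
        obtain ⟨u', hu', eu'⟩ := dt_conj q' hq'
        obtain ⟨m, hm, em⟩ := h.range (1, u' * u⁻¹) (map_one _)
          (by rw [_root_.map_mul, _root_.map_inv, hu, hu', inv_one, mul_one])
        rw [← h8x]
        refine h.R_card_conj hm hx hx' ?_
        rw [ex', em, ex, Prod.inv_mk, Prod.mk_mul_mk, Prod.mk_mul_mk, ← eu, ← eu']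
        exact Prod.ext (by simp) (by group)
      obtain ⟨f, g, hf, hg, efg⟩ : ∃ f g : P6, IsDt f ∧ IsDt g ∧ p = f * g := by
        rcases hp with rfl | rfl
        · exact pA_two_dts
        · exact pAB_two_dts
      obtain ⟨xf, cf, exf⟩ := h.range (1, f) (map_one _) hf.2.2
      obtain ⟨xg, cg, exg⟩ := h.range (1, g) (map_one _) hg.2.2
      have hRle : RR Q y ≤ RR Q xf ⊔ RR Q xg := by
        rw [h.R_congr hy (cf.mul_left cg) (by
          rw [h.map_mul _ _ cf cg, exf, exg, ey, Prod.mk_mul_mk, one_mul, efg])]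
        exact h.R_mul cf cg
      have h1 := h.card_sup (h.R_le xf) (h.R_le xg) (h.z_mem_R cf) (h.z_mem_R cg)
      rw [all8 xf f cf exf hf, all8 xg g cg exg hg] at h1
      have h3 := card_le_of_le hRle
      have h4 : 2 ≤ Nat.card ↥(RR Q xf ⊓ RR Q xg) := h.Z_card ▸
        card_le_of_le (h.Z_le (mem_inf.2 ⟨h.z_mem_R cf, h.z_mem_R cg⟩))
      rw [hRy] at h3
      nlinarith
    refine ⟨hcard, (eq_of_le_of_card_ge (h.R_le_K hx h2) ?_).symm⟩
    have := h.RK_card hx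
    rw [hcard] at this ⊢
    omega
  · intro x t hx ex ht
    obtain ⟨ht2, htc⟩ := p3_odd t ht
    have h2 : π x * π x = 1 := by rw [ex, Prod.mk_mul_mk, one_mul, ht2]; rfl
    refine ⟨h.flat_of_fpf hx h2 hy (by rw [ex, ey]; exact Prod.ext (by simp) (by simp)) hKy, ?_⟩
    have hRK := h.R_le_K hx h2
    have hcard := h.RK_card hx
    set M := (KK Q x).map (MulAut.conj s).toMonoidHom with hM
    have hMQ : M ≤ Q := by
      rintro _ ⟨w, hw, rfl⟩
      exact h.conjQ L.cs (h.K_le x hw)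
    have hzM : z ∈ M :=
      ⟨z, h.z_mem_K hx, by show s * z * s⁻¹ = z; rw [L.cs.eq, mul_inv_cancel_right]⟩
    have hmeet : KK Q x ⊓ M ≤ zpowers z := by
      intro u hu
      obtain ⟨v, hv, rfl⟩ := hu.2
      have hu1 : s * v * s⁻¹ ∈ KK Q x := hu.1
      obtain ⟨hvQ, ev⟩ := (h.mem_K hx).1 hv
      obtain ⟨-, eu⟩ := (h.mem_K hx).1 hu1
      have e1 : bar Q (x * (s * v * s⁻¹) * x⁻¹) = bar Q (s * (s * v * s⁻¹) * s⁻¹) := by
        calc bar Q (x * (s * v * s⁻¹) * x⁻¹)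
            = bar Q ((x * s) * v * (x * s)⁻¹) := by congr 1; group
          _ = bar Q ((s * s * x) * v * (s * s * x)⁻¹) := by
              refine h.bar_conj_pi (hx.mul_left L.cs) ((L.cs.mul_left L.cs).mul_left hx) ?_ hvQ
              rw [h.map_mul _ _ hx L.cs, h.map_mul _ _ (L.cs.mul_left L.cs) hx,
                h.map_mul _ _ L.cs L.cs, ex, L.es, Prod.mk_mul_mk, Prod.mk_mul_mk, Prod.mk_mul_mk]
              refine Prod.ext ?_ rfl
              show t * c3 = c3 * c3 * t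
              rw [← mul_inv_eq_iff_eq_mul, htc,
                show c3 * c3 = c3⁻¹ from eq_inv_of_mul_eq_one_left c3_three.1]
          _ = bar Q ((s * s) * (x * v * x⁻¹) * (s * s)⁻¹) := by congr 1; group
          _ = bar Q ((s * s) * v * (s * s)⁻¹) :=
              h.bar_conj_congr (L.cs.mul_left L.cs) (h.conjQ hx hvQ) hvQ ev
          _ = _ := by congr 1; group
      rw [eu] at e1
      show s * v * s⁻¹ ∈ zpowers z
      exact hKs ((h.mem_K L.cs).2 ⟨h.conjQ L.cs hvQ, e1.symm⟩)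
    have h1 := h.card_sup (h.K_le x) hMQ (h.z_mem_K hx) hzM
    rw [le_antisymm hmeet (h.Z_le (mem_inf.2 ⟨h.z_mem_K hx, hzM⟩)), h.Z_card,
      show Nat.card M = Nat.card (KK Q x) from
        Subgroup.card_map_of_injective (MulAut.conj s).injective] at h1
    have h3 : Nat.card ↥(KK Q x ⊔ M) ≤ 512 := h.card ▸ card_le_of_le (sup_le (h.K_le x) hMQ)
    have h4 : Nat.card (KK Q x) ≤ 32 := by nlinarith
    have h5 := card_le_of_le hRK
    refine ⟨by nlinarith, (eq_of_le_of_card_ge hRK (by nlinarith)).symm⟩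

theorem shapeS_of_trivial (htriv : RR Q s ≤ KK Q a) : ShapeS z Q π := by
  have hc : ∀ {m : G} {p : P6}, π m = (1, p) → Commute (π m) (π s) := by
    intro m p e; rw [L.es, e]; exact Prod.ext (by simp) (by simp)
  have hs3 : π s ^ 3 = 1 := by rw [pow_three', h.three_s L]
  -- every conjugate of `a` fixes `[s, Q]`
  have hconj : ∀ u : P6, Equiv.Perm.sign u = 1 → ∀ x : G, Commute x z →
      π x = (1, u * pA * u⁻¹) → RR Q s ≤ KK Q x := by
    intro u hu x hx ex w hw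
    obtain ⟨m, hm, em⟩ := h.range (1, u) (map_one _) hu
    have h1 := h.R_stab hm.inv_left L.cs (by rw [h.pi_inv hm]; exact (hc em).inv_left) hw
    have h2 := h.K_move hm L.ca hx (by
      rw [ex, em, L.ea, Prod.inv_mk, Prod.mk_mul_mk, Prod.mk_mul_mk]; simp) (htriv h1)
    rwa [show m * (m⁻¹ * w * m⁻¹⁻¹) * m⁻¹ = w by group] at h2
  have hgen : ∀ (p : P6) (x : G), Commute x z → π x = (1, p) →
      (∃ u v : P6, Equiv.Perm.sign u = 1 ∧ Equiv.Perm.sign v = 1 ∧
        p = u * pA * u⁻¹ * (v * pA * v⁻¹)) → RR Q s ≤ KK Q x := by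
    rintro p x hx ex ⟨u, v, hu, hv, rfl⟩ w hw
    obtain ⟨x1, c1, e1⟩ := h.range (1, u * pA * u⁻¹) (map_one _) (by simp [hu, sign_pA])
    obtain ⟨x2, c2, e2⟩ := h.range (1, v * pA * v⁻¹) (map_one _) (by simp [hv, sign_pA])
    rw [h.K_congr hx (c1.mul_left c2) (by
      rw [h.map_mul _ _ c1 c2, e1, e2, ex, Prod.mk_mul_mk, one_mul])]
    exact h.K_mul c1 c2 (hconj u hu x1 c1 e1 hw) (hconj v hv x2 c2 e2 hw)
  have hRs2 : 8 ≤ Nat.card (RR Q s) := by
    rcases h.fpf_card L.cs hs3 (h.R_le s) (h.z_mem_R L.cs)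
      (fun w hw => h.R_stab L.cs L.cs (Commute.refl _) hw) (h.RK_meet L.cs hs3) with
      r | r | r | r | r
    · exfalso
      have := h.pi_eq_one_of_R L.cs
        (eq_of_le_of_card_ge (h.Z_le (h.z_mem_R L.cs)) (by rw [r, h.Z_card])).ge
      rw [L.es] at this
      exact c3_three.2.1 (congrArg Prod.fst this)
    all_goals omega
  have hRK := h.RK_card L.cs
  have hRKsup : Nat.card ↥(RR Q s ⊔ KK Q s) = 512 := by
    have h1 := h.card_sup (h.R_le s) (h.K_le s) (h.z_mem_R L.cs) (h.z_mem_K L.cs)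
    rw [inf_comm, le_antisymm (h.RK_meet L.cs hs3)
      (h.Z_le (mem_inf.2 ⟨h.z_mem_K L.cs, h.z_mem_R L.cs⟩)), h.Z_card, hRK] at h1
    omega
  obtain ⟨w₀, hw₀, hw₀K⟩ : ∃ w ∈ KK Q s, w ∉ KK Q a := SetLike.not_le_iff_exists.1 fun hle => by
    have h1 : Q ≤ KK Q a :=
      (eq_of_le_of_card_ge (sup_le (h.R_le s) (h.K_le s)) (by rw [hRKsup, h.card])).ge.trans
        (sup_le htriv hle)
    have := (h.ker a L.ca).2 (h.mem_of_K_eq L.ca h1)
    rw [L.ea] at this
    exact pA_three.2 (congrArg Prod.snd this)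
  obtain ⟨E, E', S⟩ := h.split L (h.K_le s) (h.z_mem_K L.cs)
    (fun w hw => h.K_stab L.cs L.cs (Commute.refl _) hw)
    (fun w hw => h.K_stab L.ca L.cs (hc L.ea) hw) (fun w hw => h.K_stab L.cb L.cs (hc L.eb) hw)
    (fun w hw => h.K_stab L.cc L.cs (hc L.ec) hw) hw₀ hw₀K
  have hEQ : E ≤ Q := S.le.trans (h.K_le s)
  have hE'Q : E' ≤ Q := S.le'.trans (h.K_le s)
  have hmeetZ := le_antisymm S.meet (h.Z_le (mem_inf.2 ⟨S.zE, S.zE'⟩))
  have hsupEE := h.card_sup hEQ hE'Q S.zE S.zE'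
  rw [hmeetZ, h.Z_card, S.card_eq] at hsupEE
  have hEEle := card_le_of_le (sup_le S.le S.le')
  have h8 : Nat.card E = 8 := by
    rcases S.card with r | r | r | r
    · exact r
    all_goals rw [r] at hsupEE; nlinarith
  rw [h8] at hsupEE
  have hEE : Nat.card ↥(E ⊔ E') = 32 := by omega
  have hEEQ : E ⊔ E' ≤ Q := sup_le hEQ hE'Q
  have hXQ : RR Q s ⊔ (E ⊔ E') ≤ Q := sup_le (h.R_le s) hEEQ
  have hzX : z ∈ RR Q s ⊔ (E ⊔ E') := mem_sup_left (h.z_mem_R L.cs)
  have hX : Nat.card ↥(RR Q s ⊔ (E ⊔ E')) * 2 = Nat.card (RR Q s) * 32 := by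
    have h1 := h.card_sup (h.R_le s) hEEQ (h.z_mem_R L.cs) (mem_sup_left S.zE)
    have h2 : RR Q s ⊓ (E ⊔ E') ≤ zpowers z := fun w hw =>
      h.RK_meet L.cs hs3 (mem_inf.2 ⟨sup_le S.le S.le' hw.2, hw.1⟩)
    rwa [le_antisymm h2 (h.Z_le (mem_inf.2 ⟨h.z_mem_R L.cs, mem_sup_left S.zE⟩)), h.Z_card,
      hEE] at h1
  have hperpX := h.perp_card hXQ hzX
  have hne : ¬ ∀ u ∈ E, ∀ v ∈ E, Commute u v := by
    intro hab
    have h1 : E ⊔ E' ≤ perp Q (RR Q s ⊔ (E ⊔ E')) := by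
      have hEE' : ∀ e ∈ E, ∀ y ∈ RR Q s ⊔ (E ⊔ E'), Commute e y := by
        intro e he
        have hle : RR Q s ⊔ (E ⊔ E') ≤ centralizer {e} := sup_le
          (fun r hr => mem_centralizer_singleton_iff.2 (h.commute_R_K L.cs hr (S.le he)).eq)
          (sup_le (fun r hr => mem_centralizer_singleton_iff.2 (hab r hr e he).eq)
            (fun r hr => mem_centralizer_singleton_iff.2 (S.comm e he r hr).eq.symm))
        exact fun y hy => (mem_centralizer_singleton_iff.1 (hle hy)).symm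
      refine sup_le (fun e he => mem_perp.2 ⟨hEQ he, hEE' e he⟩) fun e' he' => ?_
      obtain ⟨e, he, rfl⟩ := S.surj e' he'
      have hle : RR Q s ⊔ (E ⊔ E') ≤ centralizer {c * e * c⁻¹} := by
        refine sup_le (fun r hr => ?_) (sup_le (fun r hr => ?_) fun r hr => ?_)
        · exact mem_centralizer_singleton_iff.2 (h.commute_R_K L.cs hr (S.le' he')).eq
        · exact mem_centralizer_singleton_iff.2 (S.comm r hr _ he').eq
        · obtain ⟨e₁, he₁, rfl⟩ := S.surj r hr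
          exact mem_centralizer_singleton_iff.2 ((Commute.conj_iff c).2 (hab e₁ he₁ e he)).eq
      exact mem_perp.2 ⟨hE'Q he', fun y hy => (mem_centralizer_singleton_iff.1 (hle hy)).symm⟩
    have h2 := card_le_of_le h1
    rw [hEE] at h2
    nlinarith
  have hEz := h.sq_eq_z hEQ S.zE h8 L.ca (h.three_a L) S.stab_a S.fpf hne
  have hEnd := h.nondeg hEQ S.zE h8 L.ca (h.three_a L) S.stab_a S.fpf hne
  have hE'z : ∀ v ∈ E', v ∉ zpowers z → v * v = z := by
    intro v hv hvz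
    obtain ⟨e, he, rfl⟩ := S.surj v hv
    rw [h.sq_conj L.cc (hEQ he)]
    refine hEz e he fun he' => hvz ?_
    rcases h.mem_Z.1 he' with r | r <;> rw [r]
    · simp
    · rw [L.cc.eq, mul_inv_cancel_right]; exact mem_zpowers z
  have hKsor : Nat.card (KK Q s) = 32 ∨ Nat.card (KK Q s) = 128 := by
    obtain ⟨k, hk, ek⟩ := h.card_pow (h.K_le s)
    rcases h.fpf_card L.cs hs3 (h.R_le s) (h.z_mem_R L.cs)
      (fun w hw => h.R_stab L.cs L.cs (Commute.refl _) hw) (h.RK_meet L.cs hs3) with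
      r | r | r | r | r <;> rw [r] at hRK hRs2 <;> omega
  have hK128 : Nat.card (KK Q s) = 128 := by
    refine hKsor.resolve_left fun h32 => ?_
    have hKeq : E ⊔ E' = KK Q s := eq_of_le_of_card_ge (sup_le S.le S.le') (by rw [h32, hEE])
    set W := {w | w ∈ KK Q s ∧ w * w = z} with hW
    have hWeq : W = ((E : Set G) \ zpowers z) ∪ ((E' : Set G) \ zpowers z) := by
      ext w
      constructor
      · rintro ⟨hw, e⟩
        obtain ⟨u, hu, v, hv, rfl⟩ := h.mem_sup_prod hEQ hE'Q S.zE' (hKeq.ge hw)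
        rw [Commute.mul_mul_mul_comm (S.comm u hu v hv).symm] at e
        by_cases hu' : u ∈ zpowers z
        · refine Or.inr ⟨mul_mem (h.Z_le S.zE' hu') hv, fun huv => h.z_ne ?_⟩
          have hv' : v ∈ zpowers z := by
            have := mul_mem (inv_mem hu') huv
            rwa [inv_mul_cancel_left] at this
          rw [← e]
          rcases h.mem_Z.1 hu' with r | r <;> rcases h.mem_Z.1 hv' with r' | r' <;>
            simp [r, r', h.zz]
        by_cases hv' : v ∈ zpowers z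
        · refine Or.inl ⟨mul_mem hu (h.Z_le S.zE hv'), fun huv => hu' ?_⟩
          have := mul_mem huv (inv_mem hv')
          rwa [mul_inv_cancel_right] at this
        · rw [hEz u hu hu', hE'z v hv hv', h.zz] at e
          exact absurd e.symm h.z_ne
      · rintro (⟨hw, hwz⟩ | ⟨hw, hwz⟩)
        · exact ⟨S.le hw, hEz w hw hwz⟩
        · exact ⟨S.le' hw, hE'z w hw hwz⟩
    have hncard : ∀ H : Subgroup G, z ∈ H → Nat.card H = 8 →
        ((H : Set G) \ zpowers z).ncard = 6 := by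
      intro H hzH h8'
      rw [Set.ncard_sdiff (h.Z_le hzH), ← Nat.card_coe_set_eq, ← Nat.card_coe_set_eq]
      show Nat.card H - Nat.card (zpowers z) = 6
      rw [h8', h.Z_card]
    have h12 : W.ncard = 12 := by
      rw [hWeq, Set.ncard_union_eq (Set.disjoint_left.2 fun w hw hw' =>
        hw.2 (S.meet (mem_inf.2 ⟨hw.1, hw'.1⟩))), hncard E S.zE h8,
        hncard E' S.zE' (by rw [S.card_eq, h8])]
    obtain ⟨x, hx, ex⟩ := h.range (1, pX) (map_one _) sign_pX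
    haveI : Fact (Nat.Prime 5) := ⟨Nat.prime_five⟩
    have hp5 : π x ^ 5 = 1 := by rw [ex]; exact Prod.ext (one_pow 5) pX_five.1
    have hcm := h.card_mod (n := 1) hx (by rwa [pow_one]) (W := W) (fun w hw => h.K_le s hw.1)
      (fun w hw => ⟨mul_mem hw.1 (h.z_mem_K L.cs), by
        rw [Commute.mul_mul_mul_comm (h.cz (h.K_le s hw.1)).symm, hw.2, h.zz, mul_one]⟩)
      (fun w hw => ⟨h.K_stab hx L.cs (hc ex) hw.1, (h.sq_conj hx (h.K_le s hw.1)).trans hw.2⟩)
    rw [h12] at hcm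
    obtain ⟨w, ⟨hw, hww⟩, ew⟩ : Set.Nonempty {w | w ∈ W ∧ bar Q (x * w * x⁻¹) = bar Q w} := by
      rw [Set.nonempty_iff_ne_empty]
      intro e0
      rw [e0, Set.ncard_empty] at hcm
      omega
    have hwz : w ∉ zpowers z := fun hwz => h.z_ne (by
      rcases h.mem_Z.1 hwz with r | r
      · rw [r, one_mul] at hww; exact hww.symm
      · rw [r, h.zz] at hww; exact hww.symm)
    have hmod := h.card_mod_subgroup hx hp5 (h.K_le s) (h.z_mem_K L.cs)
      (fun v hv => h.K_stab hx L.cs (hc ex) hv)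
    rw [h32] at hmod
    have hHle := card_le_of_le (inf_le_right : KK Q x ⊓ KK Q s ≤ KK Q s)
    have hgt : 2 < Nat.card ↥(KK Q x ⊓ KK Q s) := by
      by_contra hle
      have hZle := h.Z_le (mem_inf.2 ⟨h.z_mem_K hx, h.z_mem_K L.cs⟩)
      have := eq_of_le_of_card_ge hZle (by rw [h.Z_card]; omega)
      exact hwz (this.ge (mem_inf.2 ⟨(h.mem_K hx).2 ⟨h.K_le s hw, ew⟩, hw⟩))
    obtain ⟨k, hk, ek⟩ := h.card_pow (inf_le_right.trans (h.K_le s) : KK Q x ⊓ KK Q s ≤ Q)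
    rw [ek, h32] at hHle
    rw [ek] at hmod hgt
    have hk5 : k = 5 := by interval_cases k <;> simp_all
    have hKs : KK Q s ≤ KK Q x := inf_eq_right.1 (eq_of_le_of_card_ge inf_le_right
      (by rw [ek, hk5, h32]; norm_num))
    have h1 : Q ≤ KK Q x :=
      (eq_of_le_of_card_ge (sup_le (h.R_le s) (h.K_le s)) (by rw [hRKsup, h.card])).ge.trans
        (sup_le (hgen pX x hx ex pX_gen) hKs)
    have := (h.ker x hx).2 (h.mem_of_K_eq hx h1)
    rw [ex] at this
    exact pX_five.2 (congrArg Prod.snd this)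
  have hRs8 : Nat.card (RR Q s) = 8 := by rw [hK128] at hRK; omega
  have hRsne : ¬ ∀ u ∈ RR Q s, ∀ v ∈ RR Q s, Commute u v := by
    intro hab
    have h1 : RR Q s ≤ KK Q s := by
      intro u hu
      rw [h.K_eq_perp L.cs]
      exact mem_perp.2 ⟨h.R_le s hu, hab u hu⟩
    have := card_le_of_le (le_inf h1 le_rfl |>.trans (h.RK_meet L.cs hs3))
    rw [hRs8, h.Z_card] at this
    omega
  have hanis := h.sq_eq_z (h.R_le s) (h.z_mem_R L.cs) hRs8 L.cs (h.three_s L)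
    (fun w hw => h.R_stab L.cs L.cs (Commute.refl _) hw) (h.RK_meet L.cs hs3) hRsne
  -- the third piece
  set C := perp Q (RR Q s ⊔ (E ⊔ E')) with hC
  have hCQ : C ≤ Q := perp_le
  have hC8 : Nat.card C = 8 := by
    rw [hRs8] at hX
    have : Nat.card ↥(RR Q s ⊔ (E ⊔ E')) = 128 := by omega
    rw [this] at hperpX
    omega
  have hzC : z ∈ C := h.z_mem_perp hXQ
  have hCK : C ≤ KK Q s := by
    rw [h.K_eq_perp L.cs]; exact perp_anti le_sup_left
  have hCc : ∀ w ∈ C, c * w * c⁻¹ ∈ C := by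
    intro w hw
    have hle : RR Q s ⊔ (E ⊔ E') ≤ centralizer {c * w * c⁻¹} := by
      have key : ∀ y, (∃ y' ∈ RR Q s ⊔ (E ⊔ E'), c * y' * c⁻¹ = y) →
          y ∈ centralizer {c * w * c⁻¹} := by
        rintro y ⟨y', hy', rfl⟩
        exact mem_centralizer_singleton_iff.2
          ((Commute.conj_iff c).2 ((mem_perp.1 hw).2 y' hy')).eq.symm
      refine sup_le (fun r hr => key r ⟨c⁻¹ * r * c⁻¹⁻¹, mem_sup_left ?_, by group⟩)
        (sup_le (fun r hr => key r ?_) (fun r hr => key r ?_))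
      · exact h.R_stab L.cc.inv_left L.cs (by rw [h.pi_inv L.cc]; exact (hc L.ec).inv_left) hr
      · have hinj : Function.Injective (fun w : E' => (⟨c * w.1 * c⁻¹, S.back w w.2⟩ : E)) :=
          fun u v e => Subtype.ext (mul_left_cancel (mul_right_cancel (congrArg Subtype.val e)))
        obtain ⟨y, hy⟩ := ((Nat.bijective_iff_injective_and_card _).2 ⟨hinj, S.card_eq⟩).2 ⟨r, hr⟩
        exact ⟨y, mem_sup_right (mem_sup_right y.2), congrArg Subtype.val hy⟩
      · obtain ⟨e, he, e1⟩ := S.surj r hr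
        exact ⟨e, mem_sup_right (mem_sup_left he), e1⟩
    exact mem_perp.2 ⟨h.conjQ L.cc (hCQ hw),
      fun y hy => (mem_centralizer_singleton_iff.1 (hle hy)).symm⟩
  have hCmeet : ∀ w ∈ C, w ∈ E ⊔ E' → w ∈ zpowers z := by
    intro w hw hwE
    obtain ⟨u, hu, v, hv, rfl⟩ := h.mem_sup_prod hEQ hE'Q S.zE' hwE
    have hu' : u ∈ zpowers z := hEnd u hu fun y hy => by
      have h1 := (mem_perp.1 hw).2 y (mem_sup_right (mem_sup_left hy))
      have := h1.mul_left ((S.comm y hy v hv).symm.inv_left)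
      rwa [mul_inv_cancel_right] at this
    have hv' : v ∈ zpowers z := by
      obtain ⟨e, he, rfl⟩ := S.surj v hv
      have : e ∈ zpowers z := hEnd e he fun y hy => by
        have h1 := (mem_perp.1 hw).2 _ (mem_sup_right (mem_sup_right (S.mapc y hy)))
        have h2 := (S.comm u hu _ (S.mapc y hy)).inv_left.mul_left h1
        rw [inv_mul_cancel_left] at h2
        exact (Commute.conj_iff c).1 h2
      rcases h.mem_Z.1 this with r | r <;> rw [r]
      · simp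
      · rw [L.cc.eq, mul_inv_cancel_right]; exact mem_zpowers z
    exact mul_mem hu' hv'
  have hf : Commute (c * c) z := L.cc.mul_left L.cc
  have hCf : C ≤ KK Q (c * c) := by
    intro u hu
    haveI : Fact (Nat.Prime 2) := ⟨Nat.prime_two⟩
    have hp4 : π c ^ 2 ^ 2 = 1 := by
      rw [L.ec]
      refine Prod.ext (one_pow _) ?_
      show pY ^ 4 = 1
      rw [show (4 : ℕ) = 2 + 2 from rfl, pow_add, pow_two]
      exact pY_conj.2.2
    have hW : ((C : Set G) \ zpowers z).ncard = 6 := by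
      rw [Set.ncard_sdiff (h.Z_le hzC), ← Nat.card_coe_set_eq, ← Nat.card_coe_set_eq]
      show Nat.card C - Nat.card (zpowers z) = 6
      rw [hC8, h.Z_card]
    have hcm := h.card_mod (n := 2) L.cc hp4 (W := (C : Set G) \ zpowers z) (fun w hw => hCQ hw.1)
      (fun w hw => ⟨mul_mem hw.1 hzC, fun hz' => hw.2 (by
        have := mul_mem hz' (inv_mem (mem_zpowers z))
        rwa [mul_inv_cancel_right] at this)⟩)
      (fun w hw => ⟨hCc w hw.1, fun hz' => hw.2 (by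
        rcases h.mem_Z.1 hz' with r | r
        · rw [show w = 1 by simpa using r]; exact one_mem _
        · rw [show w = z by
            calc w = c⁻¹ * (c * w * c⁻¹) * c := by group
              _ = z := by rw [r, mul_assoc, ← L.cc.eq, inv_mul_cancel_left]]
          exact mem_zpowers z)⟩)
    rw [hW] at hcm
    obtain ⟨v, ⟨hv, hvz⟩, ev⟩ : Set.Nonempty
        {w | w ∈ (C : Set G) \ zpowers z ∧ bar Q (c * w * c⁻¹) = bar Q w} := by
      rw [Set.nonempty_iff_ne_empty]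
      intro e0
      rw [e0, Set.ncard_empty] at hcm
      omega
    refine (h.mem_K hf).2 ⟨hCQ hu, ?_⟩
    rw [show c * c * u * (c * c)⁻¹ = c * (c * u * c⁻¹) * c⁻¹ by group]
    have hfix : ∀ y ∈ C, bar Q (c * y * c⁻¹) = bar Q y →
        bar Q (c * (c * y * c⁻¹) * c⁻¹) = bar Q y := fun y hy e =>
      (h.bar_conj_congr L.cc (h.conjQ L.cc (hCQ hy)) (hCQ hy) e).trans e
    have hcu := hCc u hu
    by_cases huz : u ∈ zpowers z
    · refine hfix u hu ?_
      rcases h.mem_Z.1 huz with r | r <;> rw [r]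
      · simp
      · rw [L.cc.eq, mul_inv_cancel_right]
    by_cases huv : bar Q v = bar Q u
    · refine hfix u hu ?_
      rw [h.bar_conj_congr L.cc (hCQ hu) (hCQ hv) huv.symm, ev, huv]
    rcases h.four hCQ hzC hC8 hv hvz hu huz huv hcu with r | r | r | r
    · exfalso
      refine huz ((h.bar_eq_one (hCQ hu)).1 ?_)
      rw [← bar_one] at r
      have := h.bar_conj_congr L.cc.inv_left (hCQ hcu) (one_mem Q) r
      rwa [show c⁻¹ * (c * u * c⁻¹) * c⁻¹⁻¹ = u by group, mul_one, mul_inv_cancel, bar_one] at this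
    · exfalso
      refine huv ?_
      have := h.bar_conj_congr L.cc.inv_left (hCQ hcu) (h.conjQ L.cc (hCQ hv)) (r.trans ev.symm)
      rwa [show c⁻¹ * (c * u * c⁻¹) * c⁻¹⁻¹ = u by group,
        show c⁻¹ * (c * v * c⁻¹) * c⁻¹⁻¹ = v by group, eq_comm] at this
    · exact hfix u hu r
    · rw [← bar_mul (hCQ hv) (hCQ hu)] at r
      rw [h.bar_conj_congr L.cc (hCQ hcu) (mul_mem (hCQ hv) (hCQ hu)) r,
        show c * (v * u) * c⁻¹ = c * v * c⁻¹ * (c * u * c⁻¹) by group,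
        bar_mul (h.conjQ L.cc (hCQ hv)) (hCQ hcu), ev, r, bar_mul (hCQ hv) (hCQ hu), ← mul_assoc,
        h.bar_sq (hCQ hv), one_mul]
  -- the double transposition `c²`
  have ef : π (c * c) = (1, pF) := h.pi_cc L
  have hf2 : π (c * c) * π (c * c) = 1 := by rw [ef, Prod.mk_mul_mk, one_mul, pF_dt.1]; rfl
  have hRsf : RR Q s ≤ KK Q (c * c) := hgen pF _ hf ef pF_gen
  have hRf_le : RR Q (c * c) ≤ E ⊔ E' := by
    have h1 : RR Q s ⊔ C ≤ KK Q (c * c) := sup_le hRsf hCf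
    have h2 : E ⊔ E' ≤ perp Q (RR Q s ⊔ C) := by
      intro w hw
      have hle : RR Q s ⊔ C ≤ centralizer {w} := sup_le
        (fun r hr => mem_centralizer_singleton_iff.2
          (h.commute_R_K L.cs hr (sup_le S.le S.le' hw)).eq)
        (fun r hr => mem_centralizer_singleton_iff.2 ((mem_perp.1 hr).2 w (mem_sup_right hw)).eq)
      exact mem_perp.2 ⟨hEEQ hw, fun y hy => (mem_centralizer_singleton_iff.1 (hle hy)).symm⟩
    have h3 := h.card_sup (h.R_le s) hCQ (h.z_mem_R L.cs) hzC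
    have h4 : RR Q s ⊓ C ≤ zpowers z := fun w hw =>
      h.RK_meet L.cs hs3 (mem_inf.2 ⟨hCK hw.2, hw.1⟩)
    rw [le_antisymm h4 (h.Z_le (mem_inf.2 ⟨h.z_mem_R L.cs, hzC⟩)), h.Z_card, hRs8, hC8] at h3
    have h5 := h.perp_card (H := RR Q s ⊔ C) (sup_le (h.R_le s) hCQ) (mem_sup_right hzC)
    rw [show Nat.card ↥(RR Q s ⊔ C) = 32 by omega] at h5
    rw [eq_of_le_of_card_ge h2 (by omega), h.R_eq_perp hf]
    exact perp_anti h1
  have hfix0 : ∃ v ∈ E, v ∉ zpowers z ∧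
      bar Q ((c * c) * v * (c * c)⁻¹) = bar Q v := by
    haveI : Fact (Nat.Prime 2) := ⟨Nat.prime_two⟩
    have hcm := h.card_mod_subgroup hf (by rw [pow_two, hf2]) hEQ S.zE S.stab_f
    rw [h8] at hcm
    obtain ⟨v, hv, hvz⟩ : ∃ v ∈ KK Q (c * c) ⊓ E, v ∉ zpowers z :=
      SetLike.not_le_iff_exists.1 fun hle => by
        have h1 := le_antisymm hle (h.Z_le (mem_inf.2 ⟨h.z_mem_K hf, S.zE⟩))
        rw [h1, h.Z_card] at hcm
        omega
    exact ⟨v, hv.2, hvz, ((h.mem_K hf).1 hv.1).2⟩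
  obtain ⟨v₀, hv₀, hv₀z, efix⟩ := hfix0
  set v₁ := a * v₀ * a⁻¹ with hv₁
  have hv₁E : v₁ ∈ E := S.stab_a v₀ hv₀
  have hv₀Q := hEQ hv₀
  have e1 : bar Q ((c * c) * v₁ * (c * c)⁻¹) = bar Q v₀ * bar Q v₁ := by
    have h2 : bar Q ((c * c) * v₁ * (c * c)⁻¹) = bar Q (a * a * v₀ * (a * a)⁻¹) := by
      rw [hv₁, show c * c * (a * v₀ * a⁻¹) * (c * c)⁻¹ = (c * c * a) * v₀ * (c * c * a)⁻¹ by group,
        h.bar_conj_pi (hf.mul_left L.ca) ((L.ca.mul_left L.ca).mul_left hf) (by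
          rw [h.map_mul _ _ hf L.ca, h.map_mul _ _ (L.ca.mul_left L.ca) hf,
            h.map_mul _ _ L.ca L.ca, ef, L.ea, Prod.mk_mul_mk, Prod.mk_mul_mk, Prod.mk_mul_mk,
            pAB_sq.2.1, one_mul, one_mul]
          refine Prod.ext rfl ?_
          show pY * pY * pA = pA⁻¹ * (pY * pY)
          rw [← mul_inv_eq_iff_eq_mul]
          exact pY_facts.1) hv₀Q,
        show a * a * (c * c) * v₀ * (a * a * (c * c))⁻¹ =
          a * a * ((c * c) * v₀ * (c * c)⁻¹) * (a * a)⁻¹ by group]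
      exact h.bar_conj_congr (L.ca.mul_left L.ca) (h.conjQ hf hv₀Q) hv₀Q efix
    rw [h2]
    have hne0 : bar Q v₀ ≠ bar Q v₁ := fun e => hv₀z (S.fpf (mem_inf.2
      ⟨(h.mem_K L.ca).2 ⟨hv₀Q, e.symm⟩, hv₀⟩))
    have hv₁z : v₁ ∉ zpowers z := fun e => hv₀z (by
      rcases h.mem_Z.1 e with r | r
      · rw [show v₀ = 1 by simpa [hv₁] using r]; exact one_mem _
      · rw [show v₀ = z by
          calc v₀ = a⁻¹ * v₁ * a := by rw [hv₁]; group
            _ = z := by rw [r, mul_assoc, ← L.ca.eq, inv_mul_cancel_left]]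
        exact mem_zpowers z)
    rcases h.four hEQ S.zE h8 hv₀ hv₀z hv₁E hv₁z hne0
      (show a * a * v₀ * (a * a)⁻¹ ∈ E by
          rw [show a * a * v₀ * (a * a)⁻¹ = a * (a * v₀ * a⁻¹) * a⁻¹ by group]
          exact S.stab_a _ hv₁E) with r | r | r | r
    · exfalso
      refine hv₀z ((h.bar_eq_one hv₀Q).1 ?_)
      rw [← bar_one] at r
      have := h.bar_conj_congr (L.ca.mul_left L.ca).inv_left
        (h.conjQ (L.ca.mul_left L.ca) hv₀Q) (one_mem Q) r
      rwa [show (a * a)⁻¹ * (a * a * v₀ * (a * a)⁻¹) * (a * a)⁻¹⁻¹ = v₀ by group, mul_one,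
        mul_inv_cancel, bar_one] at this
    · exfalso
      refine hne0 ?_
      have := h.bar_conj_congr L.ca (h.conjQ (L.ca.mul_left L.ca) hv₀Q) hv₀Q r
      rw [show a * (a * a * v₀ * (a * a)⁻¹) * a⁻¹ = a ^ 3 * v₀ * (a ^ 3)⁻¹ by
          rw [pow_three']; group,
        h.bar_conj_mem ((h.ker _ (L.ca.pow_left 3)).1
          (by rw [h.pi_pow L.ca, pow_three', h.three_a L])) hv₀Q] at this
      exact this
    · exfalso
      refine hne0 ?_
      have := h.bar_conj_congr L.ca.inv_left (h.conjQ (L.ca.mul_left L.ca) hv₀Q) (hEQ hv₁E) r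
      rw [show a⁻¹ * (a * a * v₀ * (a * a)⁻¹) * a⁻¹⁻¹ = a * v₀ * a⁻¹ by group,
        hv₁, show a⁻¹ * (a * v₀ * a⁻¹) * a⁻¹⁻¹ = v₀ by group] at this
      exact this.symm
    · exact r
  have hcomm : bar Q ⁅c * c, v₁⁆ = bar Q v₀ := by
    rw [h.bar_comm hf (hEQ hv₁E), e1, mul_assoc, h.bar_sq (hEQ hv₁E), mul_one]
  have hv₀R : v₀ ∈ RR Q (c * c) :=
    h.mem_of_bar (h.z_mem_R hf) (h.commQ hf (hEQ hv₁E)) hv₀Q hcomm
      (h.comm_mem_R hf (hEQ hv₁E))
  have hnflat : ¬ Flat Q (c * c) := fun hfl => by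
    have h1 := hfl v₁ (hEQ hv₁E)
    rw [h.sq_congr (h.commQ hf (hEQ hv₁E)) hv₀Q hcomm, hEz v₀ hv₀ hv₀z] at h1
    exact h.z_ne h1
  have cfc : Commute (π c) (π (c * c)) := by
    rw [h.map_mul _ _ L.cc L.cc]; exact (Commute.refl _).mul_right (Commute.refl _)
  set v₂ := c * v₀ * c⁻¹ with hv₂
  have hv₂R : v₂ ∈ RR Q (c * c) := h.R_stab L.cc hf cfc hv₀R
  have hRKf := h.R_le_K hf hf2
  have hKE : ∀ {H : Subgroup G}, H ≤ Q → z ∈ H → Nat.card H = 8 → ¬ H ≤ KK Q (c * c) →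
      Nat.card ↥(KK Q (c * c) ⊓ H) ≤ 4 := by
    intro H hH hzH h8' hne'
    obtain ⟨k, hk, ek⟩ := h.card_pow (inf_le_right.trans hH : KK Q (c * c) ⊓ H ≤ Q)
    have h1 := card_le_of_le (inf_le_right : KK Q (c * c) ⊓ H ≤ H)
    rw [ek, h8'] at h1
    by_contra h4
    rw [ek] at h4
    have hk3 : k = 3 := by interval_cases k <;> simp_all
    exact hne' (inf_eq_right.1 (eq_of_le_of_card_ge inf_le_right (by rw [ek, hk3, h8']; norm_num)))
  have hEnK : ¬ E ≤ KK Q (c * c) := fun hle => by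
    have h1 := ((h.mem_K hf).1 (hle hv₁E)).2
    rw [e1] at h1
    exact hv₀z ((h.bar_eq_one hv₀Q).1 (mul_eq_right.1 h1))
  have hKfE : KK Q (c * c) ⊓ (E ⊔ E') ≤ (KK Q (c * c) ⊓ E) ⊔ (KK Q (c * c) ⊓ E') := by
    intro w hw
    obtain ⟨u, hu, v, hv, rfl⟩ := h.mem_sup_prod hEQ hE'Q S.zE' hw.2
    have hvf : (c * c) * v * (c * c)⁻¹ ∈ E' := by
      obtain ⟨e, he, rfl⟩ := S.surj v hv
      rw [show c * c * (c * e * c⁻¹) * (c * c)⁻¹ = c * ((c * c) * e * (c * c)⁻¹) * c⁻¹ by group]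
      exact S.mapc _ (S.stab_f e he)
    have e2 := ((h.mem_K hf).1 hw.1).2
    have huf := S.stab_f u hu
    rw [show c * c * (u * v) * (c * c)⁻¹ = c * c * u * (c * c)⁻¹ * (c * c * v * (c * c)⁻¹) by group,
      bar_mul (hEQ huf) (hE'Q hvf), bar_mul (hEQ hu) (hE'Q hv)] at e2
    set u' := c * c * u * (c * c)⁻¹
    set v' := c * c * v * (c * c)⁻¹
    have e3 : bar Q (u' * u) = bar Q (v' * v) := by
      rw [bar_mul (hEQ huf) (hEQ hu), bar_mul (hE'Q hvf) (hE'Q hv)]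
      refine mul_right_cancel (b := bar Q v' * bar Q v) ?_
      rw [mul_mul_mul_comm (bar Q v') (bar Q v) (bar Q v') (bar Q v), h.bar_sq (hE'Q hvf),
        h.bar_sq (hE'Q hv), one_mul, mul_mul_mul_comm (bar Q u'), e2, mul_mul_mul_comm,
        h.bar_sq (hEQ hu), h.bar_sq (hE'Q hv), one_mul]
    have hin : u' * u ∈ E' := h.mem_of_bar S.zE' (hE'Q (mul_mem hvf hv)) (hEQ (mul_mem huf hu))
      e3.symm (mul_mem hvf hv)
    have e4 := (h.bar_eq_one (hEQ (mul_mem huf hu))).2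
      (S.meet (mem_inf.2 ⟨mul_mem huf hu, hin⟩))
    have e5 := e3.symm.trans e4
    rw [bar_mul (hEQ huf) (hEQ hu)] at e4
    rw [bar_mul (hE'Q hvf) (hE'Q hv)] at e5
    exact mul_mem
      (mem_sup_left (mem_inf.2 ⟨(h.mem_K hf).2
        ⟨hEQ hu, mul_right_cancel (e4.trans (h.bar_sq (hEQ hu)).symm)⟩, hu⟩))
      (mem_sup_right (mem_inf.2 ⟨(h.mem_K hf).2
        ⟨hE'Q hv, mul_right_cancel (e5.trans (h.bar_sq (hE'Q hv)).symm)⟩, hv⟩))
  have hE'nK : ¬ E' ≤ KK Q (c * c) := fun hle => hEnK fun e he => by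
    have := h.K_stab L.cc.inv_left hf (by rw [h.pi_inv L.cc]; exact cfc.inv_left)
      (hle (S.mapc e he))
    rwa [show c⁻¹ * (c * e * c⁻¹) * c⁻¹⁻¹ = e by group] at this
  have hRf8 : Nat.card (RR Q (c * c)) = 8 := by
    refine le_antisymm ?_ ?_
    · have h1 := card_le_of_le ((le_inf hRKf hRf_le).trans hKfE)
      have h2 := h.card_sup (inf_le_right.trans hEQ : KK Q (c * c) ⊓ E ≤ Q)
        (inf_le_right.trans hE'Q : KK Q (c * c) ⊓ E' ≤ Q)
        (mem_inf.2 ⟨h.z_mem_K hf, S.zE⟩) (mem_inf.2 ⟨h.z_mem_K hf, S.zE'⟩)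
      have h3 : 2 ≤ Nat.card ↥(KK Q (c * c) ⊓ E ⊓ (KK Q (c * c) ⊓ E')) := h.Z_card ▸
        card_le_of_le (h.Z_le (mem_inf.2 ⟨mem_inf.2 ⟨h.z_mem_K hf, S.zE⟩,
          mem_inf.2 ⟨h.z_mem_K hf, S.zE'⟩⟩))
      have h4 := hKE hEQ S.zE h8 hEnK
      have h5 := hKE hE'Q S.zE' (by rw [S.card_eq, h8]) hE'nK
      have h6 := Nat.mul_le_mul h4 h5
      nlinarith
    · obtain ⟨k, hk, ek⟩ := h.card_pow (h.R_le (c * c))
      have h1 := h.card_sup (inf_le_left.trans (h.R_le (c * c)) : RR Q (c * c) ⊓ E ≤ Q)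
        (inf_le_left.trans (h.R_le (c * c)) : RR Q (c * c) ⊓ E' ≤ Q)
        (mem_inf.2 ⟨h.z_mem_R hf, S.zE⟩) (mem_inf.2 ⟨h.z_mem_R hf, S.zE'⟩)
      have hmz : RR Q (c * c) ⊓ E ⊓ (RR Q (c * c) ⊓ E') ≤ zpowers z :=
        fun w hw => S.meet (mem_inf.2 ⟨hw.1.2, hw.2.2⟩)
      rw [le_antisymm hmz (h.Z_le (mem_inf.2 ⟨mem_inf.2 ⟨h.z_mem_R hf, S.zE⟩,
        mem_inf.2 ⟨h.z_mem_R hf, S.zE'⟩⟩)), h.Z_card] at h1
      have hgt : ∀ {H : Subgroup G}, H ≤ Q → z ∈ H → ∀ v ∈ H, v ∉ zpowers z → 3 ≤ Nat.card H := by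
        intro H hH hzH v hv hvz
        by_contra hlt
        exact hvz ((eq_of_le_of_card_ge (h.Z_le hzH) (by rw [h.Z_card]; omega)).ge hv)
      have hv₂z : v₂ ∉ zpowers z := fun e => hv₀z (S.meet (mem_inf.2 ⟨hv₀, by
        rcases h.mem_Z.1 e with r | r
        · rw [show v₀ = 1 by simpa [hv₂] using r]; exact one_mem _
        · rw [show v₀ = z by
            calc v₀ = c⁻¹ * v₂ * c := by rw [hv₂]; group
              _ = z := by rw [r, mul_assoc, ← L.cc.eq, inv_mul_cancel_left]]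
          exact S.zE'⟩))
      have g1 := hgt (inf_le_left.trans (h.R_le _)) (mem_inf.2 ⟨h.z_mem_R hf, S.zE⟩) v₀
        (mem_inf.2 ⟨hv₀R, hv₀⟩) hv₀z
      have g2 := hgt (inf_le_left.trans (h.R_le _)) (mem_inf.2 ⟨h.z_mem_R hf, S.zE'⟩) v₂
        (mem_inf.2 ⟨hv₂R, S.mapc v₀ hv₀⟩) hv₂z
      have g3 : Nat.card ↥(RR Q (c * c) ⊓ E ⊔ RR Q (c * c) ⊓ E') ≤ Nat.card (RR Q (c * c)) :=
        card_le_of_le (sup_le inf_le_left inf_le_left)
      have g4 := Nat.mul_le_mul g1 g2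
      rw [ek] at g3 ⊢
      by_contra hlt
      have hk2 : k ≤ 2 := by
        by_contra hk2
        exact hlt ((Nat.pow_le_pow_right two_pos (show 3 ≤ k by omega)).trans' (by norm_num))
      have := Nat.pow_le_pow_right two_pos hk2
      nlinarith
  refine ⟨?_, fun s' hs' es' => ?_, fun s' hs' es' e he hez => ?_⟩
  · intro x p hx ex hp
    obtain ⟨u, hu, eu⟩ := dt_conj p hp
    obtain ⟨m, hm, em⟩ := h.range (1, u) (map_one _) hu
    have e : π x = π m * π (c * c) * (π m)⁻¹ := by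
      rw [ex, em, ef, Prod.inv_mk, Prod.mk_mul_mk, Prod.mk_mul_mk, ← eu]; simp
    have hRx := (h.R_card_conj hm hf hx e).trans hRf8
    refine ⟨hRx, ?_, fun hfl => hnflat (h.flat_conj hm.inv_left hx hf (by
      rw [h.pi_inv hm, e]; group) hfl)⟩
    have := h.RK_card hx
    rw [hRx] at this
    omega
  · rw [h.R_congr hs' L.cs (es'.trans L.es.symm)]; exact hRs8
  · rw [h.R_congr hs' L.cs (es'.trans L.es.symm)] at he
    exact hanis e he hez

omit L

theorem shape : ShapeT z Q π ∨ ShapeS z Q π := by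
  obtain ⟨s, a, b, c, L⟩ := h.exists_lifts
  by_cases htriv : RR Q s ≤ KK Q a
  · exact Or.inr (h.shapeS_of_trivial L htriv)
  · obtain ⟨w, hw, hwK⟩ := SetLike.not_le_iff_exists.1 htriv
    exact Or.inl (h.shapeT_of_nontrivial L hw hwK)

end Nine

end CfsgLib.ExtraNine
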